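import Mathlib

/-!
# Counting conjugacy classes: subgroups, normal subgroups and quotients

`k(G) = Nat.card (ConjClasses G)`.

* `card_conjClasses_mul_card` : `k(G) * |G| = ∑ x, |C_G(x)|`
* `le_index_mul`, `le_index_mul'`, `lt_index_mul_of_not_normal` : `k(Y) ≤ m k(X)`, `k(X) ≤ m k(Y)`, strict unless `Y ⊴ X`
* `le_normal_mul_quotient` : `k(X) ≤ k(N) k(X/N)`
-/

set_option autoImplicit false

namespace Cfsg.Agent.H540.ClassNum

open scoped Classical in
/-- `|C_X(x) ∩ Y|` -/
noncomputable def cent {X : Type*} [Group X] (x : X) (Y : Subgroup X) : ℕ :=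
  Nat.card {y : X // y ∈ Y ∧ Commute x y}

theorem cent_eq_card {X : Type*} [Group X] (x : X) (Y : Subgroup X) :
    cent x Y = Nat.card (Y ⊓ Subgroup.centralizer {x} : Subgroup X) := by
  unfold cent
  apply Nat.card_congr
  refine Equiv.subtypeEquivRight ?_
  intro y
  rw [Subgroup.mem_inf, Subgroup.mem_centralizer_singleton_iff]
  refine and_congr_right fun _ => ?_
  constructor
  · intro h; exact h.symm.eq
  · intro h
    have h' : Commute y x := h
    exact h'.symm

theorem cent_top {X : Type*} [Group X] (x : X) :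
    cent x (⊤ : Subgroup X) = Nat.card (Subgroup.centralizer ({x} : Set X)) := by
  rw [cent_eq_card, top_inf_eq]

theorem cent_pos {X : Type*} [Group X] [Finite X] (x : X) (Y : Subgroup X) : 0 < cent x Y := by
  rw [cent_eq_card]; exact Nat.card_pos

/-- `k(G) * |G| = ∑ x, |C_G(x)|`. -/
theorem card_conjClasses_mul_card {G : Type*} [Group G] [Fintype G] :
    Nat.card (ConjClasses G) * Nat.card G = ∑ x : G, cent x (⊤ : Subgroup G) := by
  classical
  rw [← card_comm_eq_card_conjClasses_mul_card]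
  have h : Nat.card { p : G × G // Commute p.1 p.2 } = Nat.card (Σ x : G, {y : G // y ∈ (⊤ : Subgroup G) ∧ Commute x y}) := by
    apply Nat.card_congr
    exact
      { toFun := fun p => ⟨p.1.1, p.1.2, Subgroup.mem_top _, p.2⟩
        invFun := fun p => ⟨(p.1, p.2.1), p.2.2.2⟩
        left_inv := fun p => rfl
        right_inv := fun p => rfl }
  rw [h, Nat.card_sigma]
  rfl

/-- Double counting of commuting pairs. -/
theorem sum_cent_eq {X : Type*} [Group X] [Fintype X] (Y Z : Subgroup X) [Fintype Y] [Fintype Z] :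
    ∑ z : Z, cent (z : X) Y = ∑ y : Y, cent (y : X) Z := by
  classical
  have h1 : Nat.card (Σ z : Z, {y : X // y ∈ Y ∧ Commute (z : X) y}) =
      Nat.card (Σ y : Y, {z : X // z ∈ Z ∧ Commute (y : X) z}) := by
    apply Nat.card_congr
    exact
      { toFun := fun p => ⟨⟨p.2.1, p.2.2.1⟩, ⟨p.1.1, p.1.2, p.2.2.2.symm⟩⟩
        invFun := fun p => ⟨⟨p.2.1, p.2.2.1⟩, ⟨p.1.1, p.1.2, p.2.2.2.symm⟩⟩
        left_inv := fun p => rfl
        right_inv := fun p => rfl }
  rw [Nat.card_sigma, Nat.card_sigma] at h1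
  exact h1

/-- `k(Y) * |Y| = ∑ y ∈ Y, |C_Y(y)|` for a subgroup `Y`. -/
theorem card_conjClasses_subgroup_mul_card {X : Type*} [Group X] [Fintype X] (Y : Subgroup X) [Fintype Y] :
    Nat.card (ConjClasses Y) * Nat.card Y = ∑ y : Y, cent (y : X) Y := by
  rw [card_conjClasses_mul_card]
  refine Finset.sum_congr rfl fun y _ => ?_
  unfold cent
  apply Nat.card_congr
  exact
    { toFun := fun p => ⟨p.1.1, p.1.2, by
        have := p.2.2
        exact congrArg Subtype.val this.eq⟩
      invFun := fun p => ⟨⟨p.1, p.2.1⟩, Subgroup.mem_top _, by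
        have := p.2.2
        exact Subtype.ext this.eq⟩
      left_inv := fun p => rfl
      right_inv := fun p => rfl }

theorem cent_mono {X : Type*} [Group X] [Finite X] (x : X) {Y Z : Subgroup X} (h : Y ≤ Z) :
    cent x Y ≤ cent x Z := by
  rw [cent_eq_card, cent_eq_card]
  exact Subgroup.card_le_of_le (inf_le_inf_right _ h)

/-- `|C_X(x)| = |C_X(x) : C_Y(x)| |C_Y(x)|` -/
theorem cent_top_eq {X : Type*} [Group X] [Finite X] (x : X) (Y : Subgroup X) :
    cent x (⊤ : Subgroup X) = cent x Y * Y.relIndex (Subgroup.centralizer {x}) := by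
  rw [cent_top, cent_eq_card, ← Subgroup.inf_relIndex_right Y, ← Subgroup.relIndex_bot_left,
    ← Subgroup.relIndex_bot_left, Subgroup.relIndex_mul_relIndex _ _ _ bot_le inf_le_right]

/-- `|C_X(x)| ≤ |X : Y| |C_Y(x)|` -/
theorem cent_top_le {X : Type*} [Group X] [Finite X] (x : X) (Y : Subgroup X) :
    cent x (⊤ : Subgroup X) ≤ Y.index * cent x Y := by
  rw [cent_top_eq x Y, mul_comm]
  refine Nat.mul_le_mul_right _ ?_
  rw [← Subgroup.relIndex_top_right]
  exact Subgroup.relIndex_le_of_le_right le_top (by rw [Subgroup.relIndex_top_right]; exact Subgroup.index_ne_zero_of_finite)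

/-- `k(Y) ≤ |X : Y| k(X)` -/
theorem le_index_mul {X : Type*} [Group X] [Finite X] (Y : Subgroup X) :
    Nat.card (ConjClasses Y) ≤ Y.index * Nat.card (ConjClasses X) := by
  classical
  have := Fintype.ofFinite X
  have := Fintype.ofFinite Y
  have hY : 0 < Nat.card Y := Nat.card_pos
  refine Nat.le_of_mul_le_mul_right ?_ hY
  rw [card_conjClasses_subgroup_mul_card]
  calc ∑ y : Y, cent (y : X) Y ≤ ∑ y : Y, cent (y : X) (⊤ : Subgroup X) :=
        Finset.sum_le_sum fun y _ => cent_mono _ le_top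
    _ ≤ ∑ x : X, cent (x : X) (⊤ : Subgroup X) := by
        have : ∑ y : Y, cent (y : X) (⊤ : Subgroup X) = ∑ x ∈ Finset.univ.image (fun y : Y => (y : X)), cent x (⊤ : Subgroup X) := by
          rw [Finset.sum_image]
          intro a _ b _ h
          exact Subtype.ext h
        rw [this]
        exact Finset.sum_le_sum_of_subset (Finset.subset_univ _)
    _ = Nat.card (ConjClasses X) * Nat.card X := card_conjClasses_mul_card.symm
    _ = Y.index * Nat.card (ConjClasses X) * Nat.card Y := by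
        rw [← Subgroup.index_mul_card Y]; ring

theorem sum_cent_top_aux {X : Type*} [Group X] [Fintype X] (Y : Subgroup X) [Fintype Y] :
    ∑ x : X, cent x Y = ∑ y : Y, cent (y : X) (⊤ : Subgroup X) := by
  classical
  have h1 : Nat.card (Σ z : X, {y : X // y ∈ Y ∧ Commute (z : X) y}) =
      Nat.card (Σ y : Y, {z : X // z ∈ (⊤ : Subgroup X) ∧ Commute (y : X) z}) := by
    apply Nat.card_congr
    exact
      { toFun := fun p => ⟨⟨p.2.1, p.2.2.1⟩, ⟨p.1, Subgroup.mem_top _, p.2.2.2.symm⟩⟩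
        invFun := fun p => ⟨p.2.1, ⟨p.1.1, p.1.2, p.2.2.2.symm⟩⟩
        left_inv := fun p => rfl
        right_inv := fun p => rfl }
  rw [Nat.card_sigma, Nat.card_sigma] at h1
  exact h1

/-- `k(X) ≤ |X : Y| k(Y)` -/
theorem le_index_mul' {X : Type*} [Group X] [Finite X] (Y : Subgroup X) :
    Nat.card (ConjClasses X) ≤ Y.index * Nat.card (ConjClasses Y) := by
  classical
  have := Fintype.ofFinite X
  have := Fintype.ofFinite Y
  have hX : 0 < Nat.card X := Nat.card_pos
  refine Nat.le_of_mul_le_mul_right ?_ hX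
  rw [card_conjClasses_mul_card]
  calc ∑ x : X, cent x (⊤ : Subgroup X) ≤ ∑ x : X, Y.index * cent x Y :=
        Finset.sum_le_sum fun x _ => cent_top_le x Y
    _ = Y.index * ∑ y : Y, cent (y : X) (⊤ : Subgroup X) := by
        rw [← Finset.mul_sum, sum_cent_top_aux]
    _ ≤ Y.index * ∑ y : Y, Y.index * cent (y : X) Y :=
        Nat.mul_le_mul_left _ (Finset.sum_le_sum fun y _ => cent_top_le _ Y)
    _ = Y.index * Nat.card (ConjClasses Y) * Nat.card X := by
        rw [← Finset.mul_sum, ← card_conjClasses_subgroup_mul_card, ← Subgroup.index_mul_card Y]; ring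

/-- If `g y g⁻¹ ∉ Y` for some `y ∈ Y` then `|C_X(y)| < |X : Y| |C_Y(y)|`. -/
theorem cent_top_lt {X : Type*} [Group X] [Finite X] (Y : Subgroup X) {y g : X} (hy : y ∈ Y)
    (hg : g * y * g⁻¹ ∉ Y) : cent y (⊤ : Subgroup X) < Y.index * cent y Y := by
  refine lt_of_le_of_ne (cent_top_le y Y) fun h => ?_
  rw [cent_top_eq y Y, mul_comm] at h
  have h2 : Y.relIndex (Subgroup.centralizer {y}) = Y.index :=
    Nat.eq_of_mul_eq_mul_right (cent_pos y Y) h
  -- the map `C_X(y) / (Y ∩ C_X(y)) → X / Y` is injective hence bijective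
  set C := Subgroup.centralizer ({y} : Set X) with hC
  have hinj : Function.Injective (Subgroup.quotientSubgroupOfEmbeddingOfLE Y (le_top : C ≤ ⊤)) :=
    (Subgroup.quotientSubgroupOfEmbeddingOfLE Y (le_top : C ≤ ⊤)).injective
  have hcard : Nat.card (C ⧸ Y.subgroupOf C) = Nat.card ((⊤ : Subgroup X) ⧸ Y.subgroupOf ⊤) := by
    have e1 : Nat.card (C ⧸ Y.subgroupOf C) = Y.relIndex C := rfl
    have e2 : Nat.card ((⊤ : Subgroup X) ⧸ Y.subgroupOf ⊤) = Y.relIndex ⊤ := rfl
    rw [e1, e2, h2, Subgroup.relIndex_top_right]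
  have hsurj := ((Nat.bijective_iff_injective_and_card _).2 ⟨hinj, hcard⟩).2
  obtain ⟨c, hc⟩ := hsurj (QuotientGroup.mk (⟨g⁻¹, Subgroup.mem_top _⟩ : (⊤ : Subgroup X)))
  obtain ⟨c, rfl⟩ := QuotientGroup.mk_surjective c
  have h3 : (QuotientGroup.mk (⟨(c : X), Subgroup.mem_top _⟩ : (⊤ : Subgroup X)) : (⊤ : Subgroup X) ⧸ Y.subgroupOf ⊤) =
      QuotientGroup.mk (⟨g⁻¹, Subgroup.mem_top _⟩ : (⊤ : Subgroup X)) := hc
  rw [QuotientGroup.eq, Subgroup.mem_subgroupOf] at h3
  have h4 : (c : X)⁻¹ * g⁻¹ ∈ Y := h3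
  have hcc : (c : X) * y = y * c := by
    exact Subgroup.mem_centralizer_singleton_iff.1 c.2
  apply hg
  have h5 : g * y * g⁻¹ = ((c : X)⁻¹ * g⁻¹)⁻¹ * y * ((c : X)⁻¹ * g⁻¹) := by
    have : (c : X) * y * (c : X)⁻¹ = y := by rw [hcc]; group
    calc g * y * g⁻¹ = g * ((c : X) * y * (c : X)⁻¹) * g⁻¹ := by rw [this]
      _ = _ := by group
  rw [h5]
  exact Y.mul_mem (Y.mul_mem (Y.inv_mem h4) hy) h4

/-- `k(X) < |X : Y| k(Y)` if `Y` is not normal. -/
theorem lt_index_mul_of_not_normal {X : Type*} [Group X] [Finite X] (Y : Subgroup X) (hY : ¬ Y.Normal) :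
    Nat.card (ConjClasses X) < Y.index * Nat.card (ConjClasses Y) := by
  classical
  have := Fintype.ofFinite X
  have := Fintype.ofFinite Y
  have hex : ∃ y ∈ Y, ∃ g : X, g * y * g⁻¹ ∉ Y := by
    by_contra hcon
    push Not at hcon
    exact hY ⟨fun y hy g => hcon y hy g⟩
  obtain ⟨y, hy, g, hg⟩ := hex
  have hX : 0 < Nat.card X := Nat.card_pos
  refine Nat.lt_of_mul_lt_mul_right (a := Nat.card X) ?_
  rw [card_conjClasses_mul_card]
  calc ∑ x : X, cent x (⊤ : Subgroup X) ≤ ∑ x : X, Y.index * cent x Y :=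
        Finset.sum_le_sum fun x _ => cent_top_le x Y
    _ = Y.index * ∑ y : Y, cent (y : X) (⊤ : Subgroup X) := by
        rw [← Finset.mul_sum, sum_cent_top_aux]
    _ < Y.index * ∑ y : Y, Y.index * cent (y : X) Y := by
        refine Nat.mul_lt_mul_of_pos_left ?_ (Nat.pos_of_ne_zero Subgroup.index_ne_zero_of_finite)
        refine Finset.sum_lt_sum (fun y _ => cent_top_le _ Y) ⟨⟨y, hy⟩, Finset.mem_univ _, ?_⟩
        exact cent_top_lt Y hy hg
    _ = Y.index * Nat.card (ConjClasses Y) * Nat.card X := by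
        rw [← Finset.mul_sum, ← card_conjClasses_subgroup_mul_card, ← Subgroup.index_mul_card Y]; ring

/-- `|C_X(x)| ≤ |C_N(x)| |C_{X/N}(xN)|`. -/
theorem cent_top_le_quotient {X : Type*} [Group X] [Finite X] (N : Subgroup X) [N.Normal] (x : X) :
    cent x (⊤ : Subgroup X) ≤ cent x N * cent (QuotientGroup.mk x : X ⧸ N) (⊤ : Subgroup (X ⧸ N)) := by
  rw [cent_top_eq x N]
  refine Nat.mul_le_mul_left _ ?_
  rw [cent_top]
  -- the index of `N ∩ C` in `C` is the order of the image of `C` in `X/N`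
  have h1 : N.relIndex (Subgroup.centralizer {x}) =
      Nat.card ((Subgroup.centralizer {x}).map (QuotientGroup.mk' N)) := by
    have := Subgroup.relIndex_ker (K := Subgroup.centralizer ({x} : Set X)) (QuotientGroup.mk' N)
    rw [QuotientGroup.ker_mk'] at this
    rw [this]
  rw [h1]
  apply Subgroup.card_le_of_le
  rintro _ ⟨c, hc, rfl⟩
  rw [SetLike.mem_coe, Subgroup.mem_centralizer_singleton_iff] at hc
  rw [Subgroup.mem_centralizer_singleton_iff]
  have := congrArg (QuotientGroup.mk' N) hc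
  rw [map_mul, map_mul] at this
  exact this

/-- `∑_{x ∈ z} |C_N(x)| ≤ ∑_{n ∈ N} |C_N(n)|` for every coset `z` of `N`. -/
theorem sum_cent_coset_le {X : Type*} [Group X] [Fintype X] (N : Subgroup X) [N.Normal] [Fintype N]
    (z : X ⧸ N) [Fintype {x : X // (QuotientGroup.mk x : X ⧸ N) = z}] :
    ∑ x : {x : X // (QuotientGroup.mk x : X ⧸ N) = z}, cent (x : X) N ≤ ∑ n : N, cent (n : X) N := by
  classical
  have h1 : ∑ x : {x : X // (QuotientGroup.mk x : X ⧸ N) = z}, cent (x : X) N =
      ∑ n : N, Nat.card {x : X // (QuotientGroup.mk x : X ⧸ N) = z ∧ Commute (n : X) x} := by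
    have h2 : Nat.card (Σ x : {x : X // (QuotientGroup.mk x : X ⧸ N) = z}, {y : X // y ∈ N ∧ Commute (x : X) y}) =
        Nat.card (Σ n : N, {x : X // (QuotientGroup.mk x : X ⧸ N) = z ∧ Commute (n : X) x}) := by
      apply Nat.card_congr
      exact
        { toFun := fun p => ⟨⟨p.2.1, p.2.2.1⟩, ⟨p.1.1, p.1.2, p.2.2.2.symm⟩⟩
          invFun := fun p => ⟨⟨p.2.1, p.2.2.1⟩, ⟨p.1.1, p.1.2, p.2.2.2.symm⟩⟩
          left_inv := fun p => rfl
          right_inv := fun p => rfl }
    rw [Nat.card_sigma, Nat.card_sigma] at h2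
    exact h2
  rw [h1]
  refine Finset.sum_le_sum fun n _ => ?_
  rcases isEmpty_or_nonempty {x : X // (QuotientGroup.mk x : X ⧸ N) = z ∧ Commute (n : X) x} with he | ⟨⟨x0, hx0, hc0⟩⟩
  · rw [Nat.card_of_isEmpty]; exact Nat.zero_le _
  · unfold cent
    refine Nat.card_le_card_of_injective (fun x => ⟨x0⁻¹ * x.1, ?_, ?_⟩) ?_
    · rw [← QuotientGroup.eq, hx0, x.2.1]
    · exact hc0.inv_right.mul_right x.2.2
    · intro a b hab
      have := congrArg Subtype.val hab
      exact Subtype.ext (mul_left_cancel this)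

/-- **Gallagher / Nagao**: `k(X) ≤ k(N) k(X/N)`. -/
theorem le_normal_mul_quotient {X : Type*} [Group X] [Finite X] (N : Subgroup X) [N.Normal] :
    Nat.card (ConjClasses X) ≤ Nat.card (ConjClasses N) * Nat.card (ConjClasses (X ⧸ N)) := by
  classical
  have := Fintype.ofFinite X
  have := Fintype.ofFinite N
  have := Fintype.ofFinite (X ⧸ N)
  have hX : 0 < Nat.card X := Nat.card_pos
  refine Nat.le_of_mul_le_mul_right ?_ hX
  rw [card_conjClasses_mul_card]
  calc ∑ x : X, cent x (⊤ : Subgroup X) ≤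
        ∑ x : X, cent x N * cent (QuotientGroup.mk x : X ⧸ N) (⊤ : Subgroup (X ⧸ N)) :=
        Finset.sum_le_sum fun x _ => cent_top_le_quotient N x
    _ = ∑ z : X ⧸ N, ∑ x : {x : X // (QuotientGroup.mk x : X ⧸ N) = z},
          cent (x : X) N * cent z (⊤ : Subgroup (X ⧸ N)) := by
        rw [← Fintype.sum_fiberwise (fun x : X => (QuotientGroup.mk x : X ⧸ N))]
        refine Finset.sum_congr rfl fun z _ => Finset.sum_congr rfl fun x _ => ?_
        rw [x.2]
    _ ≤ ∑ z : X ⧸ N, (∑ n : N, cent (n : X) N) * cent z (⊤ : Subgroup (X ⧸ N)) := by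
        refine Finset.sum_le_sum fun z _ => ?_
        rw [← Finset.sum_mul]
        exact Nat.mul_le_mul_right _ (sum_cent_coset_le N z)
    _ = Nat.card (ConjClasses N) * Nat.card (ConjClasses (X ⧸ N)) * Nat.card X := by
        rw [← Finset.mul_sum, ← card_conjClasses_subgroup_mul_card, ← card_conjClasses_mul_card,
          Subgroup.card_eq_card_quotient_mul_card_subgroup N]
        ring

/-- isomorphic groups have the same number of classes -/
theorem card_conjClasses_congr {G H : Type*} [Group G] [Group H] (e : G ≃* H) :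
    Nat.card (ConjClasses G) = Nat.card (ConjClasses H) := by
  refine Nat.card_congr (Equiv.ofBijective (ConjClasses.map e.toMonoidHom) ⟨?_, ?_⟩)
  · intro a b
    refine Quotient.inductionOn₂ a b fun x y h => ?_
    have h1 : ConjClasses.mk (e x) = ConjClasses.mk (e y) := h
    rw [ConjClasses.mk_eq_mk_iff_isConj, isConj_iff] at h1
    obtain ⟨c, hc⟩ := h1
    refine ConjClasses.mk_eq_mk_iff_isConj.2 (isConj_iff.2 ⟨e.symm c, ?_⟩)
    apply e.injective
    rw [map_mul, map_mul, map_inv, e.apply_symm_apply, hc]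
  · exact ConjClasses.map_surjective e.surjective

/-- `k(G) ≤ |G|` -/
theorem card_conjClasses_le_card {G : Type*} [Group G] [Finite G] :
    Nat.card (ConjClasses G) ≤ Nat.card G :=
  Nat.card_le_card_of_surjective ConjClasses.mk ConjClasses.mk_surjective

theorem card_conjClasses_pos {G : Type*} [Group G] [Finite G] : 0 < Nat.card (ConjClasses G) :=
  Nat.card_pos_iff.2 ⟨⟨ConjClasses.mk 1⟩, Finite.of_surjective ConjClasses.mk ConjClasses.mk_surjective⟩

/-- quotients have fewer classes -/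
theorem card_conjClasses_le_of_surjective {G H : Type*} [Group G] [Group H] [Finite G] (f : G →* H)
    (hf : Function.Surjective f) : Nat.card (ConjClasses H) ≤ Nat.card (ConjClasses G) := by
  have : Finite (ConjClasses G) := Finite.of_surjective ConjClasses.mk ConjClasses.mk_surjective
  exact Nat.card_le_card_of_surjective (ConjClasses.map f) (ConjClasses.map_surjective hf)

/-- `k(G × H) = k(G) k(H)` -/
theorem card_conjClasses_prod {G H : Type*} [Group G] [Group H] :
    Nat.card (ConjClasses (G × H)) = Nat.card (ConjClasses G) * Nat.card (ConjClasses H) := by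
  rw [← Nat.card_prod]
  refine Nat.card_congr (Equiv.ofBijective
    (fun c : ConjClasses (G × H) => (ConjClasses.map (MonoidHom.fst G H) c, ConjClasses.map (MonoidHom.snd G H) c))
    ⟨?_, ?_⟩)
  · intro a b
    refine Quotient.inductionOn₂ a b fun x y h => ?_
    have h1 : ConjClasses.mk x.1 = ConjClasses.mk y.1 := congrArg Prod.fst h
    have h2 : ConjClasses.mk x.2 = ConjClasses.mk y.2 := congrArg Prod.snd h
    rw [ConjClasses.mk_eq_mk_iff_isConj, isConj_iff] at h1 h2
    obtain ⟨c, hc⟩ := h1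
    obtain ⟨d, hd⟩ := h2
    exact ConjClasses.mk_eq_mk_iff_isConj.2 (isConj_iff.2 ⟨(c, d), Prod.ext hc hd⟩)
  · rintro ⟨a, b⟩
    refine Quotient.inductionOn₂ a b fun x y => ?_
    exact ⟨ConjClasses.mk (x, y), rfl⟩

/-- for a homomorphism: `k(G) ≤ k(ker) k(range)` -/
theorem le_ker_mul_range {G H : Type*} [Group G] [Group H] [Finite G] (f : G →* H) :
    Nat.card (ConjClasses G) ≤ Nat.card (ConjClasses f.ker) * Nat.card (ConjClasses f.range) := by
  rw [← card_conjClasses_congr (QuotientGroup.quotientKerEquivRange f)]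
  exact le_normal_mul_quotient f.ker

end Cfsg.Agent.H540.ClassNum
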