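import Mathlib.GroupTheory.Perm.Centralizer
import Mathlib.GroupTheory.Perm.Cycle.Type
import Mathlib.Algebra.Group.ConjFinite
import Mathlib.Tactic.NormNum
import Mathlib.Tactic.FinCases
import Cfsg.Agent.S0713

/-!
# Small symmetric groups

* `card_conjClasses_five`, `card_conjClasses_six`: `k(S₅) ≤ 7`, `k(S₆) ≤ 11`;
* centralizers of elements of order `7` and `9` in subgroups of `S₉`.
-/

set_option autoImplicit false

open Equiv MulAction

namespace Cfsg.Agent.H540.SmallSym

/-- the multiplicities of `2, …, 6` -/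
def cnt (s : Multiset ℕ) : ℕ × ℕ × ℕ × ℕ × ℕ :=
  (s.count 2, s.count 3, s.count 4, s.count 5, s.count 6)

/-- the possible multiplicities -/
def box (n : ℕ) : Finset (ℕ × ℕ × ℕ × ℕ × ℕ) :=
  (Finset.range 4 ×ˢ Finset.range 3 ×ˢ Finset.range 2 ×ˢ Finset.range 2 ×ˢ Finset.range 2).filter
    fun t => 2 * t.1 + 3 * t.2.1 + 4 * t.2.2.1 + 5 * t.2.2.2.1 + 6 * t.2.2.2.2 ≤ n

theorem sum_eq {s : Multiset ℕ} (h2 : ∀ x ∈ s, 2 ≤ x) (h6 : s.sum ≤ 6) :
    s.sum = 2 * s.count 2 + 3 * s.count 3 + 4 * s.count 4 + 5 * s.count 5 + 6 * s.count 6 := by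
  have hle : ∀ x ∈ s, x ≤ 6 := fun x hx => (Multiset.le_sum_of_mem hx).trans h6
  have h1 : s.sum = ∑ x ∈ Finset.Icc 2 6, s.count x * x := by
    rw [Finset.sum_multiset_count]
    simp only [smul_eq_mul]
    refine Finset.sum_subset ?_ ?_
    · intro x hx
      rw [Multiset.mem_toFinset] at hx
      rw [Finset.mem_Icc]
      exact ⟨h2 x hx, hle x hx⟩
    · intro x _ hx
      rw [Multiset.mem_toFinset] at hx
      rw [Multiset.count_eq_zero_of_notMem hx, zero_mul]
  rw [h1]
  have h3 : Finset.Icc 2 6 = {2, 3, 4, 5, 6} := by decide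
  rw [h3]
  simp
  ring

theorem cnt_mem {n : ℕ} (hn : n ≤ 6) {s : Multiset ℕ} (h2 : ∀ x ∈ s, 2 ≤ x) (h : s.sum ≤ n) :
    cnt s ∈ box n := by
  have h1 := sum_eq h2 (h.trans hn)
  rw [box, Finset.mem_filter]
  simp only [Finset.mem_product, Finset.mem_range, cnt]
  omega

theorem cnt_injective {s t : Multiset ℕ} (hs2 : ∀ x ∈ s, 2 ≤ x) (hs : s.sum ≤ 6)
    (ht2 : ∀ x ∈ t, 2 ≤ x) (ht : t.sum ≤ 6) (h : cnt s = cnt t) : s = t := by
  simp only [cnt, Prod.mk.injEq] at h
  ext x
  by_cases hx : 2 ≤ x ∧ x ≤ 6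
  · obtain ⟨hx1, hx2⟩ := hx
    interval_cases x
    · exact h.1
    · exact h.2.1
    · exact h.2.2.1
    · exact h.2.2.2.1
    · exact h.2.2.2.2
  · have h1 : x ∉ s := fun hx' => hx ⟨hs2 x hx', (Multiset.le_sum_of_mem hx').trans hs⟩
    have h2 : x ∉ t := fun hx' => hx ⟨ht2 x hx', (Multiset.le_sum_of_mem hx').trans ht⟩
    rw [Multiset.count_eq_zero_of_notMem h1, Multiset.count_eq_zero_of_notMem h2]

theorem card_conjClasses_le_box {n : ℕ} (hn : n ≤ 6) :
    Nat.card (ConjClasses (Perm (Fin n))) ≤ (box n).card := by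
  have hsum : ∀ σ : Perm (Fin n), σ.cycleType.sum ≤ n := by
    intro σ
    rw [Perm.sum_cycleType]
    exact (Finset.card_le_univ _).trans (by rw [Fintype.card_fin])
  let f : ConjClasses (Perm (Fin n)) → box n := fun c =>
    ⟨cnt (Quotient.out c : Perm (Fin n)).cycleType,
      cnt_mem hn (fun x hx => Perm.two_le_of_mem_cycleType hx) (hsum _)⟩
  have hf : Function.Injective f := by
    intro c d h
    have h1 := congrArg Subtype.val h
    have h2 := cnt_injective (fun x hx => Perm.two_le_of_mem_cycleType hx) ((hsum _).trans hn)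
      (fun x hx => Perm.two_le_of_mem_cycleType hx) ((hsum _).trans hn) h1
    have h3 := Perm.isConj_iff_cycleType_eq.2 h2
    have h4 := ConjClasses.mk_eq_mk_iff_isConj.2 h3
    have e1 : ConjClasses.mk (Quotient.out c : Perm (Fin n)) = c := Quotient.out_eq c
    have e2 : ConjClasses.mk (Quotient.out d : Perm (Fin n)) = d := Quotient.out_eq d
    rwa [e1, e2] at h4
  have h1 := Nat.card_le_card_of_injective f hf
  rwa [Nat.card_eq_fintype_card (α := box n), Fintype.card_coe] at h1

theorem card_conjClasses_five : Nat.card (ConjClasses (Perm (Fin 5))) ≤ 7 :=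
  (card_conjClasses_le_box (by norm_num)).trans (by decide +kernel)

theorem card_conjClasses_six : Nat.card (ConjClasses (Perm (Fin 6))) ≤ 11 :=
  (card_conjClasses_le_box (by norm_num)).trans (by decide +kernel)

/-- elements of order `9` in `S₉` are `9`-cycles -/
theorem card_centralizer_nine (x : Perm (Fin 9)) (hx : orderOf x = 9) :
    Nat.card (Subgroup.centralizer ({x} : Set (Perm (Fin 9)))) = 9 := by
  have hsum : x.cycleType.sum ≤ 9 := by
    rw [Perm.sum_cycleType]
    exact (Finset.card_le_univ _).trans (by rw [Fintype.card_fin])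
  have hmem : ∃ c ∈ x.cycleType, 9 ∣ c := by
    by_contra hcon
    push Not at hcon
    have h3 : ∀ c ∈ x.cycleType, c ∣ 840 := by
      intro c hc
      have h4 := (Multiset.le_sum_of_mem hc).trans hsum
      have h5 := Perm.two_le_of_mem_cycleType hc
      have h6 := hcon c hc
      interval_cases c <;> first | (exact absurd (dvd_refl 9) h6) | (norm_num; done)
    have h4 : x.cycleType.lcm ∣ 840 := Multiset.lcm_dvd.2 h3
    rw [Perm.lcm_cycleType, hx] at h4
    norm_num at h4
  obtain ⟨c, hc, h9⟩ := hmem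
  have hc9 : c = 9 := by
    have h4 := (Multiset.le_sum_of_mem hc).trans hsum
    have h5 := Perm.two_le_of_mem_cycleType hc
    have := Nat.le_of_dvd (by omega) h9
    omega
  subst hc9
  obtain ⟨t, ht⟩ := Multiset.exists_cons_of_mem hc
  have ht0 : t = 0 := by
    by_contra hne
    obtain ⟨d, hd⟩ := Multiset.exists_mem_of_ne_zero hne
    have h1 : 2 ≤ d := Perm.two_le_of_mem_cycleType (σ := x) (by rw [ht]; exact Multiset.mem_cons_of_mem hd)
    have h2 : t.sum ≤ 0 := by
      rw [ht, Multiset.sum_cons] at hsum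
      omega
    have h3 := Multiset.le_sum_of_mem hd
    omega
  subst ht0
  have h1 := Perm.nat_card_centralizer x
  rw [ht] at h1
  simpa using h1

/-- elements of order `7` in a primitive group of degree `9`. -/
theorem card_centralizer_seven (S : Subgroup (Perm (Fin 9))) (hS : IsPreprimitive S (Fin 9))
    (hA : ¬ alternatingGroup (Fin 9) ≤ S) (x : S) (hx : orderOf x = 7) :
    Nat.card (Subgroup.centralizer ({x} : Set S)) ≤ 7 := by
  classical
  have hx' : orderOf (x : Perm (Fin 9)) = 7 := by rw [Subgroup.orderOf_coe, hx]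
  obtain ⟨n, hn⟩ := Perm.cycleType_prime_order (σ := (x : Perm (Fin 9))) (by rw [hx']; norm_num)
  rw [hx'] at hn
  have hsum : (x : Perm (Fin 9)).cycleType.sum ≤ 9 := by
    rw [Perm.sum_cycleType]
    exact (Finset.card_le_univ _).trans (by rw [Fintype.card_fin])
  have hn0 : n = 0 := by
    rw [hn, Multiset.sum_replicate, smul_eq_mul] at hsum
    omega
  subst hn0
  have h14 : Nat.card (Subgroup.centralizer ({(x : Perm (Fin 9))} : Set (Perm (Fin 9)))) = 14 := by
    have h1 := Perm.nat_card_centralizer (x : Perm (Fin 9))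
    rw [hn] at h1
    simpa using h1
  -- two fixed points
  have hsupp : (x : Perm (Fin 9)).support.card = 7 := by
    rw [← Perm.sum_cycleType, hn]; simp
  have hfix : 1 < ((x : Perm (Fin 9)).supportᶜ).card := by
    rw [Finset.card_compl, hsupp, Fintype.card_fin]; norm_num
  obtain ⟨a, ha, b, hb, hab⟩ := Finset.one_lt_card.1 hfix
  rw [Finset.mem_compl, Perm.notMem_support] at ha hb
  have hsw : swap a b ∈ Subgroup.centralizer ({(x : Perm (Fin 9))} : Set (Perm (Fin 9))) := by
    rw [Subgroup.mem_centralizer_singleton_iff]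
    have h1 : Perm.Disjoint (swap a b) (x : Perm (Fin 9)) := by
      intro y
      by_cases hya : y = a
      · right; rw [hya]; exact ha
      · by_cases hyb : y = b
        · right; rw [hyb]; exact hb
        · left; exact swap_apply_of_ne_of_ne hya hyb
    exact h1.commute
  have hmap : (Subgroup.centralizer ({x} : Set S)).map S.subtype ≤
      Subgroup.centralizer ({(x : Perm (Fin 9))} : Set (Perm (Fin 9))) := by
    rintro _ ⟨y, hy, rfl⟩
    have h3 := Subgroup.mem_centralizer_singleton_iff.1 hy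
    rw [Subgroup.mem_centralizer_singleton_iff]
    exact congrArg Subtype.val h3
  have hcard : Nat.card ((Subgroup.centralizer ({x} : Set S)).map S.subtype) =
      Nat.card (Subgroup.centralizer ({x} : Set S)) :=
    (Nat.card_congr (((Subgroup.centralizer ({x} : Set S)).equivMapOfInjective S.subtype
      S.subtype_injective).toEquiv)).symm
  have hdvd := Subgroup.card_dvd_of_le hmap
  rw [h14, hcard] at hdvd
  by_contra hcon
  push Not at hcon
  have h14' : Nat.card (Subgroup.centralizer ({x} : Set S)) = 14 := by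
    obtain ⟨c, hc⟩ := hdvd
    have hc0 : c ≠ 0 := by rintro rfl; omega
    have hc1 : c < 2 := by
      by_contra h
      push Not at h
      have : Nat.card (Subgroup.centralizer ({x} : Set S)) * 2 ≤
        Nat.card (Subgroup.centralizer ({x} : Set S)) * c := Nat.mul_le_mul_left _ h
      omega
    have : c = 1 := by omega
    rw [this, mul_one] at hc
    exact hc.symm
  have heq := Subgroup.eq_of_le_of_card_ge hmap (by rw [h14, hcard, h14'])
  rw [← heq] at hsw
  obtain ⟨y, _, hy⟩ := hsw
  apply hA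
  refine S0713.result S hS Nat.prime_two (by rw [Fintype.card_fin]; norm_num)
    (by rw [Fintype.card_fin]; norm_num) (g := swap a b) (Perm.isCycle_swap hab)
    (Perm.card_support_swap hab) ?_
  rw [← hy]
  exact y.2

end Cfsg.Agent.H540.SmallSym
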