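import Cfsg.Agent.H540.AffSmall
import Cfsg.Agent.S2478

/-!
# Class numbers of irreducible subgroups of `GL(3,2)`
-/

set_option autoImplicit false

namespace Cfsg.Agent.H540.AffEight

open MulAction Cfsg.Agent.H540.ClassNum Cfsg.Agent.H540.HalfBound Cfsg.Agent.H540.Dual
  Cfsg.Agent.H540.PermRed Cfsg.Agent.H540.LinB Cfsg.Agent.H540.LinC Cfsg.Agent.H540.PermStep
  Cfsg.Agent.H540.Affine Cfsg.Agent.H540.Blocks Cfsg.Agent.H540.AffSmall

theorem card_GL_three_two : Nat.card (GL (Fin 3) (ZMod 2)) = 168 := by
  rw [Matrix.card_GL_field, ZMod.card]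
  decide

/-- the action on the group of characters -/
def dualAut {V : Type*} [CommGroup V] {X : Type*} [Group X] (f : X →* MulAut V) :
    X →* MulAut (V →* ℂˣ) where
  toFun x :=
    { toFun := fun lam => dualHom f x lam
      invFun := fun lam => dualHom f x⁻¹ lam
      left_inv := fun lam => by
        change dualHom f x⁻¹ (dualHom f x lam) = lam
        rw [← Equiv.Perm.mul_apply, ← map_mul, inv_mul_cancel, map_one, Equiv.Perm.one_apply]
      right_inv := fun lam => by
        change dualHom f x (dualHom f x⁻¹ lam) = lam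
        rw [← Equiv.Perm.mul_apply, ← map_mul, mul_inv_cancel, map_one, Equiv.Perm.one_apply]
      map_mul' := fun lam mu => rfl }
  map_one' := by
    apply MulEquiv.ext
    intro lam
    change dualHom f 1 lam = lam
    rw [map_one, Equiv.Perm.one_apply]
  map_mul' x y := by
    apply MulEquiv.ext
    intro lam
    change dualHom f (x * y) lam = dualHom f x (dualHom f y lam)
    rw [map_mul, Equiv.Perm.mul_apply]

theorem dualAut_apply {V : Type*} [CommGroup V] {X : Type*} [Group X] (f : X →* MulAut V)
    (x : X) (lam : V →* ℂˣ) : dualAut f x lam = dualHom f x lam := rfl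

theorem dualAut_injective {V : Type*} [CommGroup V] [Finite V] {X : Type*} [Group X]
    (f : X →* MulAut V) (hf : Function.Injective f) : Function.Injective (dualAut f) := by
  intro x y hxy
  apply dualHom_injective f hf
  ext lam v
  have h1 := DFunLike.congr_fun hxy lam
  rw [dualAut_apply, dualAut_apply] at h1
  rw [h1]

/-- irreducible subgroups of `GL(3,2)` -/
theorem GL_three_two {V : Type*} [CommGroup V] [Finite V] {X : Type*} [Group X] [Finite X]
    (hpow : ∀ x : V, x ^ 2 = 1) (hc : Nat.card V = 8) (f : X →* MulAut V)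
    (hf : Function.Injective f) (hirr : Irr f) :
    Nat.card (ConjClasses X) ≤ 8 := by
  classical
  have : Fact (Nat.Prime 2) := ⟨Nat.prime_two⟩
  have : Fact (Nat.Prime 7) := ⟨by norm_num⟩
  have hc3 : Nat.card V = 2 ^ 3 := by rw [hc]; norm_num
  obtain ⟨e⟩ := Lib.ElemAbGL.mulAut_equiv_GL (V := V) 2 3 hpow hc3
  let g : X →* GL (Fin 3) (ZMod 2) := e.toMonoidHom.comp f
  have hg : Function.Injective g := e.injective.comp hf
  have h168 : Nat.card X ∣ 168 := by
    rw [← card_GL_three_two]
    exact Subgroup.card_dvd_of_injective g hg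
  -- the action on the nontrivial characters
  let C := {lam : V →* ℂˣ // lam ≠ 1}
  have hC7 : Nat.card C = 7 := by
    exact (card_ne (V := V →* ℂˣ)).trans (by rw [card_char, hc])
  let _ : MulAction X C := MulAction.compHom _ (permNe (V := V →* ℂˣ) (dualAut f))
  have hsm : ∀ (x : X) (lam : C), x • lam = permNe (V := V →* ℂˣ) (dualAut f) x lam := fun _ _ => rfl
  have hfaith : FaithfulSMul X C := by
    refine ⟨fun {x y} h => ?_⟩
    apply permNe_injective (V := V →* ℂˣ) (dualAut f) (dualAut_injective f hf)
    ext lam v
    rw [← hsm, ← hsm, h lam]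
  have hstab : ∀ lam : C, stabilizer X lam = stab f lam.1 := by
    intro lam
    ext x
    rw [mem_stabilizer_iff, mem_stab]
    constructor
    · intro h v
      have h1 : dualHom f x lam.1 = lam.1 := congrArg Subtype.val h
      have h2 := DFunLike.congr_fun h1 (f x v)
      rw [dualHom_apply, ← MulAut.mul_apply, ← map_mul, inv_mul_cancel, map_one, MulAut.one_apply] at h2
      exact h2.symm
    · intro h
      apply Subtype.ext
      change dualHom f x lam.1 = lam.1
      ext v
      have h2 := h (f x⁻¹ v)
      rw [← MulAut.mul_apply, ← map_mul, mul_inv_cancel, map_one, MulAut.one_apply] at h2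
      change (lam.1 (f x⁻¹ v) : ℂ) = lam.1 v
      rw [h2]
  have horb : ∀ lam : C, 4 ≤ Nat.card (orbit X lam) := by
    intro lam
    have h1 := succ_le_index (d := 3) hpow hc3 (by norm_num) f hirr lam.1 lam.2
    rw [← hstab lam, Subgroup.index_eq_card] at h1
    rwa [← Nat.card_congr (orbitEquivQuotientStabilizer X lam)] at h1
  have htr : IsPretransitive X C := by
    refine ⟨fun lam mu => ?_⟩
    by_contra hcon
    push Not at hcon
    have hdisj : Disjoint (orbit X lam) (orbit X mu) := by
      rw [Set.disjoint_left]
      rintro z ⟨x, hx⟩ ⟨y, hy⟩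
      apply hcon (y⁻¹ * x)
      have hx' : x • lam = z := hx
      have hy' : y • mu = z := hy
      rw [mul_smul, hx', ← hy', inv_smul_smul]
    have h1 := Set.ncard_union_eq hdisj (Set.toFinite _) (Set.toFinite _)
    have h2 : (orbit X lam ∪ orbit X mu).ncard ≤ 7 := by
      rw [← hC7]
      exact Set.ncard_le_card _
    rw [← Nat.card_coe_set_eq (orbit X lam), ← Nat.card_coe_set_eq (orbit X mu)] at h1
    have := horb lam
    have := horb mu
    omega
  have hprime : (Nat.card C).Prime := by rw [hC7]; norm_num
  have hprim : IsPreprimitive X C := IsPreprimitive.of_prime_card hprime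
  have h7 : 7 ∣ Nat.card X := by
    have hne : Nonempty C := (Nat.card_pos_iff.1 (by rw [hC7]; norm_num)).1
    obtain ⟨lam⟩ := hne
    rw [← hC7]
    have h1 := Subgroup.card_mul_index (stabilizer X lam)
    rw [index_stabilizer_of_transitive] at h1
    exact Dvd.intro_left _ h1
  -- a Sylow subgroup
  obtain ⟨P⟩ : Nonempty (Sylow 7 X) := inferInstance
  have hP7 : Nat.card P = 7 := by
    have h1 : 7 ∣ Nat.card P := P.dvd_card_of_dvd_card h7
    obtain ⟨k, hk⟩ := IsPGroup.iff_card.1 P.isPGroup'
    have h2 : Nat.card P ∣ 168 := (Subgroup.card_subgroup_dvd_card _).trans h168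
    rw [hk] at h1 h2 ⊢
    have hk0 : k ≠ 0 := by rintro rfl; norm_num at h1
    have hk2 : k < 2 := by
      by_contra hcon
      push Not at hcon
      have h3 : 7 ^ 2 ∣ 168 := (pow_dvd_pow 7 hcon).trans h2
      norm_num at h3
    have : k = 1 := by omega
    rw [this, pow_one]
  have hPb : (P : Subgroup X) ≠ ⊥ := by
    intro h
    have h1 : Nat.card (P : Subgroup X) = 1 := by rw [h]; exact Subgroup.card_bot
    have h2 : Nat.card (P : Subgroup X) = 7 := hP7
    omega
  by_cases hn : (P : Subgroup X).Normal
  · -- normal Sylow subgroup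
    have hcyc : IsCyclic (P : Subgroup X) := isCyclic_of_prime_card hP7
    have hab : ∀ a ∈ (P : Subgroup X), ∀ b ∈ (P : Subgroup X), a * b = b * a := by
      intro a ha b hb
      have h1 := (IsCyclic.commGroup (α := (P : Subgroup X))).mul_comm ⟨a, ha⟩ ⟨b, hb⟩
      exact congrArg Subtype.val h1
    have h1 := prime_degree hprim (P : Subgroup X) hPb hab hprime
    rw [hC7] at h1
    omega
  · have hmod := card_sylow_modEq_one 7 X
    have hidx : Nat.card (Sylow 7 X) = (Subgroup.normalizer ((P : Subgroup X) : Set X)).index :=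
      P.card_eq_index_normalizer
    have hNP : Nat.card (Subgroup.normalizer ((P : Subgroup X) : Set X)) * Nat.card (Sylow 7 X) = Nat.card X := by
      rw [hidx]; exact Subgroup.card_mul_index _
    have h7N : 7 ∣ Nat.card (Subgroup.normalizer ((P : Subgroup X) : Set X)) := by
      have h1 := Subgroup.card_dvd_of_le (Subgroup.le_normalizer (H := (P : Subgroup X)))
      have h2 : Nat.card (P : Subgroup X) = 7 := hP7
      rwa [h2] at h1
    have hne1 : Nat.card (Sylow 7 X) ≠ 1 := by
      intro h1
      apply hn
      rw [h1] at hidx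
      have h2 : Subgroup.normalizer ((P : Subgroup X) : Set X) = ⊤ := Subgroup.index_eq_one.1 hidx.symm
      exact Subgroup.normalizer_eq_top_iff.1 h2
    obtain ⟨t, ht⟩ := h7N
    rw [ht] at hNP
    generalize Nat.card (Sylow 7 X) = m at *
    have hX : 7 * (t * m) ∣ 7 * 24 := by
      have : 7 * (t * m) = Nat.card X := by rw [← hNP]; ring
      rw [this]; exact h168
    have hX2 : t * m ∣ 24 := Nat.dvd_of_mul_dvd_mul_left (by norm_num) hX
    have hm8 : m = 8 := by
      have hmd : m ∣ 24 := (Dvd.intro_left t rfl).trans hX2
      have hm24 : m ≤ 24 := Nat.le_of_dvd (by norm_num) hmd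
      have hmod' : m % 7 = 1 := hmod
      interval_cases m <;> omega
    subst hm8
    have ht3 : t ∣ 3 := by
      have : t * 8 ∣ 3 * 8 := hX2
      exact Nat.dvd_of_mul_dvd_mul_right (by norm_num) this
    rcases (Nat.dvd_prime Nat.prime_three).1 ht3 with h1 | h1
    · -- a normal complement
      exfalso
      subst h1
      have hNeq : (P : Subgroup X) = Subgroup.normalizer ((P : Subgroup X) : Set X) := by
        apply Subgroup.eq_of_le_of_card_ge Subgroup.le_normalizer
        rw [ht]
        exact le_of_eq hP7.symm
      have hcyc : IsCyclic (P : Subgroup X) := isCyclic_of_prime_card hP7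
      have hab : ∀ a ∈ (P : Subgroup X), ∀ b ∈ (P : Subgroup X), a * b = b * a := by
        intro a ha b hb
        have h1 := (IsCyclic.commGroup (α := (P : Subgroup X))).mul_comm ⟨a, ha⟩ ⟨b, hb⟩
        exact congrArg Subtype.val h1
      have hNC : Subgroup.normalizer ((P : Subgroup X) : Set X) ≤ Subgroup.centralizer ((P : Subgroup X) : Set X) := by
        rw [← hNeq]
        intro x hx
        rw [Subgroup.mem_centralizer_iff]
        intro y hy
        exact hab y hy x hx
      have hcomp := MonoidHom.ker_transferSylow_isComplement' P hNC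
      have hcard := hcomp.card_mul_card
      have hPc : Nat.card (P : Subgroup X) = 7 := hP7
      rw [hPc, ← hNP] at hcard
      have hker8 : Nat.card (MonoidHom.transferSylow P hNC).ker = 8 := by omega
      have hkb : (MonoidHom.transferSylow P hNC).ker ≠ ⊥ := by
        intro h
        rw [h, Subgroup.card_bot] at hker8
        omega
      have htk := trans_of_normal hprim (MonoidHom.transferSylow P hNC).ker hkb
      have hne : Nonempty C := (Nat.card_pos_iff.1 (by rw [hC7]; norm_num)).1
      obtain ⟨lam⟩ := hne
      have h2 := Subgroup.card_mul_index (stabilizer (MonoidHom.transferSylow P hNC).ker lam)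
      rw [index_stabilizer_of_transitive, hC7, hker8] at h2
      omega
    · -- the whole group
      subst h1
      have hX168 : Nat.card X = 168 := by omega
      have hbij : Function.Bijective g := by
        rw [Nat.bijective_iff_injective_and_card]
        exact ⟨hg, by rw [hX168, card_GL_three_two]⟩
      rw [card_conjClasses_congr (MulEquiv.ofBijective g hbij)]
      have h2 := (Cfsg.Agent.S2478.result (F := ZMod 2) 3 (by norm_num)).2
      rw [ZMod.card] at h2
      exact h2

end Cfsg.Agent.H540.AffEight
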