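import Cfsg.Agent.H540.AffEight

/-!
# Class numbers of affine primitive groups: the bound
-/

set_option autoImplicit false

namespace Cfsg.Agent.H540.AffFinal

open MulAction Cfsg.Agent.H540.ClassNum Cfsg.Agent.H540.HalfBound Cfsg.Agent.H540.Dual
  Cfsg.Agent.H540.PermRed Cfsg.Agent.H540.LinB Cfsg.Agent.H540.LinC Cfsg.Agent.H540.PermStep
  Cfsg.Agent.H540.Affine Cfsg.Agent.H540.Blocks Cfsg.Agent.H540.AffSmall Cfsg.Agent.H540.AffEight

theorem numA {r : ℕ} (hr : 32 ≤ r) : 16 * r ^ 2 * 3 ^ (r - 1) ≤ 4 ^ r := by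
  have key : ∀ s, 31 ≤ s → 16 * (s + 1) ^ 2 * 3 ^ s ≤ 4 ^ (s + 1) := by
    intro s hs
    induction s, hs using Nat.le_induction with
    | base => norm_num
    | succ s hs ih =>
      have h1 : 3 * (s + 1 + 1) ^ 2 ≤ 4 * (s + 1) ^ 2 := by nlinarith
      calc 16 * (s + 1 + 1) ^ 2 * 3 ^ (s + 1) = 16 * (3 * (s + 1 + 1) ^ 2) * 3 ^ s := by
            rw [pow_succ 3 s]; ring
        _ ≤ 16 * (4 * (s + 1) ^ 2) * 3 ^ s :=
            Nat.mul_le_mul_right _ (Nat.mul_le_mul_left _ h1)
        _ = 4 * (16 * (s + 1) ^ 2 * 3 ^ s) := by ring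
        _ ≤ 4 * 4 ^ (s + 1) := Nat.mul_le_mul_left _ ih
        _ = 4 ^ (s + 1 + 1) := by rw [pow_succ 4 (s + 1)]; ring
  obtain ⟨s, rfl⟩ := Nat.exists_eq_add_of_le' (show 1 ≤ r by omega)
  exact key s (by omega)

theorem numB {q r : ℕ} (hq : 3 ≤ q) (hr : 7 ≤ r) : 4 * (q * r) ^ 2 * 3 ^ (r - 1) ≤ 2 ^ (q * r) := by
  induction q, hq using Nat.le_induction with
  | base =>
    have key : ∀ s, 6 ≤ s → 36 * (s + 1) ^ 2 * 3 ^ s ≤ 8 ^ (s + 1) := by
      intro s hs
      induction s, hs using Nat.le_induction with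
      | base => norm_num
      | succ s hs ih =>
        have h1 : 3 * (s + 1 + 1) ^ 2 ≤ 8 * (s + 1) ^ 2 := by nlinarith
        calc 36 * (s + 1 + 1) ^ 2 * 3 ^ (s + 1) = 36 * (3 * (s + 1 + 1) ^ 2) * 3 ^ s := by
              rw [pow_succ 3 s]; ring
          _ ≤ 36 * (8 * (s + 1) ^ 2) * 3 ^ s :=
              Nat.mul_le_mul_right _ (Nat.mul_le_mul_left _ h1)
          _ = 8 * (36 * (s + 1) ^ 2 * 3 ^ s) := by ring
          _ ≤ 8 * 8 ^ (s + 1) := Nat.mul_le_mul_left _ ih
          _ = 8 ^ (s + 1 + 1) := by rw [pow_succ 8 (s + 1)]; ring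
    obtain ⟨s, rfl⟩ := Nat.exists_eq_add_of_le' (show 1 ≤ r by omega)
    have h1 := key s (by omega)
    rw [pow_mul]
    calc 4 * (3 * (s + 1)) ^ 2 * 3 ^ (s + 1 - 1) = 36 * (s + 1) ^ 2 * 3 ^ s := by
          rw [Nat.add_sub_cancel]; ring
      _ ≤ 8 ^ (s + 1) := h1
      _ = (2 ^ 3) ^ (s + 1) := by norm_num
  | succ q hq ih =>
    have h1 : (q + 1) ^ 2 ≤ 2 * q ^ 2 := by nlinarith
    have h2 : 2 ≤ 2 ^ r := by
      calc 2 = 2 ^ 1 := by norm_num
        _ ≤ 2 ^ r := Nat.pow_le_pow_right (by norm_num) (by omega)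
    calc 4 * ((q + 1) * r) ^ 2 * 3 ^ (r - 1) = (q + 1) ^ 2 * (4 * r ^ 2 * 3 ^ (r - 1)) := by ring
      _ ≤ (2 * q ^ 2) * (4 * r ^ 2 * 3 ^ (r - 1)) := Nat.mul_le_mul_right _ h1
      _ = 2 * (4 * (q * r) ^ 2 * 3 ^ (r - 1)) := by ring
      _ ≤ 2 ^ r * 2 ^ (q * r) := Nat.mul_le_mul h2 ih
      _ = 2 ^ ((q + 1) * r) := by rw [← pow_add]; congr 1; ring

/-- **Affine primitive groups.** -/
theorem affine {p n : ℕ} (ih : ∀ m, m < n → PB p m) {G : Type*} [Group G] [Finite G] {α : Type*}
    [Finite α] [MulAction G α] [FaithfulSMul G α] (hα : Nat.card α = n) (hp : ¬ p ∣ Nat.card G)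
    (hprim : IsPreprimitive G α) (N : Subgroup G) [hNn : N.Normal] (hN : N ≠ ⊥)
    (hab : ∀ a ∈ N, ∀ b ∈ N, a * b = b * a) : Nat.card (ConjClasses G) ^ 2 ≤ pr n := by
  classical
  -- a point
  have hne : Nonempty α := by
    by_contra hem
    rw [not_nonempty_iff] at hem
    apply hN
    rw [eq_bot_iff]
    intro x _
    rw [Subgroup.mem_bot]
    exact FaithfulSMul.eq_of_smul_eq_smul (α := α) fun a => (hem.false a).elim
  obtain ⟨a⟩ := hne
  obtain ⟨q, d, hq, hd, hnq, hNq, hpow, hC, hmin⟩ := setup hprim N hN hab a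
  rw [hα] at hnq
  have : Fact q.Prime := ⟨hq⟩
  have hq2 := hq.two_le
  rcases Nat.lt_or_ge d 2 with hd1 | hd2
  · -- prime degree
    have hd1' : d = 1 := by omega
    subst hd1'
    rw [pow_one] at hnq
    have h1 := prime_degree hprim N hN hab (by rw [hα, hnq]; exact hq)
    rw [hα, hnq] at h1
    have h2 := Nat.pow_le_pow_left h1 2
    rw [hnq]
    refine h2.trans ?_
    rcases Nat.lt_or_ge q 7 with h7 | h7
    · interval_cases q <;> first | decide | (exfalso; revert hq; decide)
    · rw [pr_large h7]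
      have key : ∀ m, 7 ≤ m → m ^ 2 ≤ 2 ^ m := by
        intro m hm
        induction m, hm using Nat.le_induction with
        | base => norm_num
        | succ m hm ihm =>
          rw [pow_succ 2 m]
          nlinarith
      exact key q h7
  · obtain ⟨d', rfl⟩ := Nat.exists_eq_add_of_le' (show 1 ≤ d by omega)
    let _ : CommGroup N := comm N hab
    set f : G ⧸ N →* MulAut N := act N hab with hf
    have hfinj : Function.Injective f := act_injective N hab hC
    have hirr : Irr f := irr_act N hab hmin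
    have hpow' : ∀ x : N, x ^ q = 1 := fun x => Subtype.ext (hpow x x.2)
    have hQs : ∀ lam : N →* ℂˣ, Qs N lam = stab f lam := by
      intro lam
      ext x
      rw [mem_Qs_iff N hab, mem_stab]
    have hpQ : ¬ p ∣ Nat.card (G ⧸ N) := fun h => hp (h.trans (Subgroup.card_quotient_dvd_card N))
    set r := q ^ d' with hr
    have hnr : n = q * r := by rw [hnq, pow_succ, mul_comm]
    have hrpos : 0 < r := pow_pos hq.pos _
    have hrn : r < n := by rw [hnr]; nlinarith
    have hst : ∀ lam : N →* ℂˣ, lam ≠ 1 →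
        Nat.card (ConjClasses (Qs N lam)) ^ 2 ≤ PermRed.sq r := by
      intro lam hlam
      rw [hQs]
      exact stab_PB hpow' hNq f hfinj lam hlam hpQ (ih r hrn)
    have hidx : ∀ lam : N →* ℂˣ, lam ≠ 1 → (Qs N lam).index ≤ n - 1 := by
      intro lam hlam
      rw [hQs, hnq, ← hNq]
      exact index_stab_le f lam hlam
    have hidx2 : ∀ lam : N →* ℂˣ, lam ≠ 1 → d' + 1 + 1 ≤ (Qs N lam).index := by
      intro lam hlam
      rw [hQs]
      exact succ_le_index hpow' hNq hd2 f hirr lam hlam
    -- a nontrivial character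
    obtain ⟨lam₀, hlam₀⟩ : ∃ lam : N →* ℂˣ, lam ≠ 1 := by
      by_contra hcon
      push Not at hcon
      have h1 : Nat.card (N →* ℂˣ) = 1 := by
        rw [Nat.card_eq_one_iff_unique]
        exact ⟨⟨fun a b => (hcon a).trans (hcon b).symm⟩, ⟨1⟩⟩
      rw [card_dual N hab, hNq] at h1
      have : 1 < q ^ (d' + 1) := Nat.one_lt_pow (by omega) hq.one_lt
      omega
    have hNn' : Nat.card N = n := by rw [hNq, hnq]
    -- the general bound
    have hgen : ∀ K' : ℕ, (∀ lam : N →* ℂˣ, lam ≠ 1 → Nat.card (ConjClasses (Qs N lam)) ≤ K') →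
        Nat.card (ConjClasses G) ≤ 2 * ((n - 1) * K') := by
      intro K' hK'
      have h1 : Nat.card (ConjClasses (G ⧸ N)) ≤ (n - 1) * K' :=
        (le_index_mul' (Qs N lam₀)).trans (Nat.mul_le_mul (hidx lam₀ hlam₀) (hK' lam₀ hlam₀))
      have h2 := affine_le N hab 1 ((n - 1) * K') K' h1 hK' (fun lam hlam => by
        have := hidx2 lam hlam
        omega)
      rw [hNn'] at h2
      omega
    -- from squares to bounds
    have hsm : ∀ a b : ℕ, a ^ 2 < (b + 1) ^ 2 → a ≤ b := by
      intro a b hab
      by_contra hcon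
      push Not at hcon
      have h1 : b + 1 ≤ a := hcon
      have := Nat.pow_le_pow_left h1 2
      omega
    -- the large cases
    have hlarge : 3 ≤ r → 7 ≤ n → 4 * n ^ 2 * 3 ^ (r - 1) ≤ 2 ^ n →
        Nat.card (ConjClasses G) ^ 2 ≤ pr n := by
      intro hr3 hn7 hnum
      rw [pr_large hn7]
      have h1 := hgen (Nat.sqrt (PermRed.sq r)) (fun lam hlam => by
        rw [Nat.le_sqrt']
        exact hst lam hlam)
      calc Nat.card (ConjClasses G) ^ 2 ≤ (2 * ((n - 1) * Nat.sqrt (PermRed.sq r))) ^ 2 :=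
            Nat.pow_le_pow_left h1 2
        _ = 4 * (n - 1) ^ 2 * (Nat.sqrt (PermRed.sq r)) ^ 2 := by ring
        _ ≤ 4 * n ^ 2 * PermRed.sq r := by
            refine Nat.mul_le_mul (Nat.mul_le_mul_left _ (Nat.pow_le_pow_left (by omega) 2))
              (Nat.sqrt_le' _)
        _ = 4 * n ^ 2 * 3 ^ (r - 1) := by rw [sq_three hr3]
        _ ≤ 2 ^ n := hnum
    rcases Nat.lt_or_ge q 3 with hq3 | hq3
    · -- `q = 2`
      have hq2' : q = 2 := by omega
      subst hq2'
      rcases Nat.lt_or_ge d' 5 with hd5 | hd5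
      · have hd'1 : 1 ≤ d' := by omega
        interval_cases d'
        · -- degree 4
          have hn4 : n = 4 := by rw [hnq]; norm_num
          have hr2 : r = 2 := by rw [hr]; norm_num
          have hK : Nat.card (ConjClasses (G ⧸ N)) ≤ 3 := by
            have h1 := (ih 3 (by omega)).of_injective (G := G ⧸ N) (α := {v : N // v ≠ 1})
              (by rw [card_ne, hNn', hn4]) (permNe f) (permNe_injective f hfinj) hpQ
            exact hsm _ _ (lt_of_le_of_lt h1 (by decide))
          have hK' : ∀ lam : N →* ℂˣ, lam ≠ 1 → Nat.card (ConjClasses (Qs N lam)) ≤ 2 := by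
            intro lam hlam
            have h1 := hst lam hlam
            rw [hr2] at h1
            exact hsm _ _ (lt_of_le_of_lt h1 (by decide))
          have h2 := affine_le N hab 3 3 2 hK hK' hidx2
          rw [hNn', hn4] at h2
          have h3 : Nat.card (ConjClasses G) ≤ 5 := by omega
          rw [hn4]
          exact (Nat.pow_le_pow_left h3 2).trans (by decide)
        · -- degree 8
          have hn8 : n = 8 := by rw [hnq]; norm_num
          have hr4 : r = 4 := by rw [hr]; norm_num
          have hK : Nat.card (ConjClasses (G ⧸ N)) ≤ 8 :=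
            GL_three_two hpow' (by rw [hNn', hn8]) f hfinj hirr
          have hK' : ∀ lam : N →* ℂˣ, lam ≠ 1 → Nat.card (ConjClasses (Qs N lam)) ≤ 5 := by
            intro lam hlam
            have h1 := hst lam hlam
            rw [hr4] at h1
            exact hsm _ _ (lt_of_le_of_lt h1 (by decide))
          have h2 := affine_le N hab 4 8 5 hK hK' hidx2
          rw [hNn', hn8] at h2
          have h3 : Nat.card (ConjClasses G) ≤ 16 := by omega
          rw [hn8]
          exact (Nat.pow_le_pow_left h3 2).trans (by decide)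
        · -- degree 16
          have hn16 : n = 16 := by rw [hnq]; norm_num
          have hr8 : r = 8 := by rw [hr]; norm_num
          have hK : Nat.card (ConjClasses (G ⧸ N)) ≤ 46 :=
            (KB_four (ih 8 (by omega))).of_injective hpow' hNq f hfinj hpQ
          have hK' : ∀ lam : N →* ℂˣ, lam ≠ 1 → Nat.card (ConjClasses (Qs N lam)) ≤ 46 := by
            intro lam hlam
            have h1 := hst lam hlam
            rw [hr8] at h1
            exact hsm _ _ (lt_of_le_of_lt h1 (by decide))
          have h2 := affine_le N hab 5 46 46 hK hK' hidx2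
          rw [hNn', hn16] at h2
          have h3 : Nat.card (ConjClasses G) ≤ 256 := by omega
          rw [hn16]
          exact (Nat.pow_le_pow_left h3 2).trans (by decide)
        · -- degree 32
          have hn32 : n = 32 := by rw [hnq]; norm_num
          have h1 := hgen (2 ^ 4 * 46) (fun lam hlam => by
            rw [hQs]
            exact (KB_four (ih 8 (by omega))).stab_le hpow' hNq f hfinj lam hlam hpQ)
          rw [hn32] at h1 ⊢
          have h3 : Nat.card (ConjClasses G) ≤ 65536 := by omega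
          exact (Nat.pow_le_pow_left h3 2).trans (by decide)
      · -- large dimension
        have hr32 : 32 ≤ r := by
          calc 32 = 2 ^ 5 := by norm_num
            _ ≤ r := Nat.pow_le_pow_right (by norm_num) hd5
        apply hlarge (by omega) (by omega)
        have h1 := numA hr32
        rw [hnr, pow_mul]
        calc 4 * (2 * r) ^ 2 * 3 ^ (r - 1) = 16 * r ^ 2 * 3 ^ (r - 1) := by ring
          _ ≤ 4 ^ r := h1
          _ = (2 ^ 2) ^ r := by norm_num
    · -- `q ≥ 3`
      have hqr : q ≤ r := Nat.le_self_pow (by omega) q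
      rcases Nat.lt_or_ge r 7 with hr7 | hr7
      · -- `q ∈ {3, 5}`, `d = 2`
        have hq7 : q < 7 := by omega
        have hd'1 : d' = 1 := by
          by_contra hne
          have h1 : q ^ 2 ≤ r := Nat.pow_le_pow_right hq.pos (by omega)
          nlinarith
        subst hd'1
        have hrq : r = q := by rw [hr, pow_one]
        have hqc : q = 3 ∨ q = 5 := by
          interval_cases q
          · left; rfl
          · exfalso; revert hq; decide
          · right; rfl
          · exfalso; revert hq; decide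
        rcases hqc with h | h
        · -- degree 9
          subst h
          have hn9 : n = 9 := by rw [hnq]; norm_num
          have hK : Nat.card (ConjClasses (G ⧸ N)) ≤ 10 :=
            GL_two_three hpow' (by rw [hNn', hn9]) f hfinj hpQ (ih 4 (by omega))
          have hK' : ∀ lam : N →* ℂˣ, lam ≠ 1 → Nat.card (ConjClasses (Qs N lam)) ≤ 3 := by
            intro lam hlam
            have h1 := hst lam hlam
            rw [hrq] at h1
            exact hsm _ _ (lt_of_le_of_lt h1 (by decide))
          have h2 := affine_le N hab 3 10 3 hK hK' hidx2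
          rw [hNn', hn9] at h2
          have h3 : Nat.card (ConjClasses G) ≤ 22 := by omega
          rw [hn9]
          exact (Nat.pow_le_pow_left h3 2).trans (by decide)
        · -- degree 25
          subst h
          have hn25 : n = 25 := by rw [hnq]; norm_num
          have h1 := hgen 9 (fun lam hlam => by
            have h1 := hst lam hlam
            rw [hrq] at h1
            exact hsm _ _ (lt_of_le_of_lt h1 (by decide)))
          rw [hn25] at h1 ⊢
          have h3 : Nat.card (ConjClasses G) ≤ 432 := by omega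
          exact (Nat.pow_le_pow_left h3 2).trans (by decide)
      · apply hlarge (by omega) (by omega)
        rw [hnr]
        exact numB hq3 hr7

end Cfsg.Agent.H540.AffFinal
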