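import Cfsg.Agent.H540.Affine
import Cfsg.Agent.H151.GLClass
import Cfsg.Agent.H168.GLFour

/-!
# Class numbers of small linear groups
-/

set_option autoImplicit false

namespace Cfsg.Agent.H540.AffSmall

open MulAction Cfsg.Agent.H540.ClassNum Cfsg.Agent.H540.HalfBound Cfsg.Agent.H540.Dual
  Cfsg.Agent.H540.PermRed Cfsg.Agent.H540.LinB Cfsg.Agent.H540.LinC Cfsg.Agent.H540.PermStep
  Cfsg.Agent.H540.Affine Cfsg.Agent.H540.Blocks

/-- primitive groups of prime degree with an abelian normal subgroup -/
theorem prime_degree {G : Type*} [Group G] [Finite G] {α : Type*} [Finite α] [MulAction G α]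
    [FaithfulSMul G α] (hprim : IsPreprimitive G α) (N : Subgroup G) [hNn : N.Normal] (hN : N ≠ ⊥)
    (hab : ∀ a ∈ N, ∀ b ∈ N, a * b = b * a) (hα : (Nat.card α).Prime) :
    Nat.card (ConjClasses G) ≤ Nat.card α := by
  classical
  have hne : Nonempty α := (Nat.card_pos_iff.1 hα.pos).1
  obtain ⟨a⟩ := hne
  obtain ⟨q, d, hq, hd, hn, hNq, hpow, hC, hmin⟩ := setup hprim N hN hab a
  have hd1 : d = 1 := by
    by_contra hne
    have h2 : 2 ≤ d := by omega
    rw [hn] at hα
    exact Nat.Prime.not_prime_pow h2 hα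
  subst hd1
  rw [pow_one] at hn hNq
  have : Fact q.Prime := ⟨hq⟩
  have hpg : IsPGroup q N := IsPGroup.of_card (n := 1) (by rw [pow_one]; exact hNq)
  have h1 := half_bound N q hpg hab hC
  rw [hNq] at h1
  have h2 := Nat.le_of_mul_le_mul_left h1 hq.pos
  -- the quotient has order at most `q - 1`
  have h3 : Nat.card (G ⧸ N) ≤ q - 1 := by
    have hcyc : IsCyclic N := isCyclic_of_prime_card hNq
    obtain ⟨g, hg⟩ := hcyc.exists_generator
    have hg1 : g ≠ 1 := by
      rintro rfl
      have h4 : Nat.card N = 1 := by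
        rw [Nat.card_eq_one_iff_unique]
        refine ⟨⟨fun x y => ?_⟩, ⟨1⟩⟩
        have hx := hg x
        have hy := hg y
        rw [Subgroup.zpowers_one_eq_bot, Subgroup.mem_bot] at hx hy
        rw [hx, hy]
      rw [hNq] at h4
      exact hq.one_lt.ne' h4
    have h4 : Nat.card {x : N // x ≠ 1} = q - 1 := by
      have := Fintype.ofFinite N
      rw [Nat.card_eq_fintype_card, Fintype.card_subtype_compl, Fintype.card_subtype_eq,
        ← Nat.card_eq_fintype_card, hNq]
    rw [← h4]
    refine Nat.card_le_card_of_injective (fun x => (⟨act N hab x g, ?_⟩ : {x : N // x ≠ 1})) ?_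
    · intro h5
      apply hg1
      exact (MulEquiv.map_eq_one_iff _).1 h5
    · intro x y hxy
      apply act_injective N hab hC
      have h5 : act N hab x g = act N hab y g := congrArg Subtype.val hxy
      ext v
      obtain ⟨k, hk⟩ := Subgroup.mem_zpowers_iff.1 (hg v)
      rw [← hk, map_zpow, map_zpow, h5]
  have h5 : Nat.card (ConjClasses (G ⧸ N)) ≤ Nat.card (G ⧸ N) := card_conjClasses_le_card
  have h6 : 0 < Nat.card (G ⧸ N) := Nat.card_pos
  rw [hn]
  generalize Nat.card (G ⧸ N) = e at *
  generalize Nat.card (ConjClasses (G ⧸ N)) = kQ at *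
  generalize Nat.card (ConjClasses G) = k at *
  -- `e k ≤ e kQ + (q - 1) ≤ e² + q - 1 ≤ e q`
  apply Nat.le_of_mul_le_mul_left _ h6
  refine h2.trans ?_
  obtain ⟨t, ht⟩ := Nat.exists_eq_add_of_le h3
  obtain ⟨u, hu⟩ := Nat.exists_eq_add_of_le h6
  have hq1 : q = e + t + 1 := by omega
  have h7 : e * kQ ≤ e * e := Nat.mul_le_mul_left _ h5
  rw [hq1]
  have h8 : e * (e + t + 1) = e * e + e * t + e := by ring
  rw [h8, Nat.add_sub_cancel]
  have h9 : t ≤ e * t := Nat.le_mul_of_pos_left _ h6
  omega

/-- action on the nontrivial elements -/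
def permNe {V : Type*} [Group V] {X : Type*} [Group X] (f : X →* MulAut V) :
    X →* Equiv.Perm {v : V // v ≠ 1} where
  toFun x :=
    { toFun := fun v => ⟨f x v.1, fun h => v.2 ((MulEquiv.map_eq_one_iff _).1 h)⟩
      invFun := fun v => ⟨f x⁻¹ v.1, fun h => v.2 ((MulEquiv.map_eq_one_iff _).1 h)⟩
      left_inv := fun v => by
        apply Subtype.ext
        change f x⁻¹ (f x v.1) = v.1
        rw [← MulAut.mul_apply, ← map_mul, inv_mul_cancel, map_one, MulAut.one_apply]
      right_inv := fun v => by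
        apply Subtype.ext
        change f x (f x⁻¹ v.1) = v.1
        rw [← MulAut.mul_apply, ← map_mul, mul_inv_cancel, map_one, MulAut.one_apply] }
  map_one' := by
    ext v
    change f 1 v.1 = v.1
    rw [map_one, MulAut.one_apply]
  map_mul' x y := by
    ext v
    change f (x * y) v.1 = f x (f y v.1)
    rw [map_mul, MulAut.mul_apply]

theorem permNe_injective {V : Type*} [Group V] {X : Type*} [Group X] (f : X →* MulAut V)
    (hf : Function.Injective f) : Function.Injective (permNe f) := by
  rw [injective_iff_map_eq_one]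
  intro x hx
  apply hf
  rw [map_one]
  ext v
  rw [MulAut.one_apply]
  by_cases hv : v = 1
  · rw [hv, map_one]
  · exact congrArg (fun σ : Equiv.Perm {v : V // v ≠ 1} => (σ ⟨v, hv⟩).1) hx

theorem card_ne {V : Type*} [Group V] [Finite V] : Nat.card {v : V // v ≠ 1} = Nat.card V - 1 := by
  classical
  have := Fintype.ofFinite V
  rw [Nat.card_eq_fintype_card, Fintype.card_subtype_compl, Fintype.card_subtype_eq,
    ← Nat.card_eq_fintype_card]

/-- `GL(4,2) ≅ A₈`. -/
theorem KB_four {p : ℕ} (h : PB p 8) : KB p 2 4 46 := by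
  intro X hX
  obtain ⟨e⟩ := H168.gl_equiv (F := ZMod 2) (ZMod.card 2)
  let g : X →* Equiv.Perm (Fin 8) := (alternatingGroup (Fin 8)).subtype.comp
    (e.toMonoidHom.comp X.subtype)
  have hg : Function.Injective g :=
    Subtype.coe_injective.comp (e.injective.comp Subtype.coe_injective)
  have h1 := h.of_injective (α := Fin 8) (by rw [Nat.card_eq_fintype_card, Fintype.card_fin]) g hg hX
  by_contra hcon
  push Not at hcon
  have h2 : 47 ^ 2 ≤ Nat.card (ConjClasses X) ^ 2 := Nat.pow_le_pow_left hcon 2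
  have h3 : PermRed.sq 8 = 2187 := by decide
  rw [h3] at h1
  omega

/-- the relation `w = v^{±1}` on the nontrivial elements -/
def pmRel (V : Type*) [CommGroup V] : Setoid {v : V // v ≠ 1} where
  r v w := w.1 = v.1 ∨ w.1 = v.1⁻¹
  iseqv := by
    refine ⟨fun v => Or.inl rfl, ?_, ?_⟩
    · rintro v w (h | h)
      · exact Or.inl h.symm
      · right; rw [h, inv_inv]
    · rintro u v w (h | h) (h' | h')
      · left; rw [h', h]
      · right; rw [h', h]
      · right; rw [h', h]
      · left; rw [h', h, inv_inv]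

/-- subgroups of `GL(2,3)` -/
theorem GL_two_three {p : ℕ} {V : Type*} [CommGroup V] [Finite V] {X : Type*} [Group X] [Finite X]
    (hpow : ∀ x : V, x ^ 3 = 1) (hc : Nat.card V = 9) (f : X →* MulAut V)
    (hf : Function.Injective f) (hp : ¬ p ∣ Nat.card X) (hPB : PB p 4) :
    Nat.card (ConjClasses X) ≤ 10 := by
  classical
  let _ : MulAction X {v : V // v ≠ 1} := MulAction.compHom _ (permNe f)
  have hsmul : ∀ (x : X) (v : {v : V // v ≠ 1}), (x • v).1 = f x v.1 := fun x v => rfl
  have hinv : Inv X (pmRel V) := by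
    rintro x v w (h | h)
    · left; rw [hsmul, hsmul, h]
    · right; rw [hsmul, hsmul, h, map_inv]
  have hsq : ∀ v : V, v ≠ 1 → v⁻¹ ≠ v := by
    intro v hv h
    apply hv
    have h1 : v * v = 1 := by
      calc v * v = v * v⁻¹ := by rw [h]
        _ = 1 := mul_inv_cancel v
    have h2 := hpow v
    rw [pow_succ, pow_two, h1, one_mul] at h2
    exact h2
  -- the classes have two elements
  have hcls : ∀ q : Quotient (pmRel V), Nat.card (Cls (pmRel V) q) = 2 := by
    intro q
    obtain ⟨v, rfl⟩ := Quotient.exists_rep q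
    have hv' : v.1⁻¹ ≠ 1 := fun h => v.2 (inv_eq_one.1 h)
    rw [Nat.card_eq_two_iff]
    refine ⟨⟨v, rfl⟩, ⟨⟨v.1⁻¹, hv'⟩, Quotient.sound (Or.inr (inv_inv _).symm)⟩, ?_, ?_⟩
    · intro h
      have h1 := congrArg (fun z : Cls (pmRel V) (Quotient.mk (pmRel V) v) => z.1.1) h
      exact hsq v.1 v.2 h1.symm
    · rw [Set.eq_univ_iff_forall]
      rintro ⟨w, hw⟩
      rcases Quotient.exact hw with h | h
      · left
        exact Subtype.ext (Subtype.ext h.symm)
      · right
        apply Subtype.ext
        apply Subtype.ext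
        change w.1 = v.1⁻¹
        rw [h, inv_inv]
  have h4 : Nat.card (Quotient (pmRel V)) = 4 := by
    have := Fintype.ofFinite (Quotient (pmRel V))
    have h1 : Nat.card {v : V // v ≠ 1} = ∑ q : Quotient (pmRel V), Nat.card (Cls (pmRel V) q) := by
      rw [← Nat.card_sigma]
      exact Nat.card_congr (Equiv.sigmaFiberEquiv (Quotient.mk (pmRel V))).symm
    rw [card_ne, hc, Finset.sum_congr rfl (fun q _ => hcls q), Finset.sum_const, Finset.card_univ,
      ← Nat.card_eq_fintype_card, smul_eq_mul] at h1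
    omega
  have hr : Nat.card (ConjClasses (H539.BlockRed.quotHom (pmRel V) hinv).range) ≤ 5 := by
    have h1 := hPB.range h4 (H539.BlockRed.quotHom (pmRel V) hinv) hp
    by_contra hcon
    push Not at hcon
    have h2 : 6 ^ 2 ≤ Nat.card (ConjClasses (H539.BlockRed.quotHom (pmRel V) hinv).range) ^ 2 :=
      Nat.pow_le_pow_left hcon 2
    have h3 : PermRed.sq 4 = 27 := by decide
    rw [h3] at h1
    omega
  have hk : Nat.card (H539.BlockRed.quotHom (pmRel V) hinv).ker ≤ 2 := by
    -- a nontrivial element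
    obtain ⟨v₀⟩ : Nonempty {v : V // v ≠ 1} := by
      apply (Nat.card_pos_iff.1 _).1
      rw [card_ne, hc]; norm_num
    have hker : ∀ x ∈ (H539.BlockRed.quotHom (pmRel V) hinv).ker, ∀ v : V, v ≠ 1 →
        f x v = v ∨ f x v = v⁻¹ := by
      intro x hx v hv
      have h1 : H539.BlockRed.quotHom (pmRel V) hinv x = 1 := hx
      have h2 : Quotient.mk (pmRel V) (x • (⟨v, hv⟩ : {v : V // v ≠ 1})) = Quotient.mk (pmRel V) ⟨v, hv⟩ := by
        change H539.BlockRed.quotHom (pmRel V) hinv x (Quotient.mk (pmRel V) ⟨v, hv⟩) = _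
        rw [h1]; rfl
      rcases Quotient.exact h2 with h | h
      · left; exact h.symm
      · right
        have h' : v = (f x v)⁻¹ := h
        rw [← inv_eq_iff_eq_inv] at h'
        exact h'.symm
    rw [← hcls (Quotient.mk (pmRel V) v₀)]
    refine Nat.card_le_card_of_injective (fun x => (⟨x.1 • v₀, ?_⟩ :
      Cls (pmRel V) (Quotient.mk (pmRel V) v₀))) ?_
    · have h1 : H539.BlockRed.quotHom (pmRel V) hinv x.1 = 1 := x.2
      change H539.BlockRed.quotHom (pmRel V) hinv x.1 (Quotient.mk (pmRel V) v₀) = _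
      rw [h1]; rfl
    · intro x y hxy
      have h1 : x.1 • v₀ = y.1 • v₀ := congrArg Subtype.val hxy
      have h2 : (y.1⁻¹ * x.1) • v₀ = v₀ := by rw [mul_smul, h1, inv_smul_smul]
      have hz : y.1⁻¹ * x.1 ∈ (H539.BlockRed.quotHom (pmRel V) hinv).ker :=
        mul_mem (inv_mem y.2) x.2
      have h3 : f (y.1⁻¹ * x.1) v₀.1 = v₀.1 := congrArg Subtype.val h2
      have h4 : y.1⁻¹ * x.1 = 1 := by
        apply hf
        rw [map_one]
        ext w
        rw [MulAut.one_apply]
        generalize y.1⁻¹ * x.1 = z at *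
        by_cases hw : w = 1
        · rw [hw, map_one]
        · by_cases hw2 : w * v₀.1 = 1
          · rw [mul_eq_one_iff_eq_inv] at hw2
            rw [hw2, map_inv, h3]
          · rcases hker z hz w hw with h5 | h5
            · exact h5
            · rcases hker z hz (w * v₀.1) hw2 with h6 | h6
              · rw [map_mul, h3, h5] at h6
                have h7 : w⁻¹ = w := mul_right_cancel h6
                exact absurd h7 (hsq w hw)
              · rw [map_mul, h3, h5, mul_inv] at h6
                have h7 : v₀.1 = v₀.1⁻¹ := mul_left_cancel h6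
                exact absurd h7.symm (hsq v₀.1 v₀.2)
      apply Subtype.ext
      have h5 := congrArg (fun z => y.1 * z) h4
      simpa using h5
  calc Nat.card (ConjClasses X) ≤ _ := le_ker_mul_range (H539.BlockRed.quotHom (pmRel V) hinv)
    _ ≤ 2 * 5 := Nat.mul_le_mul ((card_conjClasses_le_card).trans hk) hr

end Cfsg.Agent.H540.AffSmall
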