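import Cfsg.Agent.H540.LinC

/-!
# Class numbers of affine primitive groups
-/

set_option autoImplicit false

namespace Cfsg.Agent.H540.Affine

open MulAction Cfsg.Agent.H540.ClassNum Cfsg.Agent.H540.HalfBound Cfsg.Agent.H540.Dual
  Cfsg.Agent.H540.PermRed Cfsg.Agent.H540.LinB Cfsg.Agent.H540.LinC Cfsg.Agent.H540.PermStep

section Setup

variable {G : Type*} [Group G] {α : Type*} [MulAction G α] [FaithfulSMul G α]

theorem trans_of_normal (hprim : IsPreprimitive G α) (W : Subgroup G) [W.Normal] (hW : W ≠ ⊥) :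
    IsPretransitive W α := by
  apply IsQuasiPreprimitive.isPretransitive_of_normal (G := G)
  intro hfix
  apply hW
  rw [eq_bot_iff]
  intro w hw
  rw [Subgroup.mem_bot]
  apply FaithfulSMul.eq_of_smul_eq_smul (α := α)
  intro x
  have h1 : x ∈ fixedPoints W α := by rw [hfix]; trivial
  rw [one_smul]
  exact h1 ⟨w, hw⟩

omit [FaithfulSMul G α] in
theorem card_le_of_trans [Finite G] (W : Subgroup G) (a : α) (hW : IsPretransitive W α) :
    Nat.card α ≤ Nat.card W := by
  apply Nat.card_le_card_of_surjective (fun w : W => w • a)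
  intro b
  exact exists_smul_eq W a b

/-- the structure of affine primitive groups. -/
theorem setup [Finite G] [Finite α] (hprim : IsPreprimitive G α)
    (N : Subgroup G) [hNn : N.Normal] (hN : N ≠ ⊥) (hab : ∀ a ∈ N, ∀ b ∈ N, a * b = b * a) (a : α) :
    ∃ q d : ℕ, q.Prime ∧ 1 ≤ d ∧ Nat.card α = q ^ d ∧ Nat.card N = q ^ d ∧ (∀ x ∈ N, x ^ q = 1) ∧
      Subgroup.centralizer (N : Set G) ≤ N ∧
      ∀ W : Subgroup G, W.Normal → W ≤ N → W = ⊥ ∨ W = N := by
  have htN := trans_of_normal hprim N hN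
  have hC : Nat.card (Subgroup.centralizer (N : Set G)) ≤ Nat.card α := by
    apply Nat.card_le_card_of_injective (fun c : Subgroup.centralizer (N : Set G) => c.1 • a)
    intro c c' hcc
    have hcc' : c.1 • a = c'.1 • a := hcc
    apply Subtype.ext
    apply FaithfulSMul.eq_of_smul_eq_smul (α := α)
    intro b
    obtain ⟨y, hy⟩ := exists_smul_eq N a b
    have hy' : y.1 • a = b := hy
    have h1 : y.1 * c.1 = c.1 * y.1 := (Subgroup.mem_centralizer_iff.1 c.2) y.1 y.2
    have h2 : y.1 * c'.1 = c'.1 * y.1 := (Subgroup.mem_centralizer_iff.1 c'.2) y.1 y.2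
    rw [← hy', smul_smul, smul_smul, ← h1, ← h2, mul_smul, mul_smul, hcc']
  have hNC : N ≤ Subgroup.centralizer (N : Set G) := by
    intro x hx
    rw [Subgroup.mem_centralizer_iff]
    intro y hy
    exact hab y hy x hx
  have h1 : Nat.card α ≤ Nat.card N := card_le_of_trans N a htN
  have h2 : Nat.card N ≤ Nat.card (Subgroup.centralizer (N : Set G)) := Subgroup.card_le_of_le hNC
  have hcard : Nat.card N = Nat.card α := by omega
  have hCN : Subgroup.centralizer (N : Set G) ≤ N := by
    have h3 : N = Subgroup.centralizer (N : Set G) := by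
      apply Subgroup.eq_of_le_of_card_ge hNC
      omega
    exact le_of_eq h3.symm
  have hmin : ∀ W : Subgroup G, W.Normal → W ≤ N → W = ⊥ ∨ W = N := by
    intro W hWn hWN
    by_cases hW : W = ⊥
    · exact Or.inl hW
    · right
      have h3 := card_le_of_trans W a (trans_of_normal hprim W hW)
      apply Subgroup.eq_of_le_of_card_ge hWN
      omega
  -- a prime divisor
  have hN1 : Nat.card N ≠ 1 := fun h => hN (Subgroup.eq_bot_of_card_eq _ h)
  obtain ⟨q, hq, hqN⟩ := Nat.exists_prime_and_dvd hN1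
  have : Fact q.Prime := ⟨hq⟩
  let W : Subgroup G :=
    { carrier := {x | x ∈ N ∧ x ^ q = 1}
      one_mem' := ⟨one_mem _, one_pow _⟩
      mul_mem' := by
        rintro x y ⟨hx, hx'⟩ ⟨hy, hy'⟩
        refine ⟨mul_mem hx hy, ?_⟩
        rw [Commute.mul_pow (hab x hx y hy), hx', hy', one_mul]
      inv_mem' := by
        rintro x ⟨hx, hx'⟩
        exact ⟨inv_mem hx, by rw [inv_pow, hx', inv_one]⟩ }
  have hWn : W.Normal := by
    refine ⟨fun x hx g => ⟨hNn.conj_mem x hx.1 g, ?_⟩⟩
    rw [conj_pow, hx.2, mul_one, mul_inv_cancel]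
  have hWN : W ≤ N := fun x hx => hx.1
  have hW : W = N := by
    rcases hmin W hWn hWN with h | h
    · exfalso
      obtain ⟨x, hx⟩ := exists_prime_orderOf_dvd_card' q hqN
      have h3 : (x : G) ∈ W := ⟨x.2, by
        rw [← Subgroup.coe_pow, ← hx, pow_orderOf_eq_one]; rfl⟩
      rw [h, Subgroup.mem_bot] at h3
      have h4 : x = 1 := Subtype.ext h3
      rw [h4, orderOf_one] at hx
      exact hq.one_lt.ne hx
    · exact h
  have hpow : ∀ x ∈ N, x ^ q = 1 := by
    intro x hx
    rw [← hW] at hx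
    exact hx.2
  have hpg : IsPGroup q N := by
    intro x
    refine ⟨1, ?_⟩
    rw [pow_one]
    exact Subtype.ext (hpow x x.2)
  obtain ⟨d, hd⟩ := IsPGroup.iff_card.1 hpg
  refine ⟨q, d, hq, ?_, hcard ▸ hd, hd, hpow, hCN, hmin⟩
  by_contra h0
  have h0' : d = 0 := by omega
  rw [h0', pow_zero] at hd
  exact hN1 hd

end Setup

section Bound

variable {G : Type*} [Group G] [Finite G] (N : Subgroup G) [N.Normal]

/-- the action of `G/N` on an abelian normal subgroup `N`. -/
def act (hab : ∀ a ∈ N, ∀ b ∈ N, a * b = b * a) : G ⧸ N →* MulAut N :=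
  QuotientGroup.lift N MulAut.conjNormal (by
    intro g hg
    ext n
    rw [MulAut.one_apply, MulAut.conjNormal_apply, hab g hg n n.2, mul_inv_cancel_right])

omit [Finite G] in
theorem act_mk (hab : ∀ a ∈ N, ∀ b ∈ N, a * b = b * a) (g : G) :
    act N hab (QuotientGroup.mk g) = MulAut.conjNormal g := rfl

omit [Finite G] in
theorem act_injective (hab : ∀ a ∈ N, ∀ b ∈ N, a * b = b * a)
    (hC : Subgroup.centralizer (N : Set G) ≤ N) : Function.Injective (act N hab) := by
  rw [injective_iff_map_eq_one]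
  intro q
  obtain ⟨g, rfl⟩ := QuotientGroup.mk_surjective q
  intro hg
  rw [act_mk] at hg
  rw [QuotientGroup.eq_one_iff]
  apply hC
  rw [Subgroup.mem_centralizer_iff]
  intro n hn
  have h1 := congrArg Subtype.val (DFunLike.congr_fun hg (⟨n, hn⟩ : N))
  rw [MulAut.conjNormal_apply, MulAut.one_apply] at h1
  have h2 : g * n * g⁻¹ = n := h1
  calc n * g = (g * n * g⁻¹) * g := by rw [h2]
    _ = g * n := by group

/-- `N` as a commutative group -/
abbrev comm (hab : ∀ a ∈ N, ∀ b ∈ N, a * b = b * a) : CommGroup N :=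
  { (inferInstance : Group N) with mul_comm := fun a b => Subtype.ext (hab a a.2 b b.2) }

omit [Finite G] in
theorem mem_Qs_iff (hab : ∀ a ∈ N, ∀ b ∈ N, a * b = b * a) (lam : N →* ℂˣ) (q : G ⧸ N) :
    q ∈ Qs N lam ↔ ∀ n : N, lam (act N hab q n) = lam n := by
  obtain ⟨g, rfl⟩ := QuotientGroup.mk_surjective q
  rw [mk_mem_Qs hab, mem_St]
  rfl

omit [Finite G] in
theorem irr_act (hab : ∀ a ∈ N, ∀ b ∈ N, a * b = b * a)
    (hmin : ∀ W : Subgroup G, W.Normal → W ≤ N → W = ⊥ ∨ W = N) :
    letI := comm N hab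
    Irr (act N hab) := by
  intro W hW
  have hn : (W.map N.subtype).Normal := by
    refine ⟨?_⟩
    rintro _ ⟨w, hw, rfl⟩ g
    refine ⟨MulAut.conjNormal g w, ?_, ?_⟩
    · exact hW (QuotientGroup.mk g) w hw
    · rw [Subgroup.coe_subtype, MulAut.conjNormal_apply]
  have hle : W.map N.subtype ≤ N := by
    rintro _ ⟨w, _, rfl⟩
    exact w.2
  rcases hmin _ hn hle with h | h
  · left
    rw [eq_bot_iff]
    intro w hw
    have h1 : (w : G) ∈ W.map N.subtype := ⟨w, hw, rfl⟩
    rw [h, Subgroup.mem_bot] at h1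
    exact Subtype.ext h1
  · right
    rw [eq_top_iff]
    intro w _
    have h1 : (w : G) ∈ W.map N.subtype := by rw [h]; exact w.2
    obtain ⟨w', hw', hww⟩ := h1
    have h2 : w' = w := Subtype.ext hww
    rwa [← h2]

/-- **The affine bound.** -/
theorem affine_le (hab : ∀ a ∈ N, ∀ b ∈ N, a * b = b * a) (s K K' : ℕ)
    (hK : Nat.card (ConjClasses (G ⧸ N)) ≤ K)
    (hK' : ∀ lam : N →* ℂˣ, lam ≠ 1 → Nat.card (ConjClasses (Qs N lam)) ≤ K')
    (hs : ∀ lam : N →* ℂˣ, lam ≠ 1 → s ≤ (Qs N lam).index) :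
    s * Nat.card (ConjClasses G) ≤ s * K + (Nat.card N - 1) * K' := by
  classical
  have hfin := finite_dual N hab
  have := Fintype.ofFinite (N →* ℂˣ)
  have h1 := dual_bound N hab
  have hpos : 0 < Nat.card (G ⧸ N) := Nat.card_pos
  refine Nat.le_of_mul_le_mul_right ?_ hpos
  have h2 : ∀ lam : N →* ℂˣ, s * (Nat.card (ConjClasses (Qs N lam)) * Nat.card (Qs N lam)) ≤
      (if lam = 1 then s * K else K') * Nat.card (G ⧸ N) := by
    intro lam
    split_ifs with h
    · subst h
      rw [Qs_one, card_conjClasses_congr (Subgroup.topEquiv (G := G ⧸ N)),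
        Nat.card_congr (Subgroup.topEquiv (G := G ⧸ N)).toEquiv, ← mul_assoc]
      exact Nat.mul_le_mul_right _ (Nat.mul_le_mul_left _ hK)
    · calc s * (Nat.card (ConjClasses (Qs N lam)) * Nat.card (Qs N lam))
          = Nat.card (ConjClasses (Qs N lam)) * (s * Nat.card (Qs N lam)) := by ring
        _ ≤ K' * ((Qs N lam).index * Nat.card (Qs N lam)) :=
            Nat.mul_le_mul (hK' lam h) (Nat.mul_le_mul_right _ (hs lam h))
        _ = _ := by rw [Subgroup.index_mul_card]
  calc s * Nat.card (ConjClasses G) * Nat.card (G ⧸ N)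
      = s * (Nat.card (ConjClasses G) * Nat.card (G ⧸ N)) := by ring
    _ ≤ s * ∑ lam : N →* ℂˣ, Nat.card (ConjClasses (Qs N lam)) * Nat.card (Qs N lam) :=
        Nat.mul_le_mul_left _ h1
    _ = ∑ lam : N →* ℂˣ, s * (Nat.card (ConjClasses (Qs N lam)) * Nat.card (Qs N lam)) :=
        Finset.mul_sum _ _ _
    _ ≤ ∑ lam : N →* ℂˣ, (if lam = 1 then s * K else K') * Nat.card (G ⧸ N) :=
        Finset.sum_le_sum fun lam _ => h2 lam
    _ = (∑ lam : N →* ℂˣ, (if lam = 1 then s * K else K')) * Nat.card (G ⧸ N) :=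
        (Finset.sum_mul _ _ _).symm
    _ = (s * K + (Nat.card N - 1) * K') * Nat.card (G ⧸ N) := by
        congr 1
        rw [Finset.sum_ite, Finset.sum_const, Finset.sum_const, smul_eq_mul, smul_eq_mul]
        have e1 : (Finset.univ.filter (fun lam : N →* ℂˣ => lam = 1)).card = 1 := by
          rw [Finset.card_eq_one]
          exact ⟨1, by ext; simp⟩
        have e2 : (Finset.univ.filter (fun lam : N →* ℂˣ => ¬ lam = 1)).card = Nat.card N - 1 := by
          have e3 := Finset.card_filter_add_card_filter_not (s := (Finset.univ : Finset (N →* ℂˣ)))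
            (fun lam : N →* ℂˣ => lam = 1)
          rw [e1, Finset.card_univ, ← Nat.card_eq_fintype_card, card_dual N hab] at e3
          omega
        rw [e1, e2, one_mul]

end Bound

end Cfsg.Agent.H540.Affine
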