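import Cfsg.Agent.H540.TabFin
import Cfsg.Agent.H599.GoodC
import Cfsg.Agent.H539.GoodSporA
import Cfsg.Agent.H539.GoodSporB
import Cfsg.Agent.H531.GoodTits
import Cfsg.Agent.OrdDiv.Table

/-!
# The table `Tab p`
-/

set_option autoImplicit false

namespace Cfsg.Agent.H540.Assembly

open Cfsg

/-- **the table `Tab p`, from the classification** -/
theorem tab (cls : ∀ (T : Type) [Group T] [Finite T] [IsSimpleGroup T], IsKnownSimple' T)
    {p : ℕ} (hp : p = 3 ∨ p = 5 ∨ p = 7) : Main.Tab p :=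
  TabFin.tab (fun T _ _ _ hT h => H599.GoodC.row_g2 T hT h.1 h.2)
    (fun T _ _ _ hT h => H599.GoodC.row_td4 T hT h.1)
    (fun T _ _ _ hT h => H599.GoodA.row_sz T hT h)
    (fun T _ _ _ hT h => H599.GoodA.row_ree T hT h)
    (fun T _ _ _ hT h => H599.GoodA.row_tf4 T hT h.1 h.2)
    (fun T _ _ _ hT h => H531.GoodTits.row T hT h)
    (fun T _ _ _ hT h => H539.GoodSporA.m11 T hT h)
    (fun T _ _ _ hT h => H539.GoodSporB.m12 T hT h)
    (fun T _ _ _ hT h => H539.GoodSporA.j3 T hT h)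
    OrdDiv.table cls hp

end Cfsg.Agent.H540.Assembly
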