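import Cfsg.Agent.H540.HalfBound

/-!
# Class numbers and the dual of an abelian normal subgroup

`dual_bound`: `k(G) |G/N| ≤ ∑_λ k(Q_λ) |Q_λ|`, the sum over the characters `λ` of the abelian normal
subgroup `N`, where `Q_λ ≤ G/N` is the stabilizer of `λ`.
-/

set_option autoImplicit false

namespace Cfsg.Agent.H540.Dual

open Cfsg.Agent.H540.ClassNum Cfsg.Agent.H540.HalfBound

variable {G : Type*} [Group G] (N : Subgroup G) [N.Normal]

/-- the stabilizer of a character of `N` -/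
def St (lam : N →* ℂˣ) : Subgroup G where
  carrier := {g | ∀ n : N, lam (MulAut.conjNormal g n) = lam n}
  one_mem' := fun n => by rw [map_one]; rfl
  mul_mem' := by
    intro a b ha hb n
    rw [map_mul, MulAut.mul_apply, ha, hb]
  inv_mem' := by
    intro a ha n
    have h1 := ha (MulAut.conjNormal a⁻¹ n)
    rw [← MulAut.mul_apply, ← map_mul, mul_inv_cancel, map_one, MulAut.one_apply] at h1
    exact h1.symm

variable {N} in
theorem mem_St {lam : N →* ℂˣ} {g : G} :
    g ∈ St N lam ↔ ∀ n : N, lam (MulAut.conjNormal g n) = lam n := Iff.rfl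

theorem le_St (hab : ∀ a ∈ N, ∀ b ∈ N, a * b = b * a) (lam : N →* ℂˣ) : N ≤ St N lam := by
  intro g hg n
  congr 1
  apply Subtype.ext
  rw [MulAut.conjNormal_apply, hab g hg n n.2, mul_inv_cancel_right]

/-- the stabilizer in the quotient -/
def Qs (lam : N →* ℂˣ) : Subgroup (G ⧸ N) := (St N lam).map (QuotientGroup.mk' N)

variable {N} in
theorem mk_mem_Qs (hab : ∀ a ∈ N, ∀ b ∈ N, a * b = b * a) {lam : N →* ℂˣ} {g : G} :
    (QuotientGroup.mk g : G ⧸ N) ∈ Qs N lam ↔ g ∈ St N lam := by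
  constructor
  · rintro ⟨g', hg', h⟩
    have h1 : g'⁻¹ * g ∈ N := QuotientGroup.eq.1 h
    have h2 := mul_mem hg' (le_St N hab lam h1)
    rwa [mul_inv_cancel_left] at h2
  · intro h
    exact ⟨g, h, rfl⟩

theorem Qs_one : Qs N 1 = ⊤ := by
  rw [eq_top_iff]
  rintro q -
  obtain ⟨g, rfl⟩ := QuotientGroup.mk_surjective q
  exact ⟨g, fun n => rfl, rfl⟩

omit [N.Normal] in
theorem card_dual [Finite G] (hab : ∀ a ∈ N, ∀ b ∈ N, a * b = b * a) :
    Nat.card (N →* ℂˣ) = Nat.card N := by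
  let _ : CommGroup N := { (inferInstance : Group N) with
    mul_comm := fun a b => Subtype.ext (hab a a.2 b b.2) }
  exact CommGroup.card_monoidHom_of_hasEnoughRootsOfUnity N ℂ

theorem finite_dual [Finite G] (hab : ∀ a ∈ N, ∀ b ∈ N, a * b = b * a) : Finite (N →* ℂˣ) := by
  have h1 := card_dual N hab
  have h2 : 0 < Nat.card N := Nat.card_pos
  exact (Nat.card_pos_iff.1 (h1 ▸ h2)).2

omit [N.Normal] in
/-- the number of characters trivial on a subgroup. -/
theorem card_annihilator [Finite G] (hab : ∀ a ∈ N, ∀ b ∈ N, a * b = b * a) (R : Subgroup N) :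
    Nat.card {lam : N →* ℂˣ // ∀ x ∈ R, lam x = 1} = R.index := by
  let _ : CommGroup N := { (inferInstance : Group N) with
    mul_comm := fun a b => Subtype.ext (hab a a.2 b b.2) }
  have h1 := CommGroup.card_domRestrictHom_ker (G := N) (M := ℂ) R
  rw [Subgroup.index_eq_card, ← h1]
  apply Nat.card_congr
  refine Equiv.subtypeEquivRight fun lam => ?_
  rw [MonoidHom.mem_ker]
  constructor
  · intro h
    ext x
    exact congrArg _ (h x.1 x.2)
  · intro h x hx
    exact DFunLike.congr_fun h (⟨x, hx⟩ : R)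

theorem fibre_le [Finite G] (hab : ∀ a ∈ N, ∀ b ∈ N, a * b = b * a) (x y : G) (hxy : x * y = y * x) :
    Nat.card {p : CP G // (QuotientGroup.mk p.1.1 : G ⧸ N) = QuotientGroup.mk x ∧
      (QuotientGroup.mk p.1.2 : G ⧸ N) = QuotientGroup.mk y} ≤
      Nat.card N * Nat.card {lam : N →* ℂˣ // x ∈ St N lam ∧ y ∈ St N lam} := by
  have hfin := finite_dual N hab
  refine (card_fibre_le N hab x y hxy).trans ?_
  have h2 : Nat.card (phi N hab x y).ker * Nat.card (phi N hab x y).range = Nat.card N ^ 2 := by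
    rw [← Subgroup.index_ker, Subgroup.card_mul_index, Nat.card_prod, sq]
  have h3 : (phi N hab x y).range.index * Nat.card (phi N hab x y).range = Nat.card N :=
    Subgroup.index_mul_card _
  have h4 : Nat.card (phi N hab x y).ker = Nat.card N * (phi N hab x y).range.index := by
    have hpos : 0 < Nat.card (phi N hab x y).range := Nat.card_pos
    apply Nat.eq_of_mul_eq_mul_right hpos
    rw [h2, mul_assoc, h3, sq]
  rw [h4, ← card_annihilator N hab]
  apply Nat.mul_le_mul_left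
  refine Nat.card_le_card_of_injective (fun lam => ⟨lam.1, ?_, ?_⟩) ?_
  · intro v
    -- `lam (x v x⁻¹) = lam v`
    have h5 : lam.1 (phi N hab x y (1, MulAut.conjNormal x v)) = 1 := lam.2 _ ⟨_, rfl⟩
    have h6 : phi N hab x y (1, MulAut.conjNormal x v) = MulAut.conjNormal x v * v⁻¹ := by
      apply Subtype.ext
      change (y⁻¹ * ((1 : N) : G) * y * ((1 : N) : G)⁻¹) *
        (x⁻¹ * ((MulAut.conjNormal x v : N) : G) * x * ((MulAut.conjNormal x v : N) : G)⁻¹)⁻¹ =
        ((MulAut.conjNormal x v : N) : G) * (v : G)⁻¹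
      rw [MulAut.conjNormal_apply, Subgroup.coe_one]
      group
    rw [h6, map_mul, map_inv, mul_inv_eq_one] at h5
    exact h5
  · intro v
    have h5 : lam.1 (phi N hab x y (MulAut.conjNormal y v, 1)) = 1 := lam.2 _ ⟨_, rfl⟩
    have h6 : phi N hab x y (MulAut.conjNormal y v, 1) = v * (MulAut.conjNormal y v)⁻¹ := by
      apply Subtype.ext
      change (y⁻¹ * ((MulAut.conjNormal y v : N) : G) * y * ((MulAut.conjNormal y v : N) : G)⁻¹) *
        (x⁻¹ * ((1 : N) : G) * x * ((1 : N) : G)⁻¹)⁻¹ =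
        (v : G) * ((MulAut.conjNormal y v : N) : G)⁻¹
      rw [MulAut.conjNormal_apply, Subgroup.coe_one]
      group
    rw [h6, map_mul, map_inv, mul_inv_eq_one] at h5
    exact h5.symm
  · intro a b h
    exact Subtype.ext
      (congrArg (fun z : {lam : N →* ℂˣ // x ∈ St N lam ∧ y ∈ St N lam} => z.1) h)

/-- **The dual bound.** -/
theorem dual_bound [Finite G] (hab : ∀ a ∈ N, ∀ b ∈ N, a * b = b * a) [Fintype (N →* ℂˣ)] :
    Nat.card (ConjClasses G) * Nat.card (G ⧸ N) ≤
      ∑ lam : N →* ℂˣ, Nat.card (ConjClasses (Qs N lam)) * Nat.card (Qs N lam) := by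
  classical
  have := Fintype.ofFinite G
  have := Fintype.ofFinite (G ⧸ N)
  have := Fintype.ofFinite (CP (G ⧸ N))
  have hfib : ∀ a b : G ⧸ N, Nat.card {p : CP G // (QuotientGroup.mk p.1.1 : G ⧸ N) = a ∧
      (QuotientGroup.mk p.1.2 : G ⧸ N) = b} ≤
      Nat.card N * Nat.card {lam : N →* ℂˣ // a ∈ Qs N lam ∧ b ∈ Qs N lam} := by
    intro a b
    rcases isEmpty_or_nonempty {p : CP G // (QuotientGroup.mk p.1.1 : G ⧸ N) = a ∧
      (QuotientGroup.mk p.1.2 : G ⧸ N) = b} with he | ⟨⟨⟨⟨x, y⟩, hxy⟩, hx, hy⟩⟩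
    · rw [Nat.card_of_isEmpty]; exact Nat.zero_le _
    · have hx' : (QuotientGroup.mk x : G ⧸ N) = a := hx
      have hy' : (QuotientGroup.mk y : G ⧸ N) = b := hy
      subst hx'
      subst hy'
      refine (fibre_le N hab x y hxy).trans (le_of_eq ?_)
      congr 1
      apply Nat.card_congr
      refine Equiv.subtypeEquivRight fun lam => ?_
      rw [mk_mem_Qs hab, mk_mem_Qs hab]
  let f : CP G → CP (G ⧸ N) := fun p => ⟨(QuotientGroup.mk p.1.1, QuotientGroup.mk p.1.2), by
    have := p.2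
    change (QuotientGroup.mk p.1.1 : G ⧸ N) * QuotientGroup.mk p.1.2 =
      QuotientGroup.mk p.1.2 * QuotientGroup.mk p.1.1
    rw [← QuotientGroup.mk_mul, ← QuotientGroup.mk_mul, this.eq]⟩
  have h1 : Nat.card (CP G) = ∑ c : CP (G ⧸ N), Nat.card {p : CP G // f p = c} := by
    rw [← Nat.card_sigma]
    exact Nat.card_congr (Equiv.sigmaFiberEquiv f).symm
  have h2 : ∀ c : CP (G ⧸ N), Nat.card {p : CP G // f p = c} ≤
      Nat.card N * Nat.card {lam : N →* ℂˣ // c.1.1 ∈ Qs N lam ∧ c.1.2 ∈ Qs N lam} := by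
    intro c
    have h3 : Nat.card {p : CP G // f p = c} = Nat.card {p : CP G //
        (QuotientGroup.mk p.1.1 : G ⧸ N) = c.1.1 ∧ (QuotientGroup.mk p.1.2 : G ⧸ N) = c.1.2} := by
      apply Nat.card_congr
      refine Equiv.subtypeEquivRight fun p => ?_
      rw [Subtype.ext_iff, Prod.ext_iff]
    rw [h3]
    exact hfib c.1.1 c.1.2
  -- exchange the order of summation
  have h3 : ∑ c : CP (G ⧸ N), Nat.card {lam : N →* ℂˣ // c.1.1 ∈ Qs N lam ∧ c.1.2 ∈ Qs N lam} =
      ∑ lam : N →* ℂˣ, Nat.card (CP (Qs N lam)) := by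
    rw [← Nat.card_sigma, ← Nat.card_sigma]
    apply Nat.card_congr
    exact
      { toFun := fun z => ⟨z.2.1, ⟨(⟨z.1.1.1, z.2.2.1⟩, ⟨z.1.1.2, z.2.2.2⟩), Subtype.ext z.1.2⟩⟩
        invFun := fun z => ⟨⟨(z.2.1.1.1, z.2.1.2.1), congrArg Subtype.val z.2.2⟩,
          ⟨z.1, z.2.1.1.2, z.2.1.2.2⟩⟩
        left_inv := fun z => rfl
        right_inv := fun z => rfl }
  have h4 : Nat.card (CP G) ≤ Nat.card N * ∑ lam : N →* ℂˣ, Nat.card (CP (Qs N lam)) := by
    rw [h1, ← h3, Finset.mul_sum]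
    exact Finset.sum_le_sum fun c _ => h2 c
  have h5 : ∀ (X : Type _) [Group X] [Finite X], Nat.card (CP X) = Nat.card (ConjClasses X) * Nat.card X :=
    fun X _ _ => card_comm_eq_card_conjClasses_mul_card X
  rw [h5 G, Subgroup.card_eq_card_quotient_mul_card_subgroup N] at h4
  have hpos : 0 < Nat.card N := Nat.card_pos
  refine Nat.le_of_mul_le_mul_right ?_ hpos
  calc Nat.card (ConjClasses G) * Nat.card (G ⧸ N) * Nat.card N
      = Nat.card (ConjClasses G) * (Nat.card (G ⧸ N) * Nat.card N) := by ring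
    _ ≤ _ := h4
    _ = _ := by
      rw [mul_comm]
      congr 1
      refine Finset.sum_congr rfl fun lam _ => ?_
      exact card_comm_eq_card_conjClasses_mul_card _

end Cfsg.Agent.H540.Dual
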