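import Cfsg.Agent.H540.ClassNum
import Cfsg.Agent.H934.OutB
import Cfsg.Agent.S4106
import Cfsg.Agent.S0713

/-!
# Class numbers of simple groups against the indices of their subgroups

* `Good X`: `(k(X) |Out X|)² ≤ 2 ^ |X : H|` for every proper subgroup `H`.
* `Good.of_bounds`, `k_le_of_cent`, `k_le_of_index`, `k_le_pprime`: bounds for `k(X)`.
* `le_index_of_maximal`, `jordan`: lower bounds for indices.
-/

set_option autoImplicit false

namespace Cfsg.Agent.H540.Good

open Cfsg.Agent.H540.ClassNum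

universe u v

/-- `(k(X) |Out X|)² ≤ 2 ^ |X : H|` for every proper subgroup `H` of `X` -/
def Good (X : Type u) [Group X] : Prop := ∀ H : Subgroup X, H ≠ ⊤ →
  (Nat.card (ConjClasses X) * Nat.card (Cfsg.Out X)) ^ 2 ≤ 2 ^ H.index

theorem Good.congr {X : Type u} {Y : Type v} [Group X] [Group Y] (h : Good X) (e : X ≃* Y) :
    Good Y := by
  intro H hH
  rw [← H934.OutB.card_out_congr e, ← card_conjClasses_congr e]
  have h1 := h (H.comap e.toMonoidHom) (by
    intro h0
    apply hH
    rw [eq_top_iff]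
    intro y _
    have h2 : e.symm y ∈ H.comap e.toMonoidHom := by rw [h0]; exact Subgroup.mem_top _
    have h3 : e (e.symm y) ∈ H := h2
    rwa [e.apply_symm_apply] at h3)
  rwa [Subgroup.index_comap_of_surjective H (f := e.toMonoidHom) e.surjective] at h1

/-- From bounds for the class number, the outer automorphisms and the indices. -/
theorem Good.of_bounds {X : Type u} [Group X] {c o L : ℕ} (hk : Nat.card (ConjClasses X) ≤ c)
    (ho : Nat.card (Cfsg.Out X) ≤ o) (hL : ∀ H : Subgroup X, H ≠ ⊤ → L ≤ H.index)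
    (h : (c * o) ^ 2 ≤ 2 ^ L) : Good X := by
  intro H hH
  exact (Nat.pow_le_pow_left (Nat.mul_le_mul hk ho) 2).trans
    (h.trans (Nat.pow_le_pow_right (by norm_num) (hL H hH)))

/-- `k(X) |X| = ∑ |C(x)|` -/
theorem k_mul_card {X : Type u} [Group X] [Fintype X] :
    Nat.card (ConjClasses X) * Nat.card X =
      ∑ x : X, Nat.card (Subgroup.centralizer ({x} : Set X)) := by
  rw [card_conjClasses_mul_card]
  exact Finset.sum_congr rfl fun x _ => cent_top x

/-- if all centralizers of nonidentity elements have order at most `c`, then `k(X) ≤ c`. -/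
theorem k_le_of_cent {X : Type u} [Group X] [Finite X] [Nontrivial X] {c : ℕ}
    (h : ∀ x : X, x ≠ 1 → Nat.card (Subgroup.centralizer ({x} : Set X)) ≤ c) :
    Nat.card (ConjClasses X) ≤ c := by
  classical
  have := Fintype.ofFinite X
  have h1 := k_mul_card (X := X)
  have h2 : ∑ x : X, Nat.card (Subgroup.centralizer ({x} : Set X)) ≤
      Nat.card X + (Nat.card X - 1) * c := by
    rw [← Finset.add_sum_erase _ _ (Finset.mem_univ (1 : X))]
    refine Nat.add_le_add (Subgroup.card_le_card_group _) ?_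
    refine (Finset.sum_le_card_nsmul _ _ c fun x hx => h x (Finset.ne_of_mem_erase hx)).trans ?_
    rw [Finset.card_erase_of_mem (Finset.mem_univ _), Finset.card_univ, ← Nat.card_eq_fintype_card,
      smul_eq_mul]
  obtain ⟨x, hx⟩ := exists_ne (1 : X)
  have hc : 0 < c := lt_of_lt_of_le Nat.card_pos (h x hx)
  have hX : 0 < Nat.card X := Nat.card_pos
  by_contra hcon
  push Not at hcon
  have h3 : (c + 1) * Nat.card X ≤ Nat.card (ConjClasses X) * Nat.card X :=
    Nat.mul_le_mul_right _ hcon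
  obtain ⟨m, hm⟩ := Nat.exists_eq_add_of_le' hX
  rw [hm, Nat.add_sub_cancel] at h2
  rw [h1, hm] at h3
  nlinarith

/-- if the centre is trivial and all proper subgroups have index at least `L`, then
`L k(X) ≤ L + |X| - 1`. -/
theorem k_le_of_index {X : Type u} [Group X] [Finite X] (hZ : Subgroup.center X = ⊥) {L : ℕ}
    (h : ∀ H : Subgroup X, H ≠ ⊤ → L ≤ H.index) :
    L * Nat.card (ConjClasses X) ≤ L + (Nat.card X - 1) := by
  classical
  have := Fintype.ofFinite X
  have h1 := k_mul_card (X := X)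
  have h0 : ∀ x : X, x ≠ 1 → L * Nat.card (Subgroup.centralizer ({x} : Set X)) ≤ Nat.card X := by
    intro x hx
    have h2 : Subgroup.centralizer ({x} : Set X) ≠ ⊤ := by
      intro h3
      apply hx
      have h4 : x ∈ Subgroup.center X := by
        rw [Subgroup.mem_center_iff]
        intro g
        have h5 : g ∈ Subgroup.centralizer ({x} : Set X) := by rw [h3]; trivial
        exact ((Subgroup.mem_centralizer_iff.1 h5) x (Set.mem_singleton x)).symm
      rw [hZ] at h4
      exact h4
    rw [← Subgroup.index_mul_card (Subgroup.centralizer ({x} : Set X))]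
    exact Nat.mul_le_mul_right _ (h _ h2)
  have h2 : L * ∑ x : X, Nat.card (Subgroup.centralizer ({x} : Set X)) ≤
      L * Nat.card X + (Nat.card X - 1) * Nat.card X := by
    rw [← Finset.add_sum_erase _ _ (Finset.mem_univ (1 : X)), Nat.mul_add, Finset.mul_sum]
    refine Nat.add_le_add (Nat.mul_le_mul_left _ (Subgroup.card_le_card_group _)) ?_
    refine (Finset.sum_le_card_nsmul _ _ (Nat.card X) fun x hx => h0 x (Finset.ne_of_mem_erase hx)).trans ?_
    rw [Finset.card_erase_of_mem (Finset.mem_univ _), Finset.card_univ, ← Nat.card_eq_fintype_card,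
      smul_eq_mul]
  rw [← h1] at h2
  have hX : 0 < Nat.card X := Nat.card_pos
  refine Nat.le_of_mul_le_mul_right ?_ hX
  calc L * Nat.card (ConjClasses X) * Nat.card X = L * (Nat.card (ConjClasses X) * Nat.card X) := by ring
    _ ≤ _ := h2
    _ = _ := by ring

/-- decomposition of an element into its `p'`-part and its `p`-part. -/
theorem exists_parts {X : Type u} [Group X] [Finite X] (p : ℕ) [hp : Fact p.Prime] (g : X) :
    ∃ s u : X, g = s * u ∧ s * u = u * s ∧ (orderOf s).Coprime p ∧ ∃ k, u ^ p ^ k = 1 := by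
  obtain ⟨a, m, hm, hgm⟩ := Nat.exists_eq_pow_mul_and_not_dvd (orderOf_pos g).ne' p hp.out.ne_one
  have hco : (p ^ a).Coprime m := Nat.Coprime.pow_left _ ((Nat.Prime.coprime_iff_not_dvd hp.out).2 hm)
  obtain ⟨k, hk1, hk2⟩ := Nat.chineseRemainder hco 0 1
  obtain ⟨l, hl1, hl2⟩ := Nat.chineseRemainder hco 1 0
  refine ⟨g ^ k, g ^ l, ?_, ?_, ?_, a, ?_⟩
  · rw [← pow_add]
    have h1 : k + l ≡ 1 [MOD p ^ a * m] := by
      rw [← Nat.modEq_and_modEq_iff_modEq_mul hco]
      exact ⟨by simpa using hk1.add hl1, by simpa using hk2.add hl2⟩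
    rw [← hgm] at h1
    conv_lhs => rw [← pow_one g]
    exact (pow_eq_pow_iff_modEq.2 h1.symm)
  · rw [← pow_add, ← pow_add, add_comm]
  · have h1 : (g ^ k) ^ m = 1 := by
      obtain ⟨c, hc⟩ := (Nat.modEq_zero_iff_dvd.1 hk1)
      rw [← pow_mul, hc, mul_right_comm, ← hgm, pow_mul, pow_orderOf_eq_one, one_pow]
    have h2 : orderOf (g ^ k) ∣ m := orderOf_dvd_of_pow_eq_one h1
    exact Nat.Coprime.coprime_dvd_left h2 (((Nat.Prime.coprime_iff_not_dvd hp.out).2 hm).symm)
  · obtain ⟨c, hc⟩ := (Nat.modEq_zero_iff_dvd.1 hl2)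
    rw [← pow_mul, hc, mul_comm, ← mul_assoc, ← hgm, pow_mul, pow_orderOf_eq_one, one_pow]

/-- `k(X) ≤ k_{p'}(X) |X|_p` -/
theorem k_le_pprime {X : Type u} [Group X] [Finite X] (p : ℕ) [hp : Fact p.Prime] {c a : ℕ}
    (hc : Nat.card {c : ConjClasses X // ∃ g : X, ConjClasses.mk g = c ∧ (orderOf g).Coprime p} ≤ c)
    (ha : (Nat.card X).factorization p ≤ a) :
    Nat.card (ConjClasses X) ≤ c * p ^ a := by
  classical
  let I := {c : ConjClasses X // ∃ g : X, ConjClasses.mk g = c ∧ (orderOf g).Coprime p}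
  have hrep : ∀ i : I, ∃ g : X, ConjClasses.mk g = i.1 ∧ (orderOf g).Coprime p := fun i => i.2
  choose rep hrep1 hrep2 using hrep
  let J : I → Type _ := fun i =>
    {C : ConjClasses (Subgroup.centralizer ({rep i} : Set X)) //
      ∀ q : ℕ, q.Prime → (∃ g : Subgroup.centralizer ({rep i} : Set X),
        ConjClasses.mk g = C ∧ q ∣ orderOf g) → q ∈ ({p} : Set ℕ)}
  have hJ : ∀ i, Nat.card (J i) ≤ p ^ a := by
    intro i
    have hdvd : Nat.card (Subgroup.centralizer ({rep i} : Set X)) ∣ Nat.card X :=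
      Subgroup.card_subgroup_dvd_card _
    set C := Nat.card (Subgroup.centralizer ({rep i} : Set X)) with hCdef
    have hC0 : C ≠ 0 := Nat.card_pos.ne'
    have h1 := S4106.result (G := Subgroup.centralizer ({rep i} : Set X)) ({p} : Set ℕ)
      (by intro q hq; rw [Set.mem_singleton_iff] at hq; rw [hq]; exact hp.out)
      (p ^ C.factorization p) (Nat.ordProj_dvd C p)
      (by
        intro q hq hqd
        rw [Set.mem_singleton_iff]
        exact (Nat.prime_dvd_prime_iff_eq hq hp.out).1 (hq.dvd_of_dvd_pow hqd))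
      (by
        intro q hq
        rw [Set.mem_singleton_iff] at hq
        rw [hq]
        exact Nat.not_dvd_ordCompl hp.out hC0)
    refine h1.trans (Nat.pow_le_pow_right hp.out.pos ?_)
    refine le_trans ?_ ha
    exact (Nat.factorization_le_iff_dvd hC0 Nat.card_pos.ne').2 hdvd p
  let F : (Σ i : I, J i) → ConjClasses X := fun z =>
    Quotient.lift (fun y : Subgroup.centralizer ({rep z.1} : Set X) => ConjClasses.mk (rep z.1 * y.1))
      (by
        intro y y' hy
        obtain ⟨c, hc⟩ := isConj_iff.1 hy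
        rw [ConjClasses.mk_eq_mk_iff_isConj, isConj_iff]
        refine ⟨c.1, ?_⟩
        have h1 : rep z.1 * c.1 = c.1 * rep z.1 := (Subgroup.mem_centralizer_iff.1 c.2) _ rfl
        rw [← hc]
        change c.1 * (rep z.1 * y.1) * c.1⁻¹ = rep z.1 * (c.1 * y.1 * c.1⁻¹)
        rw [← mul_assoc, ← h1]; group) z.2.1
  have hF : Function.Surjective F := by
    intro D
    obtain ⟨g, rfl⟩ := ConjClasses.mk_surjective D
    obtain ⟨s, w, hg, hsw, hs, k, hw⟩ := exists_parts p g
    let i : I := ⟨ConjClasses.mk s, s, rfl, hs⟩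
    obtain ⟨c, hc⟩ := isConj_iff.1 (ConjClasses.mk_eq_mk_iff_isConj.1 (hrep1 i)).symm
    have hmem : c * w * c⁻¹ ∈ Subgroup.centralizer ({rep i} : Set X) := by
      rw [Subgroup.mem_centralizer_iff]
      intro y hy
      rw [Set.mem_singleton_iff] at hy
      rw [hy, ← hc]
      calc c * s * c⁻¹ * (c * w * c⁻¹) = c * (s * w) * c⁻¹ := by group
        _ = c * (w * s) * c⁻¹ := by rw [hsw]
        _ = _ := by group
    refine ⟨⟨i, ⟨ConjClasses.mk ⟨c * w * c⁻¹, hmem⟩, ?_⟩⟩, ?_⟩
    · rintro q hq ⟨y, hy, hqy⟩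
      rw [Set.mem_singleton_iff]
      have h1 : orderOf y ∣ p ^ k := by
        apply orderOf_dvd_of_pow_eq_one
        obtain ⟨d, hd⟩ := isConj_iff.1 (ConjClasses.mk_eq_mk_iff_isConj.1 hy).symm
        rw [← hd, conj_pow]
        have h2 : (⟨c * w * c⁻¹, hmem⟩ : Subgroup.centralizer ({rep i} : Set X)) ^ p ^ k = 1 := by
          apply Subtype.ext
          change (c * w * c⁻¹) ^ p ^ k = 1
          rw [conj_pow, hw, mul_one, mul_inv_cancel]
        rw [h2, mul_one, mul_inv_cancel]
      exact (Nat.prime_dvd_prime_iff_eq hq hp.out).1 (hq.dvd_of_dvd_pow (hqy.trans h1))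
    · change ConjClasses.mk (rep i * (c * w * c⁻¹)) = ConjClasses.mk g
      rw [ConjClasses.mk_eq_mk_iff_isConj, isConj_comm, isConj_iff]
      refine ⟨c, ?_⟩
      rw [hg, ← hc]; group
  have := Fintype.ofFinite I
  have h1 : Nat.card (ConjClasses X) ≤ Nat.card (Σ i : I, J i) := Nat.card_le_card_of_surjective F hF
  rw [Nat.card_sigma] at h1
  refine h1.trans ?_
  calc ∑ i : I, Nat.card (J i) ≤ ∑ _i : I, p ^ a := Finset.sum_le_sum fun i _ => hJ i
    _ = Nat.card I * p ^ a := by
      rw [Finset.sum_const, Finset.card_univ, smul_eq_mul, ← Nat.card_eq_fintype_card]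
    _ ≤ c * p ^ a := Nat.mul_le_mul_right _ hc

/-- it is enough to consider maximal subgroups. -/
theorem le_index_of_maximal {X : Type u} [Group X] [Finite X] {L : ℕ}
    (h : ∀ M : Subgroup X, IsCoatom M → L ≤ M.index) (H : Subgroup X) (hH : H ≠ ⊤) : L ≤ H.index := by
  obtain ⟨M, hM, hHM⟩ := (eq_top_or_exists_le_coatom H).resolve_left hH
  exact (h M hM).trans (Nat.le_of_dvd (Nat.pos_of_ne_zero Subgroup.FiniteIndex.index_ne_zero)
    (Subgroup.index_dvd_of_le hHM))

end Cfsg.Agent.H540.Good
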