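import Cfsg.Agent.H540.ClassNum

/-!
# Class numbers: abelian normal subgroups with faithful action

* `half_bound` : if `N` is an abelian normal `q`-subgroup with `C_G(N) ≤ N` then
  `q * |G/N| * k(G) ≤ |N| * (|G/N| * k(G/N) + (q - 1))`.
-/

set_option autoImplicit false

namespace Cfsg.Agent.H540.HalfBound

open Cfsg.Agent.H540.ClassNum

/-- the commuting pairs -/
abbrev CP (G : Type*) [Group G] : Type _ := {p : G × G // Commute p.1 p.2}

variable {G : Type*} [Group G]

section Fibre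

variable (N : Subgroup G) [N.Normal]

/-- the twisted difference map `(u, v) ↦ [u, y] [v, x]⁻¹`. -/
def phi (hab : ∀ a ∈ N, ∀ b ∈ N, a * b = b * a) (x y : G) : N × N →* N where
  toFun p := ⟨(y⁻¹ * p.1 * y * (p.1 : G)⁻¹) * (x⁻¹ * p.2 * x * (p.2 : G)⁻¹)⁻¹, by
    have h1 : ∀ (z : G) (u : N), z⁻¹ * (u : G) * z ∈ N := fun z u => by
      have := (inferInstance : N.Normal).conj_mem u u.2 z⁻¹
      rwa [inv_inv] at this
    exact N.mul_mem (N.mul_mem (h1 y p.1) (N.inv_mem p.1.2))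
      (N.inv_mem (N.mul_mem (h1 x p.2) (N.inv_mem p.2.2)))⟩
  map_one' := by
    apply Subtype.ext
    simp
  map_mul' p p' := by
    apply Subtype.ext
    have h1 : ∀ (z : G) (u : N), z⁻¹ * (u : G) * z ∈ N := fun z u => by
      have := (inferInstance : N.Normal).conj_mem u u.2 z⁻¹
      rwa [inv_inv] at this
    have key : ∀ (z : G) (u v : N), z⁻¹ * ((u * v : N) : G) * z * ((u * v : N) : G)⁻¹ =
        (z⁻¹ * (u : G) * z * (u : G)⁻¹) * (z⁻¹ * (v : G) * z * (v : G)⁻¹) := by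
      intro z u v
      have e1 : (z⁻¹ * (v : G) * z) * (v : G)⁻¹ * (u : G)⁻¹ = (u : G)⁻¹ * ((z⁻¹ * (v : G) * z) * (v : G)⁻¹) :=
        hab _ (N.mul_mem (h1 z v) (N.inv_mem v.2)) _ (N.inv_mem u.2)
      calc z⁻¹ * ((u * v : N) : G) * z * ((u * v : N) : G)⁻¹
          = (z⁻¹ * (u : G) * z) * ((z⁻¹ * (v : G) * z) * (v : G)⁻¹ * (u : G)⁻¹) := by
            rw [Subgroup.coe_mul]; group
        _ = _ := by rw [e1]; group
    have hm : ∀ (z : G) (u : N), z⁻¹ * (u : G) * z * (u : G)⁻¹ ∈ N := fun z u =>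
      N.mul_mem (h1 z u) (N.inv_mem u.2)
    change (y⁻¹ * ((p.1 * p'.1 : N) : G) * y * ((p.1 * p'.1 : N) : G)⁻¹) *
        (x⁻¹ * ((p.2 * p'.2 : N) : G) * x * ((p.2 * p'.2 : N) : G)⁻¹)⁻¹ =
      ((y⁻¹ * (p.1 : G) * y * (p.1 : G)⁻¹) * (x⁻¹ * (p.2 : G) * x * (p.2 : G)⁻¹)⁻¹) *
      ((y⁻¹ * (p'.1 : G) * y * (p'.1 : G)⁻¹) * (x⁻¹ * (p'.2 : G) * x * (p'.2 : G)⁻¹)⁻¹)
    rw [key, key]
    generalize h2 : y⁻¹ * (p.1 : G) * y * (p.1 : G)⁻¹ = A
    generalize h3 : y⁻¹ * (p'.1 : G) * y * (p'.1 : G)⁻¹ = B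
    generalize h4 : x⁻¹ * (p.2 : G) * x * (p.2 : G)⁻¹ = C
    generalize h5 : x⁻¹ * (p'.2 : G) * x * (p'.2 : G)⁻¹ = D
    have hA : A ∈ N := h2 ▸ hm y p.1
    have hB : B ∈ N := h3 ▸ hm y p'.1
    have hC : C ∈ N := h4 ▸ hm x p.2
    have hD : D ∈ N := h5 ▸ hm x p'.2
    have e2 : B * (D⁻¹ * C⁻¹) = C⁻¹ * (B * D⁻¹) := by
      rw [← mul_assoc]
      exact hab _ (N.mul_mem hB (N.inv_mem hD)) _ (N.inv_mem hC)
    rw [mul_inv_rev]
    calc A * B * (D⁻¹ * C⁻¹) = A * (B * (D⁻¹ * C⁻¹)) := by group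
      _ = A * (C⁻¹ * (B * D⁻¹)) := by rw [e2]
      _ = _ := by group

/-- the fibre of commuting pairs over a pair of cosets is at most the kernel of `phi`. -/
theorem card_fibre_le [Finite G] (hab : ∀ a ∈ N, ∀ b ∈ N, a * b = b * a) (x y : G) (hxy : x * y = y * x) :
    Nat.card {p : CP G // (QuotientGroup.mk p.1.1 : G ⧸ N) = QuotientGroup.mk x ∧
      (QuotientGroup.mk p.1.2 : G ⧸ N) = QuotientGroup.mk y} ≤ Nat.card (phi N hab x y).ker := by
  refine Nat.card_le_card_of_injective (fun p => ⟨(⟨x⁻¹ * p.1.1.1, ?_⟩, ⟨y⁻¹ * p.1.1.2, ?_⟩), ?_⟩) ?_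
  · rw [← QuotientGroup.eq]; exact p.2.1.symm
  · rw [← QuotientGroup.eq]; exact p.2.2.symm
  · rw [MonoidHom.mem_ker]
    apply Subtype.ext
    change (y⁻¹ * (x⁻¹ * p.1.1.1) * y * (x⁻¹ * p.1.1.1)⁻¹) * (x⁻¹ * (y⁻¹ * p.1.1.2) * x * (y⁻¹ * p.1.1.2)⁻¹)⁻¹ = 1
    have hc : p.1.1.1 * p.1.1.2 = p.1.1.2 * p.1.1.1 := p.1.2
    have hu : x⁻¹ * p.1.1.1 ∈ N := by rw [← QuotientGroup.eq]; exact p.2.1.symm
    have hv : y⁻¹ * p.1.1.2 ∈ N := by rw [← QuotientGroup.eq]; exact p.2.2.symm
    generalize p.1.1.1 = X at *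
    generalize p.1.1.2 = Y at *
    obtain ⟨u, rfl⟩ : ∃ u, X = x * u := ⟨x⁻¹ * X, by group⟩
    obtain ⟨v, rfl⟩ : ∃ v, Y = y * v := ⟨y⁻¹ * Y, by group⟩
    rw [inv_mul_cancel_left] at hu hv ⊢
    rw [inv_mul_cancel_left]
    have h1 : ∀ (z : G) (u : G), u ∈ N → z⁻¹ * (u : G) * z ∈ N := fun z u hu => by
      have := (inferInstance : N.Normal).conj_mem u hu z⁻¹
      rwa [inv_inv] at this
    -- `(y⁻¹ u y) v = (x⁻¹ v x) u`
    have h2 : (y⁻¹ * u * y) * v = (x⁻¹ * v * x) * u := by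
      have h3 : x * y * ((y⁻¹ * u * y) * v) = x * y * ((x⁻¹ * v * x) * u) := by
        calc x * y * ((y⁻¹ * u * y) * v) = x * u * (y * v) := by group
          _ = y * v * (x * u) := hc
          _ = y * x * ((x⁻¹ * v * x) * u) := by group
          _ = _ := by rw [hxy]
      exact mul_left_cancel h3
    have h4 : y⁻¹ * u * y = x⁻¹ * v * x * u * v⁻¹ := by rw [← h2]; group
    have h5 : u * v⁻¹ = v⁻¹ * u := hab _ hu _ (N.inv_mem hv)
    rw [h4]
    have h6 : x⁻¹ * v * x * u * v⁻¹ * u⁻¹ = x⁻¹ * v * x * v⁻¹ := by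
      rw [mul_assoc (x⁻¹ * v * x) u v⁻¹, h5]; group
    rw [h6, mul_inv_cancel]
  · intro p p' h
    have h0 := congrArg Subtype.val h
    have h1 := congrArg Subtype.val (congrArg Prod.fst h0)
    have h2 := congrArg Subtype.val (congrArg Prod.snd h0)
    apply Subtype.ext
    apply Subtype.ext
    exact Prod.ext (mul_left_cancel h1) (mul_left_cancel h2)

end Fibre

/-- If `N` is an abelian normal `q`-subgroup with `C_G(N) ≤ N` then
`q * |G/N| * k(G) ≤ |N| * (|G/N| * k(G/N) + (q - 1))`. -/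
theorem half_bound [Finite G] (N : Subgroup G) [N.Normal] (q : ℕ) [hq : Fact q.Prime]
    (hN : IsPGroup q N) (hab : ∀ a ∈ N, ∀ b ∈ N, a * b = b * a)
    (hC : Subgroup.centralizer (N : Set G) ≤ N) :
    q * (Nat.card (G ⧸ N) * Nat.card (ConjClasses G)) ≤
      Nat.card N * (Nat.card (G ⧸ N) * Nat.card (ConjClasses (G ⧸ N)) + (q - 1)) := by
  classical
  have := Fintype.ofFinite G
  have := Fintype.ofFinite (G ⧸ N)
  have := Fintype.ofFinite (CP (G ⧸ N))
  -- fibre bounds
  have hfib : ∀ a b : G ⧸ N, q * Nat.card {p : CP G // (QuotientGroup.mk p.1.1 : G ⧸ N) = a ∧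
      (QuotientGroup.mk p.1.2 : G ⧸ N) = b} ≤
      Nat.card N ^ 2 * (if a = 1 ∧ b = 1 then q else 1) := by
    intro a b
    rcases isEmpty_or_nonempty {p : CP G // (QuotientGroup.mk p.1.1 : G ⧸ N) = a ∧
      (QuotientGroup.mk p.1.2 : G ⧸ N) = b} with he | ⟨⟨⟨⟨x, y⟩, hxy⟩, hx, hy⟩⟩
    · rw [Nat.card_of_isEmpty, mul_zero]; exact Nat.zero_le _
    · have hx' : (QuotientGroup.mk x : G ⧸ N) = a := hx
      have hy' : (QuotientGroup.mk y : G ⧸ N) = b := hy
      subst hx'
      subst hy'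
      have h1 := card_fibre_le N hab x y hxy
      have h2 : Nat.card (phi N hab x y).ker * Nat.card (phi N hab x y).range = Nat.card N ^ 2 := by
        rw [← Subgroup.index_ker, Subgroup.card_mul_index, Nat.card_prod, sq]
      split_ifs with h3
      · calc q * _ ≤ q * Nat.card (phi N hab x y).ker := Nat.mul_le_mul_left _ h1
          _ ≤ q * Nat.card N ^ 2 := by
            refine Nat.mul_le_mul_left _ ?_
            rw [← h2]
            exact Nat.le_mul_of_pos_right _ Nat.card_pos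
          _ = _ := mul_comm _ _
      · -- the range is nontrivial
        have h4 : (phi N hab x y).range ≠ ⊥ := by
          intro h5
          rw [MonoidHom.range_eq_bot_iff] at h5
          apply h3
          have key : ∀ p : N × N, (y⁻¹ * (p.1 : G) * y * (p.1 : G)⁻¹) *
              (x⁻¹ * (p.2 : G) * x * (p.2 : G)⁻¹)⁻¹ = 1 := fun p => by
            have := congrArg Subtype.val (DFunLike.congr_fun h5 p)
            exact this
          constructor
          · rw [QuotientGroup.eq_one_iff]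
            apply hC
            rw [Subgroup.mem_centralizer_iff]
            intro v hv
            have h0 : (y⁻¹ * ((1 : N) : G) * y * ((1 : N) : G)⁻¹) * (x⁻¹ * v * x * v⁻¹)⁻¹ = 1 :=
              key (1, ⟨v, hv⟩)
            have h6 : x⁻¹ * v * x * v⁻¹ = 1 := by
              rw [Subgroup.coe_one, mul_one, inv_mul_cancel, one_mul, inv_one, one_mul] at h0
              exact inv_eq_one.1 h0
            have h7 : x⁻¹ * v * x = v := mul_inv_eq_one.1 h6
            calc v * x = x * (x⁻¹ * v * x) := by group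
              _ = x * v := by rw [h7]
          · rw [QuotientGroup.eq_one_iff]
            apply hC
            rw [Subgroup.mem_centralizer_iff]
            intro v hv
            have := key (⟨v, hv⟩, 1)
            have h6 : y⁻¹ * v * y * v⁻¹ = 1 := by simpa using this
            have h7 : y⁻¹ * v * y = v := mul_inv_eq_one.1 h6
            calc v * y = y * (y⁻¹ * v * y) := by group
              _ = y * v := by rw [h7]
        have h5 : q ≤ Nat.card (phi N hab x y).range := by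
          obtain ⟨k, hk⟩ := IsPGroup.iff_card.1 (hN.to_subgroup (phi N hab x y).range)
          have hk0 : k ≠ 0 := by
            rintro rfl
            rw [pow_zero] at hk
            exact h4 (Subgroup.eq_bot_of_card_eq _ hk)
          rw [hk]
          exact Nat.le_self_pow hk0 q
        calc q * _ ≤ Nat.card (phi N hab x y).range * Nat.card (phi N hab x y).ker :=
              Nat.mul_le_mul h5 h1
          _ = Nat.card N ^ 2 * 1 := by rw [mul_comm, h2, mul_one]
  -- sum over the commuting pairs of the quotient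
  let f : CP G → CP (G ⧸ N) := fun p => ⟨(QuotientGroup.mk p.1.1, QuotientGroup.mk p.1.2), by
    have := p.2
    change (QuotientGroup.mk p.1.1 : G ⧸ N) * QuotientGroup.mk p.1.2 =
      QuotientGroup.mk p.1.2 * QuotientGroup.mk p.1.1
    rw [← QuotientGroup.mk_mul, ← QuotientGroup.mk_mul, this.eq]⟩
  have h1 : Nat.card (CP G) = ∑ c : CP (G ⧸ N), Nat.card {p : CP G // f p = c} := by
    rw [← Nat.card_sigma]
    exact Nat.card_congr (Equiv.sigmaFiberEquiv f).symm
  have h2 : ∀ c : CP (G ⧸ N), q * Nat.card {p : CP G // f p = c} ≤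
      Nat.card N ^ 2 * (if c = ⟨(1, 1), Commute.one_right _⟩ then q else 1) := by
    intro c
    have h3 : Nat.card {p : CP G // f p = c} = Nat.card {p : CP G //
        (QuotientGroup.mk p.1.1 : G ⧸ N) = c.1.1 ∧ (QuotientGroup.mk p.1.2 : G ⧸ N) = c.1.2} := by
      apply Nat.card_congr
      refine Equiv.subtypeEquivRight fun p => ?_
      rw [Subtype.ext_iff, Prod.ext_iff]
    rw [h3]
    refine (hfib c.1.1 c.1.2).trans ?_
    refine Nat.mul_le_mul_left _ ?_
    have h4 : (c.1.1 = 1 ∧ c.1.2 = 1) ↔ c = ⟨(1, 1), Commute.one_right _⟩ := by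
      rw [Subtype.ext_iff, Prod.ext_iff]
    split_ifs <;> first | exact le_rfl | (exfalso; tauto)
  have h3 : q * Nat.card (CP G) ≤ Nat.card N ^ 2 * (Nat.card (CP (G ⧸ N)) + (q - 1)) := by
    rw [h1, Finset.mul_sum]
    refine (Finset.sum_le_sum fun c _ => h2 c).trans ?_
    rw [← Finset.mul_sum]
    refine Nat.mul_le_mul_left _ ?_
    have h5 : ∀ c : CP (G ⧸ N), (if c = ⟨(1, 1), Commute.one_right _⟩ then q else 1) =
        1 + (if c = ⟨(1, 1), Commute.one_right _⟩ then q - 1 else 0) := by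
      intro c
      have := hq.out.one_lt
      split_ifs <;> omega
    rw [Finset.sum_congr rfl fun c _ => h5 c, Finset.sum_add_distrib, Finset.sum_ite_eq']
    simp
  rw [card_comm_eq_card_conjClasses_mul_card, card_comm_eq_card_conjClasses_mul_card,
    Subgroup.card_eq_card_quotient_mul_card_subgroup N] at h3
  have hpos : 0 < Nat.card N := Nat.card_pos
  refine Nat.le_of_mul_le_mul_right ?_ hpos
  calc q * (Nat.card (G ⧸ N) * Nat.card (ConjClasses G)) * Nat.card N
      = q * (Nat.card (ConjClasses G) * (Nat.card (G ⧸ N) * Nat.card N)) := by ring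
    _ ≤ _ := h3
    _ = _ := by ring

end Cfsg.Agent.H540.HalfBound
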