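import Cfsg.Agent.H540.PermTwo

/-!
# Class numbers of permutation groups of order prime to `p`: the induction step
-/

set_option autoImplicit false

namespace Cfsg.Agent.H540.PermStep

open MulAction Cfsg.Agent.H539.BlockRed Cfsg.Agent.H540.ClassNum Cfsg.Agent.H540.Blocks
  Cfsg.Agent.H540.PermRed Cfsg.Agent.H540.PermTwo

/-- the square of the bound for primitive groups -/
def pr (m : ℕ) : ℕ :=
  if m ≤ 2 then 4 else if m = 3 then 9 else if m = 4 then 25 else if m = 5 then 49 else
    if m = 6 then 121 else 2 ^ m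

theorem pr_large {m : ℕ} (h : 7 ≤ m) : pr m = 2 ^ m := by
  unfold pr
  rw [if_neg (by omega), if_neg (by omega), if_neg (by omega), if_neg (by omega), if_neg (by omega)]

/-- all primitive permutation groups of degree `m` and order prime to `p` have `k² ≤ pr m`. -/
def Prim (p m : ℕ) : Prop :=
  ∀ S : Subgroup (Equiv.Perm (Fin m)), IsPreprimitive S (Fin m) → ¬ p ∣ Nat.card S →
    Nat.card (ConjClasses S) ^ 2 ≤ pr m

/-- transport of primitive groups -/
theorem Prim.of_subgroup {p m : ℕ} (h : Prim p m) {α : Type*} [Finite α] (hα : Nat.card α = m)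
    (S : Subgroup (Equiv.Perm α)) (hS : IsPreprimitive S α) (hp : ¬ p ∣ Nat.card S) :
    Nat.card (ConjClasses S) ^ 2 ≤ pr m := by
  have := Fintype.ofFinite α
  let e : α ≃ Fin m := Fintype.equivFinOfCardEq (by rw [← Nat.card_eq_fintype_card]; exact hα)
  let g : S →* Equiv.Perm (Fin m) := (e.permCongrHom).toMonoidHom.comp S.subtype
  have hg : Function.Injective g := (e.permCongrHom).injective.comp Subtype.coe_injective
  rw [card_conjClasses_congr (MonoidHom.ofInjective hg)]
  refine h g.range ?_ ?_
  · let φ : S → g.range := fun s => g.rangeRestrict s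
    have hφ : Function.Surjective φ := g.rangeRestrict_surjective
    let f : α →ₑ[φ] Fin m :=
      { toFun := e
        map_smul' := by
          intro s x
          change e (s.1 x) = (e.permCongrHom s.1) (e x)
          simp [Equiv.permCongrHom] }
    exact IsPreprimitive.of_surjective (f := f) e.surjective
  · rwa [← Nat.card_congr (MonoidHom.ofInjective hg).toEquiv]

theorem pow_aux {m : ℕ} (h : 3 ≤ m) : 64 * 8 ^ m ≤ 49 * 9 ^ m := by
  induction m, h using Nat.le_induction with
  | base => norm_num
  | succ m hm ih =>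
    rw [pow_succ, pow_succ]
    omega

theorem pow_aux2 {m : ℕ} (h : 3 ≤ m) : 16 * 2 ^ m ≤ 9 ^ m := by
  induction m, h using Nat.le_induction with
  | base => norm_num
  | succ m hm ih =>
    rw [pow_succ, pow_succ]
    omega

theorem pow_aux3 {m : ℕ} (h : 4 ≤ m) : 4 * 2 ^ m ≤ 3 ^ m := by
  induction m, h using Nat.le_induction with
  | base => norm_num
  | succ m hm ih =>
    rw [pow_succ, pow_succ]
    omega

/-- arithmetic for blocks of size two -/
theorem arith_two {m c kY k : ℕ} (hm : 2 ≤ m) (hc : m ≤ c) (hkc : kY ≤ c) (hk0 : 1 ≤ kY)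
    (hY : kY ^ 2 ≤ pr m)
    (h : k ≤ 2 * kY ∨ 2 * (c * k) ≤ 2 ^ m * (c * kY + 1)) :
    (m = 2 ∧ k ≤ 5) ∨ (m = 4 ∧ k ≤ 41) ∨ (m ≠ 2 ∧ m ≠ 4 ∧ 4 * k ^ 2 ≤ 9 ^ m) := by
  -- small values
  have hsm : ∀ a b : ℕ, a ^ 2 < (b + 1) ^ 2 → a ≤ b := by
    intro a b hab
    by_contra hcon
    push Not at hcon
    have h1 : b + 1 ≤ a := hcon
    have := Nat.pow_le_pow_left h1 2
    omega
  rcases Nat.lt_or_ge m 7 with h7 | h7
  · interval_cases m
    · left
      refine ⟨rfl, ?_⟩
      have h2 : kY ≤ 2 := hsm _ _ (by norm_num [pr] at hY ⊢; omega)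
      rcases h with h | h
      · omega
      · have e : c * kY ≤ c * 2 := Nat.mul_le_mul_left _ h2
        by_contra hcon
        push Not at hcon
        have e2 : c * 6 ≤ c * k := Nat.mul_le_mul_left _ hcon
        omega
    · right; right
      refine ⟨by norm_num, by norm_num, ?_⟩
      have h2 : kY ≤ 3 := hsm _ _ (by norm_num [pr] at hY ⊢; omega)
      have hk : k ≤ 13 := by
        rcases h with h | h
        · omega
        · have e : c * kY ≤ c * 3 := Nat.mul_le_mul_left _ h2
          by_contra hcon
          push Not at hcon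
          have e2 : c * 14 ≤ c * k := Nat.mul_le_mul_left _ hcon
          omega
      have := Nat.pow_le_pow_left hk 2
      norm_num at this ⊢
      omega
    · right; left
      refine ⟨rfl, ?_⟩
      have h2 : kY ≤ 5 := hsm _ _ (by norm_num [pr] at hY ⊢; omega)
      rcases h with h | h
      · omega
      · by_contra hcon
        push Not at hcon
        have e2 : c * 42 ≤ c * k := Nat.mul_le_mul_left _ hcon
        rcases Nat.lt_or_ge kY 5 with h5 | h5
        · have e : c * kY ≤ c * 4 := Nat.mul_le_mul_left _ (by omega)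
          omega
        · have e : c * kY ≤ c * 5 := Nat.mul_le_mul_left _ h2
          omega
    · right; right
      refine ⟨by norm_num, by norm_num, ?_⟩
      have h2 : kY ≤ 7 := hsm _ _ (by norm_num [pr] at hY ⊢; omega)
      have hk : k ≤ 115 := by
        rcases h with h | h
        · omega
        · have e : c * kY ≤ c * 7 := Nat.mul_le_mul_left _ h2
          by_contra hcon
          push Not at hcon
          have e2 : c * 116 ≤ c * k := Nat.mul_le_mul_left _ hcon
          omega
      have := Nat.pow_le_pow_left hk 2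
      norm_num at this ⊢
      omega
    · right; right
      refine ⟨by norm_num, by norm_num, ?_⟩
      have h2 : kY ≤ 11 := hsm _ _ (by norm_num [pr] at hY ⊢; omega)
      have hk : k ≤ 357 := by
        rcases h with h | h
        · omega
        · have e : c * kY ≤ c * 11 := Nat.mul_le_mul_left _ h2
          by_contra hcon
          push Not at hcon
          have e2 : c * 358 ≤ c * k := Nat.mul_le_mul_left _ hcon
          omega
      have := Nat.pow_le_pow_left hk 2
      norm_num at this ⊢
      omega
  · right; right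
    refine ⟨by omega, by omega, ?_⟩
    rw [pr_large h7] at hY
    rcases h with h | h
    · calc 4 * k ^ 2 ≤ 4 * (2 * kY) ^ 2 := Nat.mul_le_mul_left _ (Nat.pow_le_pow_left h 2)
        _ = 16 * kY ^ 2 := by ring
        _ ≤ 16 * 2 ^ m := Nat.mul_le_mul_left _ hY
        _ ≤ 9 ^ m := pow_aux2 (by omega)
    · obtain ⟨t, ht⟩ : ∃ t, 2 ^ m = 2 * t := ⟨2 ^ (m - 1), by
        rw [← pow_succ']; congr 1; omega⟩
      rw [ht] at h
      have h1 : c * k ≤ t * (c * kY + 1) := by nlinarith
      -- `7 k ≤ t (7 kY + 1)`
      have h2 : 7 * k ≤ t * (7 * kY + 1) := by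
        by_contra hcon
        push Not at hcon
        have hlt : t * kY < k := by nlinarith
        obtain ⟨d, hd⟩ := Nat.exists_eq_add_of_lt hlt
        have h3 : c * (d + 1) ≤ t := by
          have : c * k = c * (t * kY) + c * (d + 1) := by rw [hd]; ring
          nlinarith
        have h4 : 7 * (d + 1) ≤ c * (d + 1) := Nat.mul_le_mul_right _ (by omega)
        have : 7 * k = t * (7 * kY) + 7 * (d + 1) := by rw [hd]; ring
        nlinarith
      have h3 : 49 * (4 * k ^ 2) ≤ 49 * 9 ^ m := by
        calc 49 * (4 * k ^ 2) = 4 * (7 * k) ^ 2 := by ring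
          _ ≤ 4 * (t * (7 * kY + 1)) ^ 2 := Nat.mul_le_mul_left _ (Nat.pow_le_pow_left h2 2)
          _ = (2 ^ m) ^ 2 * (7 * kY + 1) ^ 2 := by rw [ht]; ring
          _ ≤ (2 ^ m) ^ 2 * (64 * kY ^ 2) := by
            apply Nat.mul_le_mul_left
            nlinarith
          _ ≤ (2 ^ m) ^ 2 * (64 * 2 ^ m) :=
            Nat.mul_le_mul_left _ (Nat.mul_le_mul_left _ hY)
          _ = 64 * 8 ^ m := by
            have e8 : (8 : ℕ) ^ m = (2 ^ m) ^ 2 * 2 ^ m := by
              rw [show (8 : ℕ) = 2 ^ 3 by norm_num, ← pow_mul, ← pow_mul, ← pow_add]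
              congr 1; omega
            rw [e8]; ring
          _ ≤ 49 * 9 ^ m := pow_aux (by omega)
      omega

section Main

variable {G : Type*} [Group G] [Finite G] {α : Type*} [Finite α]
    [MulAction G α] [FaithfulSMul G α] [IsPretransitive G α]

omit [Finite G] [FaithfulSMul G α] in
theorem card_le_range (r : Setoid α) (hr : Inv G r) (q : Quotient r) :
    Nat.card (Quotient r) ≤ Nat.card (quotHom r hr).range := by
  have := quot_pretransitive r hr
  have h1 : Function.Surjective (fun g : (quotHom r hr).range => g • q) :=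
    fun q' => exists_smul_eq _ q q'
  exact Nat.card_le_card_of_surjective _ h1

/-- the bound for a transitive group with blocks of size two and primitive action on the blocks. -/
theorem blocks_two_bound {p : ℕ} (hp : ¬ p ∣ Nat.card G) (r : Setoid α) (hr : Inv G r)
    (hs : ∀ q : Quotient r, Nat.card (Cls r q) = 2)
    (hprim : IsPreprimitive (quotHom r hr).range (Quotient r)) (hm : 2 ≤ Nat.card (Quotient r))
    (hP : Prim p (Nat.card (Quotient r))) :
    (Nat.card (Quotient r) = 2 ∧ Nat.card (ConjClasses G) ≤ 5) ∨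
    (Nat.card (Quotient r) = 4 ∧ Nat.card (ConjClasses G) ≤ 41) ∨
    (Nat.card (Quotient r) ≠ 2 ∧ Nat.card (Quotient r) ≠ 4 ∧
      4 * Nat.card (ConjClasses G) ^ 2 ≤ 9 ^ Nat.card (Quotient r)) := by
  have : Nontrivial (Quotient r) := (Finite.one_lt_card_iff_nontrivial (α := Quotient r)).1 (by omega)
  obtain ⟨q₀⟩ : Nonempty (Quotient r) := inferInstance
  exact arith_two hm (card_le_range r hr q₀) card_conjClasses_le_card card_conjClasses_pos
    (hP.of_subgroup rfl _ hprim (not_dvd_range hp _)) (blocks_two r hr hs hprim)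

omit [Finite G] [Finite α] [FaithfulSMul G α] [IsPretransitive G α] in
/-- with two classes the kernel is transitive on each class. -/
theorem mem_ker_of_two (r : Setoid α) (hr : Inv G r) (hm : Nat.card (Quotient r) = 2)
    {q : Quotient r} {g : G} {x : α} (hx : Quotient.mk r x = q) (hgx : Quotient.mk r (g • x) = q) :
    g ∈ (quotHom r hr).ker := by
  have hall : ∀ q' q'' : Quotient r, q' ≠ q → q'' ≠ q → q' = q'' := by
    intro q' q'' h' h''
    obtain ⟨z, _, hz⟩ := (Nat.card_eq_two_iff' q).1 hm
    rw [hz q' h', hz q'' h'']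
  have h1 : quotHom r hr g q = q := by
    conv_lhs => rw [← hx]
    rw [quotHom_mk', hgx]
  rw [MonoidHom.mem_ker]
  ext q'
  rw [Equiv.Perm.one_apply]
  by_cases hq' : q' = q
  · rw [hq', h1]
  · refine hall _ _ ?_ hq'
    intro h2
    apply hq'
    apply (quotHom r hr g).injective
    rw [h2, h1]

omit [Finite G] [Finite α] [FaithfulSMul G α] in
theorem fib_pretransitive (r : Setoid α) (hr : Inv G r) (hm : Nat.card (Quotient r) = 2)
    (q : Quotient r) : IsPretransitive (fibHom r hr q).range (Cls r q) := by
  refine ⟨fun x y => ?_⟩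
  obtain ⟨g, hg⟩ := exists_smul_eq G x.1 y.1
  have hgK : g ∈ (quotHom r hr).ker :=
    mem_ker_of_two r hr hm x.2 (by rw [hg]; exact y.2)
  refine ⟨⟨fibHom r hr q ⟨g, hgK⟩, ⟨_, rfl⟩⟩, ?_⟩
  apply Subtype.ext
  exact hg

omit [Finite G] [FaithfulSMul G α] in
/-- extension of a block system from one of two blocks -/
theorem exists_ext (r : Setoid α) (hr : Inv G r) (hm : Nat.card (Quotient r) = 2)
    (q : Quotient r) (r₁ : Setoid (Cls r q)) (hr₁ : Inv (fibHom r hr q).range r₁)
    (h2 : 2 ≤ Nat.card (Quotient r₁)) (h3 : ∀ q' : Quotient r₁, 3 ≤ Nat.card (Cls r₁ q')) :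
    ∃ r' : Setoid α, Inv G r' ∧ 3 ≤ Nat.card (Quotient r') ∧
      ∃ q' : Quotient r', 3 ≤ Nat.card (Cls r' q') := by
  have hinv : ∀ (g : G) (x y : Cls r q) (hx : Quotient.mk r (g • x.1) = q)
      (hy : Quotient.mk r (g • y.1) = q), r₁ x y → r₁ ⟨g • x.1, hx⟩ ⟨g • y.1, hy⟩ := by
    intro g x y hx hy hxy
    have hgK : g ∈ (quotHom r hr).ker := mem_ker_of_two r hr hm x.2 hx
    have h4 := hr₁ ⟨fibHom r hr q ⟨g, hgK⟩, ⟨_, rfl⟩⟩ x y hxy
    exact h4
  have hpt := fib_pretransitive r hr hm q
  obtain ⟨x, hx⟩ : ∃ x : Cls r q, True := by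
    obtain ⟨x, hx⟩ := Quotient.exists_rep q
    exact ⟨⟨x, hx⟩, trivial⟩
  have e1 := card_eq_mul (inv_extRel r hr q r₁ hinv) (Quotient.mk _ x.1)
  rw [card_cls_extRel r hr q r₁ hinv x] at e1
  have e2 := card_eq_mul hr q
  have e3 := card_eq_mul (G := (fibHom r hr q).range) hr₁ (Quotient.mk r₁ x)
  have h5 := h3 (Quotient.mk r₁ x)
  refine ⟨extRel G r hr q r₁ hinv, inv_extRel r hr q r₁ hinv, ?_, Quotient.mk _ x.1, ?_⟩
  · rw [hm, e3, e1] at e2
    have h6 : Nat.card (Quotient (extRel G r hr q r₁ hinv)) = 2 * Nat.card (Quotient r₁) := by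
      have h7 : 0 < Nat.card (Cls r₁ (Quotient.mk r₁ x)) := by omega
      apply Nat.eq_of_mul_eq_mul_right h7
      rw [e2]; ring
    omega
  · rw [card_cls_extRel r hr q r₁ hinv x]
    exact h5

/-- the transitive imprimitive case -/
theorem imprimitive {p : ℕ} (hp : ¬ p ∣ Nat.card G) (h3 : 3 ≤ Nat.card α)
    (ih : ∀ m, m < Nat.card α → PB p m) (hprim : ∀ m, m < Nat.card α → Prim p m)
    (himp : ¬ IsPreprimitive G α) : Nat.card (ConjClasses G) ^ 2 ≤ 3 ^ (Nat.card α - 1) := by
  classical
  by_contra hcon
  -- no system with at least three blocks of size at least three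
  have hA : ∀ r : Setoid α, Inv G r → 3 ≤ Nat.card (Quotient r) →
      ∀ q : Quotient r, Nat.card (Cls r q) ≤ 2 := by
    intro r hr hm q
    by_contra hc
    exact hcon (large_blocks hp r hr q (by omega) hm ih)
  -- no system with two blocks of size at least three
  have hB : ∀ r : Setoid α, Inv G r → Nat.card (Quotient r) = 2 →
      ∀ q : Quotient r, Nat.card (Cls r q) ≤ 2 := by
    intro r hr hm q
    by_contra hc
    push Not at hc
    have hn := card_eq_mul hr q
    rw [hm] at hn
    apply hcon
    rw [hn]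
    have hpt := fib_pretransitive r hr hm q
    have hqα : Nat.card (Cls r q) < Nat.card α := by omega
    refine two_classes_bound hp r hr hm q (by omega) (ih _ hqα) ?_
    have hpX : ¬ p ∣ Nat.card (fibHom r hr q).range := not_dvd_range (not_dvd_sub hp _) _
    have hsm : ∀ a b : ℕ, a ^ 2 < (b + 1) ^ 2 → a ≤ b := by
      intro a b hab
      by_contra hcon
      push Not at hcon
      have h1 : b + 1 ≤ a := hcon
      have := Nat.pow_le_pow_left h1 2
      omega
    by_cases hXp : IsPreprimitive (fibHom r hr q).range (Cls r q)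
    · have h1 := (hprim _ hqα).of_subgroup rfl _ hXp hpX
      have hs3 : 3 ≤ Nat.card (Cls r q) := hc
      generalize Nat.card (ConjClasses (fibHom r hr q).range) = kX at *
      generalize Nat.card (Cls r q) = s at *
      rcases Nat.lt_or_ge s 7 with h7 | h7
      · interval_cases s
        · right; left
          exact ⟨rfl, hsm _ _ (by norm_num [pr] at h1 ⊢; omega)⟩
        · right; right; left
          exact ⟨rfl, hsm _ _ (by norm_num [pr] at h1 ⊢; omega)⟩
        · left
          norm_num [pr] at h1 ⊢
          omega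
        · left
          norm_num [pr] at h1 ⊢
          omega
      · left
        rw [pr_large h7] at h1
        exact (Nat.mul_le_mul_left _ h1).trans (pow_aux3 (by omega))
    · rcases exists_setoid (G := (fibHom r hr q).range) (α := Cls r q) hXp with h | ⟨r₁, hr₁, hb₁, ht₁⟩
      · -- trivial group
        exfalso
        have hsub : Subsingleton (Cls r q) := by
          refine ⟨fun a b => ?_⟩
          obtain ⟨g, hg⟩ := exists_smul_eq (fibHom r hr q).range a b
          rw [h g, one_smul] at hg
          exact hg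
        have := (Finite.card_le_one_iff_subsingleton (α := Cls r q)).2 hsub
        omega
      · have hne : Nonempty (Cls r q) := by
          obtain ⟨x, hx⟩ := Quotient.exists_rep q
          exact ⟨⟨x, hx⟩⟩
        -- no coarse relation on the block
        have hno : ∀ r₂ : Setoid (Cls r q), Inv (fibHom r hr q).range r₂ →
            r₂ ≠ ⊤ → ∃ q', Nat.card (Cls r₂ q') ≤ 2 := by
          intro r₂ hr₂ ht₂
          by_contra hcon2
          push Not at hcon2
          obtain ⟨r', hr', h4, q', h5⟩ := exists_ext r hr hm q r₂ hr₂ (two_le_quot ht₂)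
            (fun q' => hcon2 q')
          have := hA r' hr' h4 q'
          omega
        have hcls2 : ∀ q' : Quotient r₁, Nat.card (Cls r₁ q') = 2 := by
          obtain ⟨q'', hq''⟩ := hno r₁ hr₁ ht₁
          intro q'
          have h4 := two_le_cls (G := (fibHom r hr q).range) hr₁ hb₁ q'
          have h5 := card_cls_eq (G := (fibHom r hr q).range) hr₁ q' q''
          omega
        have h2q := two_le_quot ht₁
        obtain ⟨x₀⟩ := hne
        have hprim2 : IsPreprimitive (quotHom r₁ hr₁).range (Quotient r₁) := by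
          by_contra hnp
          obtain ⟨r₂, hr₂, hb₂, ht₂, hc₂⟩ := exists_coarser (G := (fibHom r hr q).range) hr₁ hb₁ h2q hnp
            (Quotient.mk r₁ x₀)
          obtain ⟨q'', hq''⟩ := hno r₂ hr₂ ht₂
          have h4 := hc₂ q''
          rw [hcls2] at h4
          omega
        have hn₁ := card_eq_mul (G := (fibHom r hr q).range) hr₁ (Quotient.mk r₁ x₀)
        rw [hcls2] at hn₁
        have h6 := blocks_two_bound (G := (fibHom r hr q).range) hpX r₁ hr₁ hcls2 hprim2 h2q
          (hprim _ (by omega))
        rcases h6 with ⟨h7, h8⟩ | ⟨h7, h8⟩ | ⟨h7, h7', h8⟩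
        · right; right; left
          exact ⟨by omega, h8⟩
        · right; right; right
          exact ⟨by omega, h8⟩
        · left
          rw [hn₁, mul_comm (Nat.card (Quotient r₁)) 2, pow_mul]
          exact h8
  -- all nontrivial systems have blocks of size two
  have hC : ∀ r : Setoid α, Inv G r → r ≠ ⊥ → r ≠ ⊤ → ∀ q : Quotient r, Nat.card (Cls r q) = 2 := by
    intro r hr hb ht q
    have : Nonempty α := by
      by_contra hne
      rw [not_nonempty_iff] at hne
      have := Nat.card_eq_zero.2 (Or.inl hne)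
      omega
    have h1 := two_le_cls hr hb q
    have h2 := two_le_quot ht
    rcases Nat.lt_or_ge (Nat.card (Quotient r)) 3 with h4 | h4
    · have := hB r hr (by omega) q
      omega
    · have := hA r hr h4 q
      omega
  rcases exists_setoid (G := G) (α := α) himp with h | ⟨r, hr, hb, ht⟩
  · have hsub : Subsingleton α := by
      refine ⟨fun a b => ?_⟩
      obtain ⟨g, hg⟩ := exists_smul_eq G a b
      rw [h g, one_smul] at hg
      exact hg
    have := (Finite.card_le_one_iff_subsingleton (α := α)).2 hsub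
    omega
  · have hne : Nonempty α := by
      by_contra hne
      rw [not_nonempty_iff] at hne
      have := Nat.card_eq_zero.2 (Or.inl hne)
      omega
    obtain ⟨x₀⟩ := hne
    have : Nonempty α := ⟨x₀⟩
    have h2q := two_le_quot ht
    have hcls := hC r hr hb ht
    have hprim2 : IsPreprimitive (quotHom r hr).range (Quotient r) := by
      by_contra hnp
      obtain ⟨r₂, hr₂, hb₂, ht₂, hc₂⟩ := exists_coarser (G := G) hr hb h2q hnp (Quotient.mk r x₀)
      have h4 := hc₂ (Quotient.mk r₂ x₀)
      rw [hcls, hC r₂ hr₂ hb₂ ht₂] at h4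
      omega
    have hn := card_eq_mul hr (Quotient.mk r x₀)
    rw [hcls] at hn
    have h6 := blocks_two_bound hp r hr hcls hprim2 h2q (hprim _ (by omega))
    apply hcon
    have e : (3 : ℕ) ^ (Nat.card α - 1) * 3 = 9 ^ Nat.card (Quotient r) := by
      rw [← pow_succ, show (9 : ℕ) = 3 ^ 2 by norm_num, ← pow_mul]
      congr 1
      omega
    rcases h6 with ⟨h7, h8⟩ | ⟨h7, h8⟩ | ⟨h7, h7', h8⟩
    · rw [h7] at e
      have e' : 3 ^ (Nat.card α - 1) * 3 = 81 := e.trans (by norm_num)
      have := Nat.pow_le_pow_left h8 2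
      omega
    · rw [h7] at e
      have e' : 3 ^ (Nat.card α - 1) * 3 = 6561 := e.trans (by norm_num)
      have := Nat.pow_le_pow_left h8 2
      omega
    · omega

end Main

theorem pr_le_sq {n : ℕ} (h : 3 ≤ n) : pr n ≤ PermRed.sq n := by
  rw [sq_three h]
  rcases Nat.lt_or_ge n 7 with h7 | h7
  · interval_cases n <;> norm_num [pr]
  · rw [pr_large h7]
    have key : ∀ m, 7 ≤ m → 2 ^ m * 3 ≤ 3 ^ m := by
      intro m hm
      induction m, hm using Nat.le_induction with
      | base => norm_num
      | succ m hm ih => rw [pow_succ, pow_succ]; omega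
    have h1 := key n h7
    have h2 : (3 : ℕ) ^ n = 3 ^ (n - 1) * 3 := by
      rw [← pow_succ]; congr 1; omega
    omega

/-- **The induction step.** -/
theorem step {p n : ℕ} (ih : ∀ m, m < n → PB p m) (hprim : ∀ m, m ≤ n → Prim p m) : PB p n := by
  intro S hp
  rcases Nat.lt_or_ge n 3 with hn | hn
  · have h1 : Nat.card (ConjClasses S) ≤ n.factorial := by
      have h2 := Subgroup.card_le_card_group S
      rw [Nat.card_eq_fintype_card (α := Equiv.Perm (Fin n)), Fintype.card_perm, Fintype.card_fin] at h2
      exact card_conjClasses_le_card.trans h2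
    have h3 := Nat.pow_le_pow_left h1 2
    interval_cases n <;> exact h3.trans (by decide)
  · have hcard : Nat.card (Fin n) = n := by rw [Nat.card_eq_fintype_card, Fintype.card_fin]
    by_cases hS : IsPreprimitive S (Fin n)
    · exact (hprim n le_rfl S hS hp).trans (pr_le_sq hn)
    · by_cases hT : IsPretransitive S (Fin n)
      · have h1 := imprimitive (G := S) (α := Fin n) hp (by rw [hcard]; exact hn)
          (by rw [hcard]; exact ih) (by rw [hcard]; exact fun m hm => hprim m hm.le) hS
        rw [hcard] at h1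
        rwa [sq_three hn]
      · have h1 := intransitive (G := S) (α := Fin n) hp ⟨0, by omega⟩ hT (by rw [hcard]; exact ih)
        rwa [hcard] at h1

end Cfsg.Agent.H540.PermStep
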