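import Cfsg.Agent.H540.Dual
import Cfsg.Agent.H540.PermStep
import Cfsg.Agent.Lib.ElemAbGL

/-!
# Class numbers of linear groups over prime fields, and affine groups
-/

set_option autoImplicit false

namespace Cfsg.Agent.H540.LinB

open Cfsg.Agent.H540.ClassNum Cfsg.Agent.H540.HalfBound Cfsg.Agent.H540.Dual
  Cfsg.Agent.H540.PermRed

/-- all subgroups of `GL_d(q)` of order prime to `p` have at most `κ` classes -/
def KB (p q d κ : ℕ) : Prop :=
  ∀ X : Subgroup (GL (Fin d) (ZMod q)), ¬ p ∣ Nat.card X → Nat.card (ConjClasses X) ≤ κ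

theorem KB.of_injective {p q d κ : ℕ} [Fact q.Prime] (h : KB p q d κ) {X : Type*} [Group X]
    {V : Type*} [CommGroup V] (hpow : ∀ x : V, x ^ q = 1) (hc : Nat.card V = q ^ d)
    (f : X →* MulAut V) (hf : Function.Injective f) (hp : ¬ p ∣ Nat.card X) :
    Nat.card (ConjClasses X) ≤ κ := by
  obtain ⟨e⟩ := Lib.ElemAbGL.mulAut_equiv_GL q d hpow hc
  let g : X →* GL (Fin d) (ZMod q) := e.toMonoidHom.comp f
  have hg : Function.Injective g := e.injective.comp hf
  rw [card_conjClasses_congr (MonoidHom.ofInjective hg)]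
  refine h g.range ?_
  rwa [← Nat.card_congr (MonoidHom.ofInjective hg).toEquiv]

section Stab

variable {V : Type*} [CommGroup V] [Finite V] {X : Type*} [Group X]

/-- the permutation action on characters -/
def dualHom (f : X →* MulAut V) : X →* Equiv.Perm (V →* ℂˣ) where
  toFun x :=
    { toFun := fun lam => lam.comp (f x⁻¹ : V →* V)
      invFun := fun lam => lam.comp (f x : V →* V)
      left_inv := fun lam => by
        ext v
        change (lam (f x⁻¹ (f x v)) : ℂ) = lam v
        rw [← MulAut.mul_apply, ← map_mul, inv_mul_cancel, map_one, MulAut.one_apply]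
      right_inv := fun lam => by
        ext v
        change (lam (f x (f x⁻¹ v)) : ℂ) = lam v
        rw [← MulAut.mul_apply, ← map_mul, mul_inv_cancel, map_one, MulAut.one_apply] }
  map_one' := by
    ext lam v
    change (lam (f (1 : X)⁻¹ v) : ℂ) = lam v
    rw [inv_one, map_one, MulAut.one_apply]
  map_mul' x y := by
    ext lam v
    change (lam (f (x * y)⁻¹ v) : ℂ) = lam (f y⁻¹ (f x⁻¹ v))
    rw [mul_inv_rev, map_mul, MulAut.mul_apply]

omit [Finite V] in
theorem dualHom_apply (f : X →* MulAut V) (x : X) (lam : V →* ℂˣ) (v : V) :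
    dualHom f x lam v = lam (f x⁻¹ v) := rfl

/-- the stabilizer of a character -/
def stab (f : X →* MulAut V) (lam : V →* ℂˣ) : Subgroup X where
  carrier := {x | ∀ v, lam (f x v) = lam v}
  one_mem' := fun v => by rw [map_one]; rfl
  mul_mem' := by
    intro a b ha hb n
    rw [map_mul, MulAut.mul_apply, ha, hb]
  inv_mem' := by
    intro a ha n
    have h1 := ha (f a⁻¹ n)
    rw [← MulAut.mul_apply, ← map_mul, mul_inv_cancel, map_one, MulAut.one_apply] at h1
    exact h1.symm

omit [Finite V] in
theorem mem_stab {f : X →* MulAut V} {lam : V →* ℂˣ} {x : X} :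
    x ∈ stab f lam ↔ ∀ v, lam (f x v) = lam v := Iff.rfl

instance : Finite (V →* ℂˣ) := by
  have h1 : Nat.card (V →* ℂˣ) = Nat.card V := CommGroup.card_monoidHom_of_hasEnoughRootsOfUnity V ℂ
  have h2 : 0 < Nat.card V := Nat.card_pos
  exact (Nat.card_pos_iff.1 (h1 ▸ h2)).2

theorem card_char : Nat.card (V →* ℂˣ) = Nat.card V :=
  CommGroup.card_monoidHom_of_hasEnoughRootsOfUnity V ℂ

/-- the orbit of a nontrivial character has at most `|V| - 1` elements. -/
theorem index_stab_le (f : X →* MulAut V) (lam : V →* ℂˣ) (hlam : lam ≠ 1) :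
    (stab f lam).index ≤ Nat.card V - 1 := by
  classical
  have h1 : Nat.card {mu : V →* ℂˣ // mu ≠ 1} = Nat.card V - 1 := by
    rw [← card_char (V := V)]
    have := Fintype.ofFinite (V →* ℂˣ)
    rw [Nat.card_eq_fintype_card, Nat.card_eq_fintype_card, Fintype.card_subtype_compl,
      Fintype.card_subtype_eq]
  rw [← h1, Subgroup.index_eq_card]
  refine Nat.card_le_card_of_injective (fun c : X ⧸ stab f lam => Quotient.liftOn' c
    (fun x => (⟨dualHom f x lam, ?_⟩ : {mu : V →* ℂˣ // mu ≠ 1})) ?_) ?_
  · intro h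
    apply hlam
    ext v
    have h2 := DFunLike.congr_fun h (f x v)
    rw [dualHom_apply, ← MulAut.mul_apply, ← map_mul, inv_mul_cancel, map_one, MulAut.one_apply] at h2
    rw [h2]; rfl
  · intro x y hxy
    rw [QuotientGroup.leftRel_apply] at hxy
    apply Subtype.ext
    ext v
    change (lam (f x⁻¹ v) : ℂ) = lam (f y⁻¹ v)
    have h2 := hxy (f y⁻¹ v)
    rw [← MulAut.mul_apply, ← map_mul] at h2
    rw [← h2]
    congr 3
    group
  · intro c c'
    refine Quotient.inductionOn₂' c c' fun x y h => ?_
    have h1 : dualHom f x lam = dualHom f y lam := congrArg Subtype.val h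
    apply Quotient.sound'
    rw [QuotientGroup.leftRel_apply]
    intro v
    have h2 := DFunLike.congr_fun h1 (f y v)
    rw [dualHom_apply, dualHom_apply, ← MulAut.mul_apply, ← map_mul, ← MulAut.mul_apply, ← map_mul,
      inv_mul_cancel, map_one, MulAut.one_apply] at h2
    exact h2

omit [Finite V] in
/-- the kernel of a nontrivial character of an elementary abelian group -/
theorem card_ker_char {q d : ℕ} [hq : Fact q.Prime] (hpow : ∀ x : V, x ^ q = 1)
    (hc : Nat.card V = q ^ (d + 1)) (lam : V →* ℂˣ) (hlam : lam ≠ 1) :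
    Nat.card lam.ker = q ^ d := by
  have h1 : lam.ker.index = q := by
    rw [Subgroup.index_ker]
    -- the range is contained in the `q`-th roots of unity
    have h2 : lam.range ≤ rootsOfUnity q ℂ := by
      rintro _ ⟨v, rfl⟩
      rw [mem_rootsOfUnity, ← map_pow, hpow, map_one]
    have : NeZero q := ⟨hq.out.ne_zero⟩
    have h3 : Nat.card lam.range ∣ Nat.card (rootsOfUnity q ℂ) := Subgroup.card_dvd_of_le h2
    rw [Complex.card_rootsOfUnity] at h3
    rcases (Nat.dvd_prime hq.out).1 h3 with h4 | h4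
    · exfalso
      apply hlam
      have h5 := Subgroup.eq_bot_of_card_eq _ h4
      exact MonoidHom.range_eq_bot_iff.1 h5
    · exact h4
  have h2 := Subgroup.card_mul_index lam.ker
  rw [h1, hc, pow_succ] at h2
  exact Nat.eq_of_mul_eq_mul_right hq.out.pos h2

/-- the restriction of automorphisms fixing a character to its kernel. -/
def resKer (f : X →* MulAut V) (lam : V →* ℂˣ) : stab f lam →* MulAut lam.ker where
  toFun x :=
    { toFun := fun v => ⟨f x.1 v.1, by
        rw [MonoidHom.mem_ker, x.2 v.1]; exact v.2⟩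
      invFun := fun v => ⟨f x.1⁻¹ v.1, by
        rw [MonoidHom.mem_ker, (stab f lam).inv_mem x.2 v.1]; exact v.2⟩
      left_inv := fun v => by
        apply Subtype.ext
        change f x.1⁻¹ (f x.1 v.1) = v.1
        rw [← MulAut.mul_apply, ← map_mul, inv_mul_cancel, map_one, MulAut.one_apply]
      right_inv := fun v => by
        apply Subtype.ext
        change f x.1 (f x.1⁻¹ v.1) = v.1
        rw [← MulAut.mul_apply, ← map_mul, mul_inv_cancel, map_one, MulAut.one_apply]
      map_mul' := fun v w => by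
        apply Subtype.ext
        change f x.1 (v.1 * w.1) = _
        rw [map_mul]; rfl }
  map_one' := by
    ext v
    change f 1 v.1 = v.1
    rw [map_one, MulAut.one_apply]
  map_mul' x y := by
    ext v
    change f (x.1 * y.1) v.1 = f x.1 (f y.1 v.1)
    rw [map_mul, MulAut.mul_apply]

theorem card_ker_resKer_le [Finite X] (f : X →* MulAut V) (hf : Function.Injective f)
    (lam : V →* ℂˣ) (hprime : (lam.ker.index).Prime) :
    Nat.card (resKer f lam).ker ≤ Nat.card lam.ker := by
  -- an element outside the kernel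
  obtain ⟨v₀, hv₀⟩ : ∃ v₀, v₀ ∉ lam.ker := by
    by_contra hcon
    push Not at hcon
    have : lam.ker = ⊤ := by rw [eq_top_iff]; exact fun x _ => hcon x
    rw [this, Subgroup.index_top] at hprime
    exact Nat.not_prime_one hprime
  -- the kernel and `v₀` generate
  have hgen : ∀ H : Subgroup V, lam.ker ≤ H → v₀ ∈ H → H = ⊤ := by
    intro H hH hv
    have h1 : H.index ∣ lam.ker.index := Subgroup.index_dvd_of_le hH
    rcases (Nat.dvd_prime hprime).1 h1 with h2 | h2
    · exact Subgroup.index_eq_one.1 h2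
    · exfalso
      apply hv₀
      have h3 : lam.ker = H := by
        apply Subgroup.eq_of_le_of_card_ge hH
        have e1 := Subgroup.card_mul_index lam.ker
        have e2 := Subgroup.card_mul_index H
        rw [h2] at e2
        have e3 : 0 < lam.ker.index := hprime.pos
        exact le_of_eq (Nat.eq_of_mul_eq_mul_right e3 (e2.trans e1.symm))
      rw [h3]; exact hv
  refine Nat.card_le_card_of_injective (fun x => (⟨f x.1.1 v₀ * v₀⁻¹, ?_⟩ : lam.ker)) ?_
  · rw [MonoidHom.mem_ker, map_mul, x.1.2 v₀, map_inv, mul_inv_cancel]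
  · intro x y hxy
    have h1 : f x.1.1 v₀ * v₀⁻¹ = f y.1.1 v₀ * v₀⁻¹ := congrArg Subtype.val hxy
    have h2 : f x.1.1 v₀ = f y.1.1 v₀ := mul_right_cancel h1
    apply Subtype.ext
    apply Subtype.ext
    apply hf
    let H : Subgroup V := MonoidHom.eqLocus (f x.1.1 : V →* V) (f y.1.1 : V →* V)
    have h3 : H = ⊤ := by
      apply hgen
      · intro v hv
        have e1 : resKer f lam x.1 = 1 := x.2
        have e2 : resKer f lam y.1 = 1 := y.2
        have e3 := congrArg Subtype.val (DFunLike.congr_fun e1 (⟨v, hv⟩ : lam.ker))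
        have e4 := congrArg Subtype.val (DFunLike.congr_fun e2 (⟨v, hv⟩ : lam.ker))
        have e3' : f x.1.1 v = v := e3
        have e4' : f y.1.1 v = v := e4
        change f x.1.1 v = f y.1.1 v
        rw [e3', e4']
      · exact h2
    ext v
    have : v ∈ H := by rw [h3]; trivial
    exact this

/-- **Stabilizers of characters.** -/
theorem KB.stab_le {p q d κ : ℕ} [hq : Fact q.Prime] (h : KB p q d κ) [Finite X]
    (hpow : ∀ x : V, x ^ q = 1)
    (hc : Nat.card V = q ^ (d + 1)) (f : X →* MulAut V) (hf : Function.Injective f)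
    (lam : V →* ℂˣ) (hlam : lam ≠ 1) (hp : ¬ p ∣ Nat.card X) :
    Nat.card (ConjClasses (stab f lam)) ≤ q ^ d * κ := by
  have h0 := card_ker_char hpow hc lam hlam
  have hidx : lam.ker.index = q := by
    have h2 := Subgroup.card_mul_index lam.ker
    rw [h0, hc, pow_succ] at h2
    exact Nat.eq_of_mul_eq_mul_left (pow_pos hq.out.pos d) h2
  have h1 := card_ker_resKer_le f hf lam (hidx ▸ hq.out)
  rw [h0] at h1
  have h2 : Nat.card (ConjClasses (resKer f lam).range) ≤ κ := by
    refine h.of_injective (V := lam.ker) (fun x => ?_) h0 (resKer f lam).range.subtype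
      Subtype.coe_injective (not_dvd_range (not_dvd_sub hp _) _)
    apply Subtype.ext
    exact hpow x.1
  exact (le_ker_mul_range (resKer f lam)).trans
    (Nat.mul_le_mul (card_conjClasses_le_card.trans h1) h2)

/-- the order of the stabilizer of a character -/
theorem card_stab_le {q d : ℕ} [hq : Fact q.Prime] [Finite X]
    (hpow : ∀ x : V, x ^ q = 1)
    (hc : Nat.card V = q ^ (d + 1)) (f : X →* MulAut V) (hf : Function.Injective f)
    (lam : V →* ℂˣ) (hlam : lam ≠ 1) :
    Nat.card (stab f lam) ≤ q ^ d * Nat.card (GL (Fin d) (ZMod q)) := by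
  have h0 := card_ker_char hpow hc lam hlam
  have hidx : lam.ker.index = q := by
    have h2 := Subgroup.card_mul_index lam.ker
    rw [h0, hc, pow_succ] at h2
    exact Nat.eq_of_mul_eq_mul_left (pow_pos hq.out.pos d) h2
  have h1 := card_ker_resKer_le f hf lam (hidx ▸ hq.out)
  rw [h0] at h1
  obtain ⟨e⟩ := Lib.ElemAbGL.mulAut_equiv_GL (V := lam.ker) q d
    (fun x => Subtype.ext (hpow x.1)) h0
  have h2 : Nat.card (resKer f lam).range ≤ Nat.card (GL (Fin d) (ZMod q)) := by
    rw [← Nat.card_congr e.toEquiv]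
    exact Subgroup.card_le_card_group _
  have h3 := Subgroup.card_mul_index (resKer f lam).ker
  rw [Subgroup.index_ker] at h3
  rw [← h3]
  exact Nat.mul_le_mul h1 h2

/-- **Induction on the dimension.** -/
theorem KB.gen {p q d κ : ℕ} [hq : Fact q.Prime] (h : KB p q d κ) [Finite X]
    (hpow : ∀ x : V, x ^ q = 1)
    (hc : Nat.card V = q ^ (d + 1)) (f : X →* MulAut V) (hf : Function.Injective f)
    (hp : ¬ p ∣ Nat.card X) :
    Nat.card (ConjClasses X) ≤ (q ^ (d + 1) - 1) * (q ^ d * κ) := by
  obtain ⟨lam, hlam⟩ : ∃ lam : V →* ℂˣ, lam ≠ 1 := by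
    by_contra hcon
    push Not at hcon
    have h1 : Nat.card (V →* ℂˣ) = 1 := by
      rw [Nat.card_eq_one_iff_unique]
      exact ⟨⟨fun a b => (hcon a).trans (hcon b).symm⟩, ⟨1⟩⟩
    rw [card_char, hc] at h1
    have : 1 < q ^ (d + 1) := Nat.one_lt_pow (by omega) hq.out.one_lt
    omega
  refine (le_index_mul' (stab f lam)).trans ?_
  refine Nat.mul_le_mul ?_ (h.stab_le hpow hc f hf lam hlam hp)
  rw [← hc]
  exact index_stab_le f lam hlam

end Stab

theorem KB.succ {p q d κ : ℕ} [hq : Fact q.Prime] (h : KB p q d κ) :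
    KB p q (d + 1) ((q ^ (d + 1) - 1) * (q ^ d * κ)) := by
  intro X hX
  have hcard : Nat.card (Multiplicative (Fin (d + 1) → ZMod q)) = q ^ (d + 1) := by
    rw [Nat.card_eq_fintype_card, Fintype.card_multiplicative, Fintype.card_fun, ZMod.card,
      Fintype.card_fin]
  have hpow : ∀ x : Multiplicative (Fin (d + 1) → ZMod q), x ^ q = 1 := by
    intro x
    have h1 : q • (Multiplicative.toAdd x) = 0 := by
      ext i
      simp
    exact h1
  obtain ⟨e⟩ := Lib.ElemAbGL.mulAut_equiv_GL (V := Multiplicative (Fin (d + 1) → ZMod q)) q (d + 1)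
    hpow hcard
  have : Finite (GL (Fin (d + 1)) (ZMod q)) := inferInstance
  have hinj : Function.Injective (e.symm.toMonoidHom.comp X.subtype) :=
    e.symm.injective.comp Subtype.coe_injective
  exact h.gen hpow hcard (e.symm.toMonoidHom.comp X.subtype) hinj hX

end Cfsg.Agent.H540.LinB
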