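import Cfsg.Agent.H540.LinB

/-!
# Orbits on characters
-/

set_option autoImplicit false

namespace Cfsg.Agent.H540.LinC

open Cfsg.Agent.H540.ClassNum Cfsg.Agent.H540.HalfBound Cfsg.Agent.H540.Dual
  Cfsg.Agent.H540.PermRed Cfsg.Agent.H540.LinB

variable {V : Type*} [CommGroup V] [Finite V] {X : Type*} [Group X]

/-- irreducibility -/
def Irr (f : X →* MulAut V) : Prop :=
  ∀ W : Subgroup V, (∀ x, ∀ v ∈ W, f x v ∈ W) → W = ⊥ ∨ W = ⊤

omit [Finite V] in
theorem char_pow {q : ℕ} (hpow : ∀ x : V, x ^ q = 1) (lam : V →* ℂˣ) (v : V) :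
    lam v ∈ rootsOfUnity q ℂ := by
  rw [mem_rootsOfUnity, ← map_pow, hpow, map_one]

/-- **the orbits of an irreducible group on the nontrivial characters have at least `d + 1`
elements.** -/
theorem succ_le_index {q d : ℕ} [hq : Fact q.Prime] [Finite X] (hpow : ∀ x : V, x ^ q = 1)
    (hc : Nat.card V = q ^ d) (hd : 2 ≤ d) (f : X →* MulAut V) (hirr : Irr f)
    (lam : V →* ℂˣ) (hlam : lam ≠ 1) : d + 1 ≤ (stab f lam).index := by
  classical
  have : NeZero q := ⟨hq.out.ne_zero⟩
  have := Fintype.ofFinite (X ⧸ stab f lam)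
  -- the family of the characters of the orbit
  let mu : (X ⧸ stab f lam) → (V →* ℂˣ) := fun c => Quotient.liftOn' c
    (fun x => dualHom f x lam) (by
      intro x y hxy
      rw [QuotientGroup.leftRel_apply] at hxy
      ext v
      change (lam (f x⁻¹ v) : ℂ) = lam (f y⁻¹ v)
      have h2 := hxy (f y⁻¹ v)
      rw [← MulAut.mul_apply, ← map_mul] at h2
      rw [← h2]
      congr 3
      group)
  have hmu : ∀ (x : X) (c : X ⧸ stab f lam) (v : V), mu c (f x v) = mu (x⁻¹ • c) v := by
    intro x c v
    refine Quotient.inductionOn' c fun y => ?_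
    change lam (f y⁻¹ (f x v)) = lam (f (x⁻¹ * y)⁻¹ v)
    rw [← MulAut.mul_apply, ← map_mul, mul_inv_rev, inv_inv]
  let c₀ : X ⧸ stab f lam := QuotientGroup.mk 1
  have hc₀ : mu c₀ = lam := by
    ext v
    change (lam (f (1 : X)⁻¹ v) : ℂ) = lam v
    rw [inv_one, map_one, MulAut.one_apply]
  -- the common kernel is trivial
  have hW : ∀ v : V, (∀ c, mu c v = 1) → v = 1 := by
    let W : Subgroup V :=
      { carrier := {v | ∀ c, mu c v = 1}
        one_mem' := fun c => map_one _
        mul_mem' := fun {a b} ha hb c => by rw [map_mul, ha c, hb c, mul_one]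
        inv_mem' := fun {a} ha c => by rw [map_inv, ha c, inv_one] }
    have h1 := hirr W (fun x v hv c => by rw [hmu]; exact hv _)
    rcases h1 with h1 | h1
    · intro v hv
      have h2 : v ∈ W := hv
      rw [h1] at h2
      exact h2
    · exfalso
      apply hlam
      ext v
      have h2 : v ∈ W := by rw [h1]; trivial
      have h3 : mu c₀ v = 1 := h2 c₀
      rw [hc₀] at h3
      rw [h3]; rfl
  -- the product of the orbit is trivial
  have hP : ∀ v : V, ∏ c, mu c v = 1 := by
    let P : V →* ℂˣ :=
      { toFun := fun v => ∏ c, mu c v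
        map_one' := by simp
        map_mul' := fun a b => by simp [Finset.prod_mul_distrib] }
    have hPinv : ∀ x v, P (f x v) = P v := by
      intro x v
      change ∏ c, mu c (f x v) = ∏ c, mu c v
      rw [Finset.prod_congr rfl (fun c _ => hmu x c v)]
      exact Fintype.prod_equiv (MulAction.toPerm x⁻¹) _ _ (fun c => rfl)
    have h1 := hirr P.ker (fun x v hv => by
      rw [MonoidHom.mem_ker, hPinv]; exact hv)
    rcases h1 with h1 | h1
    · exfalso
      have h2 : Function.Injective P := (MonoidHom.ker_eq_bot_iff P).1 h1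
      have h3 : Function.Injective (fun v : V => (⟨P v, char_pow hpow P v⟩ : rootsOfUnity q ℂ)) := by
        intro a b hab
        exact h2 (congrArg Subtype.val hab)
      have : Finite (rootsOfUnity q ℂ) := inferInstance
      have h4 := Nat.card_le_card_of_injective _ h3
      rw [Complex.card_rootsOfUnity, hc] at h4
      have h5 : q ^ 2 ≤ q ^ d := Nat.pow_le_pow_right hq.out.pos hd
      have h6 := hq.out.two_le
      nlinarith
    · intro v
      have h2 : v ∈ P.ker := by rw [h1]; trivial
      exact h2
  -- injection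
  have hinj : Function.Injective (fun (v : V) (c : {c : X ⧸ stab f lam // c ≠ c₀}) =>
      (⟨mu c.1 v, char_pow hpow (mu c.1) v⟩ : rootsOfUnity q ℂ)) := by
    intro v w hvw
    have h1 : ∀ c, c ≠ c₀ → mu c (v * w⁻¹) = 1 := by
      intro c hc
      have h2 : mu c v = mu c w := congrArg Subtype.val (congrFun hvw ⟨c, hc⟩)
      rw [map_mul, map_inv, h2, mul_inv_cancel]
    have h3 := hP (v * w⁻¹)
    have h4 : mu c₀ (v * w⁻¹) = 1 := by
      rw [Finset.prod_eq_single c₀ (fun c _ hc => h1 c hc)
        (fun h => absurd (Finset.mem_univ _) h)] at h3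
      exact h3
    have h5 : v * w⁻¹ = 1 := hW _ (fun c => by
      by_cases hc : c = c₀
      · rw [hc, h4]
      · exact h1 c hc)
    exact mul_inv_eq_one.1 h5
  have : Finite (rootsOfUnity q ℂ) := inferInstance
  have h6 := Nat.card_le_card_of_injective _ hinj
  rw [Nat.card_fun, Complex.card_rootsOfUnity, hc] at h6
  have h7 : Nat.card {c : X ⧸ stab f lam // c ≠ c₀} = (stab f lam).index - 1 := by
    rw [Subgroup.index_eq_card, Nat.card_eq_fintype_card, Nat.card_eq_fintype_card,
      Fintype.card_subtype_compl, Fintype.card_subtype_eq]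
  rw [h7] at h6
  have h8 : d ≤ (stab f lam).index - 1 := (Nat.pow_le_pow_iff_right hq.out.one_lt).1 h6
  have h9 : 0 < (stab f lam).index := Nat.pos_of_ne_zero Subgroup.FiniteIndex.index_ne_zero
  omega

/-- the stabilizer of a character acts faithfully on a coset of the kernel. -/
theorem stab_PB {p q d : ℕ} [hq : Fact q.Prime] [Finite X] (hpow : ∀ x : V, x ^ q = 1)
    (hc : Nat.card V = q ^ (d + 1)) (f : X →* MulAut V) (hf : Function.Injective f)
    (lam : V →* ℂˣ) (hlam : lam ≠ 1) (hp : ¬ p ∣ Nat.card X) (hPB : PB p (q ^ d)) :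
    Nat.card (ConjClasses (stab f lam)) ^ 2 ≤ PermRed.sq (q ^ d) := by
  classical
  have h0 := card_ker_char hpow hc lam hlam
  obtain ⟨v₀, hv₀⟩ : ∃ v₀, lam v₀ ≠ 1 := by
    by_contra hcon
    push Not at hcon
    exact hlam (MonoidHom.ext hcon)
  let g : stab f lam →* Equiv.Perm {v : V // lam v = lam v₀} :=
    { toFun := fun x =>
        { toFun := fun v => ⟨f x.1 v.1, by rw [x.2 v.1, v.2]⟩
          invFun := fun v => ⟨f x.1⁻¹ v.1, by rw [(stab f lam).inv_mem x.2 v.1, v.2]⟩
          left_inv := fun v => by
            apply Subtype.ext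
            change f x.1⁻¹ (f x.1 v.1) = v.1
            rw [← MulAut.mul_apply, ← map_mul, inv_mul_cancel, map_one, MulAut.one_apply]
          right_inv := fun v => by
            apply Subtype.ext
            change f x.1 (f x.1⁻¹ v.1) = v.1
            rw [← MulAut.mul_apply, ← map_mul, mul_inv_cancel, map_one, MulAut.one_apply] }
      map_one' := by
        ext v
        change f 1 v.1 = v.1
        rw [map_one, MulAut.one_apply]
      map_mul' := fun x y => by
        ext v
        change f (x.1 * y.1) v.1 = f x.1 (f y.1 v.1)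
        rw [map_mul, MulAut.mul_apply] }
  have hcard : Nat.card {v : V // lam v = lam v₀} = q ^ d := by
    rw [← h0]
    apply Nat.card_congr
    exact
      { toFun := fun v => ⟨v.1 * v₀⁻¹, by
          rw [MonoidHom.mem_ker, map_mul, v.2, map_inv, mul_inv_cancel]⟩
        invFun := fun v => ⟨v.1 * v₀, by
          have : lam v.1 = 1 := v.2
          rw [map_mul, this, one_mul]⟩
        left_inv := fun v => Subtype.ext (inv_mul_cancel_right _ _)
        right_inv := fun v => Subtype.ext (mul_inv_cancel_right _ _) }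
  refine hPB.of_injective hcard g ?_ (not_dvd_sub hp _)
  rw [injective_iff_map_eq_one]
  intro x hx
  have hidx : (lam.ker.index).Prime := by
    have h2 := Subgroup.card_mul_index lam.ker
    rw [h0, hc, pow_succ] at h2
    rw [Nat.eq_of_mul_eq_mul_left (pow_pos hq.out.pos d) h2]
    exact hq.out
  have hv₀' : f x.1 v₀ = v₀ :=
    congrArg (fun σ : Equiv.Perm {v : V // lam v = lam v₀} => (σ ⟨v₀, rfl⟩).1) hx
  have hker : ∀ v ∈ lam.ker, f x.1 v = v := by
    intro v hv
    have h3 : lam (v * v₀) = lam v₀ := by
      have : lam v = 1 := hv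
      rw [map_mul, this, one_mul]
    have h4 : f x.1 (v * v₀) = v * v₀ :=
      congrArg (fun σ : Equiv.Perm {v : V // lam v = lam v₀} => (σ ⟨v * v₀, h3⟩).1) hx
    rw [map_mul, hv₀'] at h4
    exact mul_right_cancel h4
  apply Subtype.ext
  apply hf
  rw [Subgroup.coe_one, map_one]
  let H : Subgroup V := MonoidHom.eqLocus (f x.1 : V →* V) (MonoidHom.id V)
  have hH : H = ⊤ := by
    have h1 : lam.ker ≤ H := fun v hv => hker v hv
    have h2 : v₀ ∈ H := hv₀'
    have h3 : H.index ∣ lam.ker.index := Subgroup.index_dvd_of_le h1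
    rcases (Nat.dvd_prime hidx).1 h3 with h4 | h4
    · exact Subgroup.index_eq_one.1 h4
    · exfalso
      apply hv₀
      have h5 : lam.ker = H := by
        apply Subgroup.eq_of_le_of_card_ge h1
        have e1 := Subgroup.card_mul_index lam.ker
        have e2 := Subgroup.card_mul_index H
        rw [h4] at e2
        exact le_of_eq (Nat.eq_of_mul_eq_mul_right hidx.pos (e2.trans e1.symm))
      have h6 : v₀ ∈ lam.ker := by rw [h5]; exact h2
      exact h6
  ext v
  have : v ∈ H := by rw [hH]; trivial
  exact this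

/-- `X` acts faithfully on the characters. -/
theorem dualHom_injective (f : X →* MulAut V) (hf : Function.Injective f) :
    Function.Injective (dualHom f) := by
  rw [injective_iff_map_eq_one]
  intro x hx
  have h1 : f x⁻¹ = 1 := by
    ext v
    rw [MulAut.one_apply]
    apply (CommGroup.forall_apply_eq_apply_iff V (M := ℂ)).1
    intro lam
    have h2 := DFunLike.congr_fun (congrArg (fun σ : Equiv.Perm (V →* ℂˣ) => σ lam) hx) v
    exact h2
  have h3 := hf (h1.trans (map_one f).symm)
  rw [inv_eq_one] at h3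
  exact h3

end Cfsg.Agent.H540.LinC
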