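import Cfsg.Agent.H540.ONan
import Cfsg.Agent.H540.SmallSym
import Cfsg.Agent.S0547

/-!
# The class number bound for primitive `p'`-groups from a table of simple groups

* `Row T`: the property of a simple group needed;
* `prim`: `Prim p n` from the table;
* `bound`: `PB p n` from the table.
-/

set_option autoImplicit false
set_option linter.unusedSectionVars false

open MulAction Equiv

namespace Cfsg.Agent.H540.Main

open Cfsg.Agent.H540.ClassNum Cfsg.Agent.H540.PermRed Cfsg.Agent.H540.PermStep
  Cfsg.Agent.H539 Cfsg.Agent.H539.SocBound Cfsg.Agent.H539.CaseB Cfsg.Agent.H540.ONan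
  Cfsg.Agent.H540.Good

/-- The property of the simple groups in the table -/
def Row (T : Type) [Group T] : Prop :=
  Good T ∨
  (Nat.card T = 60 ∧ Nat.card (Cfsg.Out T) ≤ 2 ∧ Nat.card (ConjClasses T) ≤ 5) ∨
  (Nat.card T = 360 ∧ Nat.card (Cfsg.Out T) ≤ 4 ∧ Nat.card (ConjClasses T) ≤ 7) ∨
  (Nat.card T = 168 ∧ Nat.card (Cfsg.Out T) ≤ 2 ∧ Nat.card (ConjClasses T) ≤ 6) ∨
  (Nat.card T = 504 ∧ Nat.card (Cfsg.Out T) ≤ 3 ∧ Nat.card (ConjClasses T) ≤ 13 ∧
    ∃ x : T, orderOf x = 9)

/-- the table -/
def Tab (p : ℕ) : Prop := ∀ (T : Type) [Group T] [Finite T] [IsSimpleGroup T],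
  ¬ IsMulCommutative T → ¬ p ∣ Nat.card T → Row T

theorem idx_ge {T : Type} [Group T] [Finite T] [IsSimpleGroup T] (hT : ¬ IsMulCommutative T)
    {c b : ℕ} (hc : Nat.card T = c) (h : ¬ 2 * c ∣ (b - 1).factorial) (K : Subgroup T) (hK : K ≠ ⊤) :
    b ≤ K.index := by
  by_contra hcon
  push Not at hcon
  apply h
  have h1 := SmallSimple.Embed.two_mul_card_dvd_factorial_index hT K hK
  rw [hc] at h1
  exact h1.trans (Nat.factorial_dvd_factorial (by omega))

/-- `IdxOK` from the table -/
theorem Row.idxOK {T : Type} [Group T] [Finite T] [IsSimpleGroup T] (hT : ¬ IsMulCommutative T)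
    (h : Row T) : IdxOK T := by
  rcases h with h | ⟨hc, ho, hk⟩ | ⟨hc, ho, hk⟩ | ⟨hc, ho, hk⟩ | ⟨hc, ho, hk, -⟩
  · intro K hK
    have h1 := h K hK
    have h5 := SmallSimple.Embed.five_le_index hT K hK
    rw [mul_comm] at h1
    by_contra hcon
    push Not at hcon
    have h2 : (2 ^ (K.index - 1)) ^ 2 < 2 ^ K.index :=
      lt_of_lt_of_le (Nat.pow_lt_pow_left hcon (by norm_num)) h1
    rw [← pow_mul] at h2
    have h3 := (Nat.pow_lt_pow_iff_right (by norm_num : 1 < 2)).1 h2
    omega
  · exact IdxOK.of_k ho hk (SmallSimple.Embed.five_le_index hT) (by norm_num)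
  · exact IdxOK.of_k ho hk (idx_ge hT (b := 6) hc (by decide)) (by norm_num)
  · exact IdxOK.of_k ho hk (SmallSimple.Embed.five_le_index hT) (by norm_num)
  · exact IdxOK.of_k ho hk (idx_ge hT (b := 7) hc (by decide)) (by norm_num)

/-- Jordan: a primitive group of order prime to `p ∈ {3, 5, 7}` and degree `≥ 7` does not contain a full
Sylow `r`-subgroup of the symmetric group. -/
theorem jordan_absurd {n : ℕ} (hn : 7 ≤ n) (S : Subgroup (Perm (Fin n))) (hS : IsPreprimitive S (Fin n))
    {p : ℕ} (hp3 : p = 3 ∨ p = 5 ∨ p = 7) (hp : ¬ p ∣ Nat.card S) {r k : ℕ} (hr : r.Prime)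
    (h3 : r + 3 ≤ n) (hN : r ^ k ∣ Nat.card S) (hl : ¬ r ^ (k + 1) ∣ n.factorial) : False := by
  obtain ⟨c, hcS, hc, hcs⟩ := EngG.exists_cycle hr (by omega) S hN hl
  have h1 := S0713.result S hS hr (by rw [Fintype.card_fin]; omega)
      (by rw [Fintype.card_fin]; exact h3) hc hcs hcS
  have : Nontrivial (Fin n) := Fin.nontrivial_iff_two_le.2 (by omega)
  have h4 : 2 * Nat.card (alternatingGroup (Fin n)) = n.factorial := by
    rw [two_mul_nat_card_alternatingGroup, Nat.card_perm, Nat.card_eq_fintype_card, Fintype.card_fin]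
  have hpp : p.Prime := by rcases hp3 with rfl | rfl | rfl <;> norm_num
  have h5 : p ∣ n.factorial := (hpp.dvd_factorial).2 (by omega)
  rw [← h4] at h5
  have h6 : p ∣ Nat.card (alternatingGroup (Fin n)) := by
    rcases (Nat.Prime.dvd_mul hpp).1 h5 with h | h
    · exfalso
      have := Nat.le_of_dvd (by norm_num) h
      omega
    · exact h
  exact hp (h6.trans (Subgroup.card_dvd_of_le h1))

theorem not_alt {n : ℕ} (hn : 7 ≤ n) (S : Subgroup (Perm (Fin n)))
    {p : ℕ} (hp3 : p = 3 ∨ p = 5 ∨ p = 7) (hp : ¬ p ∣ Nat.card S) :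
    ¬ alternatingGroup (Fin n) ≤ S := by
  intro h1
  have : Nontrivial (Fin n) := Fin.nontrivial_iff_two_le.2 (by omega)
  have h4 : 2 * Nat.card (alternatingGroup (Fin n)) = n.factorial := by
    rw [two_mul_nat_card_alternatingGroup, Nat.card_perm, Nat.card_eq_fintype_card, Fintype.card_fin]
  have hpp : p.Prime := by rcases hp3 with rfl | rfl | rfl <;> norm_num
  have h5 : p ∣ n.factorial := (hpp.dvd_factorial).2 (by omega)
  rw [← h4] at h5
  have h6 : p ∣ Nat.card (alternatingGroup (Fin n)) := by
    rcases (Nat.Prime.dvd_mul hpp).1 h5 with h | h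
    · exfalso
      have := Nat.le_of_dvd (by norm_num) h
      omega
    · exact h
  exact hp (h6.trans (Subgroup.card_dvd_of_le h1))

section AlmostSimple

variable {n : ℕ} (S : Subgroup (Perm (Fin n))) (hS : IsPreprimitive S (Fin n)) {p : ℕ}
  (hp3 : p = 3 ∨ p = 5 ∨ p = 7) (hp : ¬ p ∣ Nat.card S) (N : Subgroup S) [N.Normal]
  (hC : Subgroup.centralizer (N : Set S) = ⊥) {T : Type} [Group T] [Finite T] [IsSimpleGroup T]
  (hT : ¬ IsMulCommutative T) (e : N ≃* (Fin 1 → T))

include hC e hT in
theorem card_dvd_aut : Nat.card S ∣ Nat.card (Cfsg.Out T) * Nat.card T := by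
  let e1 : N ≃* T := e.trans (MulEquiv.piUnique (fun _ : Fin 1 => T))
  have hinj : Function.Injective (MulAut.conjNormal : S →* MulAut N) := by
    rw [← MonoidHom.ker_eq_bot_iff, eq_bot_iff, ← hC]
    intro x hx
    rw [Subgroup.mem_centralizer_iff]
    intro y hy
    have h1 := congrArg (fun a : MulAut N => ((a ⟨y, hy⟩ : N) : S)) (MonoidHom.mem_ker.1 hx)
    have h2 : x * y * x⁻¹ = y := by
      have h3 := MulAut.conjNormal_apply x (⟨y, hy⟩ : N)
      rw [← h3]
      exact h1
    rw [mul_inv_eq_iff_eq_mul] at h2
    exact h2.symm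
  have h1 := Subgroup.card_dvd_of_injective _ hinj
  rw [Nat.card_congr (MulAut.congr e1).toEquiv, ← H934.OutB.card_out_mul T hT] at h1
  exact h1

include e in
theorem card_N : Nat.card N = Nat.card T :=
  Nat.card_congr (e.trans (MulEquiv.piUnique (fun _ : Fin 1 => T))).toEquiv

include e in
theorem card_T_dvd : Nat.card T ∣ Nat.card S := by
  rw [← card_N S N e]
  exact Subgroup.card_subgroup_dvd_card N

include e in
/-- the case `S = N` -/
theorem k_of_card_eq (h : Nat.card S = Nat.card T) :
    Nat.card (ConjClasses S) = Nat.card (ConjClasses T) := by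
  have h1 : N = ⊤ := Subgroup.eq_top_of_card_eq N (by rw [card_N S N e, h])
  have e1 : S ≃* T := ((Subgroup.topEquiv (G := S)).symm.trans (MulEquiv.subgroupCongr h1.symm)).trans
    (e.trans (MulEquiv.piUnique (fun _ : Fin 1 => T)))
  exact card_conjClasses_congr e1

include hS hp3 hp hC hT e in
/-- almost simple groups -/
theorem almost (h5 : 5 ≤ n) (hdvd : n ∣ Nat.card T) (hidx : ∃ K : Subgroup T, K ≠ ⊤ ∧ K.index = n)
    (hPB : PB p 1) (hrow : Row T) : Nat.card (ConjClasses S) ^ 2 ≤ pr n := by
  have hcore : Nat.card (ConjClasses S) ^ 2 ≤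
      (Nat.card (Cfsg.Out T) * Nat.card (ConjClasses T)) ^ 2 := by
    have h1 := core N hT hC e hp hPB
    have h2 : PermRed.sq 1 = 1 := rfl
    rwa [h2, mul_one, mul_one] at h1
  obtain ⟨K, hK, hKn⟩ := hidx
  have hSn : Nat.card S ∣ n.factorial := by
    have h1 := Subgroup.card_subgroup_dvd_card S
    rwa [Nat.card_perm, Nat.card_eq_fintype_card (α := Fin n), Fintype.card_fin] at h1
  have hTS := card_T_dvd S N e
  have hSA := card_dvd_aut S N hC hT e
  have hpr : ∀ {c : ℕ}, Nat.card (ConjClasses S) ≤ c → c ^ 2 ≤ pr n →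
      Nat.card (ConjClasses S) ^ 2 ≤ pr n := fun h1 h2 => (Nat.pow_le_pow_left h1 2).trans h2
  have hpr' : ∀ {c : ℕ}, Nat.card (Cfsg.Out T) * Nat.card (ConjClasses T) ≤ c → c ^ 2 ≤ pr n →
      Nat.card (ConjClasses S) ^ 2 ≤ pr n := fun h1 h2 =>
    hcore.trans ((Nat.pow_le_pow_left h1 2).trans h2)
  have hpow : ∀ {c m : ℕ}, 7 ≤ n → m ≤ n → c ≤ 2 ^ m → c ≤ pr n := fun h7 hm h => by
    rw [pr_large h7]
    exact h.trans (Nat.pow_le_pow_right (by norm_num) hm)
  rcases hrow with h | ⟨hc, ho, hk⟩ | ⟨hc, ho, hk⟩ | ⟨hc, ho, hk⟩ | ⟨hc, ho, hk, x, hx⟩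
  · -- good
    have h1 := h K hK
    rw [hKn, mul_comm] at h1
    refine hcore.trans (h1.trans ?_)
    rcases Nat.lt_or_ge n 7 with h7 | h7
    · interval_cases n <;> decide
    · rw [pr_large h7]
  · -- order 60
    rw [hc] at hTS hSA hdvd
    have hC10 : Nat.card (Cfsg.Out T) * Nat.card (ConjClasses T) ≤ 10 :=
      (Nat.mul_le_mul ho hk).trans (by norm_num)
    rcases Nat.lt_or_ge n 7 with h7 | h7
    · have hn : n = 5 ∨ n = 6 := by omega
      rcases hn with rfl | rfl
      · -- degree 5
        obtain ⟨c, hcS⟩ := hTS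
        have h120 : Nat.factorial 5 = 120 := rfl
        rw [hcS, h120] at hSn
        have hc2 : c ∣ 2 := by
          obtain ⟨d, hd⟩ := hSn
          exact ⟨d, by nlinarith⟩
        rcases (Nat.dvd_prime Nat.prime_two).1 hc2 with rfl | rfl
        · refine hpr (c := 5) ?_ (by decide)
          rw [k_of_card_eq S N e (by rw [hcS, hc])]
          exact hk
        · have htop : S = ⊤ := by
            apply Subgroup.eq_top_of_card_eq
            rw [hcS, Nat.card_perm, Nat.card_eq_fintype_card, Fintype.card_fin]
            rfl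
          refine hpr (c := 7) ?_ (by decide)
          subst htop
          rw [card_conjClasses_congr (Subgroup.topEquiv (G := Perm (Fin 5)))]
          exact SmallSym.card_conjClasses_five
      · exact hpr' hC10 (by decide)
    · exact hpr' hC10 (hpow h7 h7 (by norm_num))
  · -- order 360
    have h360 := hc
    rw [hc] at hTS hSA hdvd
    have hC28 : Nat.card (Cfsg.Out T) * Nat.card (ConjClasses T) ≤ 28 :=
      (Nat.mul_le_mul ho hk).trans (by norm_num)
    rcases Nat.lt_or_ge n 10 with h10 | h10
    · have hn : n = 5 ∨ n = 6 ∨ n = 7 ∨ n = 8 ∨ n = 9 := by omega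
      rcases hn with rfl | rfl | rfl | rfl | rfl
      · exfalso
        have h1 := hTS.trans hSn
        revert h1
        decide
      · obtain ⟨c, hcS⟩ := hTS
        have h120 : Nat.factorial 6 = 720 := rfl
        rw [hcS, h120] at hSn
        have hc2 : c ∣ 2 := by
          obtain ⟨d, hd⟩ := hSn
          exact ⟨d, by nlinarith⟩
        rcases (Nat.dvd_prime Nat.prime_two).1 hc2 with rfl | rfl
        · refine hpr (c := 7) ?_ (by decide)
          rw [k_of_card_eq S N e (by rw [hcS, hc])]
          exact hk
        · have htop : S = ⊤ := by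
            apply Subgroup.eq_top_of_card_eq
            rw [hcS, Nat.card_perm, Nat.card_eq_fintype_card, Fintype.card_fin]
            rfl
          refine hpr (c := 11) ?_ (by decide)
          subst htop
          rw [card_conjClasses_congr (Subgroup.topEquiv (G := Perm (Fin 6)))]
          exact SmallSym.card_conjClasses_six
      · exfalso
        revert hdvd
        decide
      · exact (jordan_absurd (by norm_num) S hS hp3 hp (r := 5) (k := 1) (by norm_num) (by norm_num)
          (dvd_trans (by norm_num) hTS) (by decide)).elim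
      · exact (jordan_absurd (by norm_num) S hS hp3 hp (r := 5) (k := 1) (by norm_num) (by norm_num)
          (dvd_trans (by norm_num) hTS) (by decide)).elim
    · exact hpr' hC28 (hpow (by omega) h10 (by norm_num))
  · -- order 168
    rw [hc] at hTS hSA hdvd
    have hC12 : Nat.card (Cfsg.Out T) * Nat.card (ConjClasses T) ≤ 12 :=
      (Nat.mul_le_mul ho hk).trans (by norm_num)
    rcases Nat.lt_or_ge n 8 with h8 | h8
    · have hn : n = 5 ∨ n = 6 ∨ n = 7 := by omega
      rcases hn with rfl | rfl | rfl
      · exfalso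
        have h1 := hTS.trans hSn
        revert h1
        decide
      · exfalso
        have h1 := hTS.trans hSn
        revert h1
        decide
      · obtain ⟨c, hcS⟩ := hTS
        have hcle : c ≤ 2 := by
          have h1 := Nat.le_of_dvd (by have := Nat.card_pos (α := Cfsg.Out T); omega) hSA
          rw [hcS] at h1
          have h2 : Nat.card (Cfsg.Out T) * 168 ≤ 2 * 168 := Nat.mul_le_mul_right _ ho
          omega
        have hc0 : c ≠ 0 := by
          rintro rfl
          rw [mul_zero] at hcS
          exact Nat.card_pos.ne' hcS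
        have hc12 : c = 1 ∨ c = 2 := by omega
        rcases hc12 with rfl | rfl
        · refine hpr (c := 6) ?_ (by decide)
          rw [k_of_card_eq S N e (by rw [hcS, hc])]
          exact hk
        · exact (jordan_absurd (by norm_num) S hS hp3 hp (r := 2) (k := 4) (by norm_num) (by norm_num)
            (by rw [hcS]; norm_num) (by decide)).elim
    · exact hpr' hC12 (hpow (by omega) h8 (by norm_num))
  · -- order 504
    rw [hc] at hTS hSA hdvd
    have hC39 : Nat.card (Cfsg.Out T) * Nat.card (ConjClasses T) ≤ 39 :=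
      (Nat.mul_le_mul ho hk).trans (by norm_num)
    rcases Nat.lt_or_ge n 11 with h11 | h11
    · have hn : n = 5 ∨ n = 6 ∨ n = 7 ∨ n = 8 ∨ n = 9 ∨ n = 10 := by omega
      rcases hn with rfl | rfl | rfl | rfl | rfl | rfl
      · exfalso
        revert hdvd
        decide
      · exfalso
        have h1 := hTS.trans hSn
        revert h1
        decide
      · have h7 : 2 * 504 ∣ Nat.factorial 7 := by
          have h1 := SmallSimple.Embed.two_mul_card_dvd_factorial_index hT K hK
          rwa [hc, hKn] at h1
        exfalso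
        have h3 : 3 ^ 2 ∣ Nat.card S := dvd_trans (by norm_num) hTS
        exact jordan_absurd (by norm_num) S hS hp3 hp (r := 3) (k := 2) (by norm_num) (by norm_num)
          h3 (by decide)
      · exfalso
        have h3 : 3 ^ 2 ∣ Nat.card S := dvd_trans (by norm_num) hTS
        exact jordan_absurd (by norm_num) S hS hp3 hp (r := 3) (k := 2) (by norm_num) (by norm_num)
          h3 (by decide)
      · -- degree 9
        refine hpr (c := 19) ?_ (by decide)
        have hA := not_alt (by norm_num) S hp3 hp
        -- element of order 9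
        let j : T →* S := N.subtype.comp
          (e.trans (MulEquiv.piUnique (fun _ : Fin 1 => T))).symm.toMonoidHom
        have hj : Function.Injective j := Subtype.coe_injective.comp
          (e.trans (MulEquiv.piUnique (fun _ : Fin 1 => T))).symm.injective
        have hy9 : orderOf (j x) = 9 := by rw [orderOf_injective j hj, hx]
        have h7 : 7 ∣ Nat.card S := dvd_trans (by norm_num) hTS
        have : Fact (Nat.Prime 7) := ⟨by norm_num⟩
        obtain ⟨z, hz⟩ := exists_prime_orderOf_dvd_card' 7 h7
        let w : ℕ → S := fun r => if r = 7 then z else j x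
        have h1 := EngG.card_conjClasses_le' (G := S) {7, 3} (by
          intro r hr
          simp only [Finset.mem_insert, Finset.mem_singleton] at hr
          rcases hr with rfl | rfl <;> norm_num) w (by
          intro r hr
          simp only [Finset.mem_insert, Finset.mem_singleton] at hr
          rcases hr with rfl | rfl
          · exact ⟨1, by simp [w, hz]⟩
          · exact ⟨2, by simp [w, hy9]⟩)
        have hw7 : w 7 = z := by simp [w]
        have hw3 : w 3 = j x := by simp [w]
        rw [Finset.sum_pair (by norm_num), Finset.prod_pair (by norm_num), hw7, hw3] at h1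
        have h2 := SmallSym.card_centralizer_seven S hS hA z hz
        have h3 : Nat.card (Subgroup.centralizer ({j x} : Set S)) ≤ 9 := by
          have hx' : orderOf ((j x : S) : Perm (Fin 9)) = 9 := by rw [Subgroup.orderOf_coe, hy9]
          refine le_trans ?_ (SmallSym.card_centralizer_nine _ hx').le
          have hmap : (Subgroup.centralizer ({j x} : Set S)).map S.subtype ≤
              Subgroup.centralizer ({((j x : S) : Perm (Fin 9))} : Set (Perm (Fin 9))) := by
            rintro _ ⟨y, hy, rfl⟩
            have h3 := Subgroup.mem_centralizer_singleton_iff.1 hy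
            rw [Subgroup.mem_centralizer_singleton_iff]
            exact congrArg Subtype.val h3
          have hcard : Nat.card ((Subgroup.centralizer ({j x} : Set S)).map S.subtype) =
              Nat.card (Subgroup.centralizer ({j x} : Set S)) :=
            (Nat.card_congr (((Subgroup.centralizer ({j x} : Set S)).equivMapOfInjective S.subtype
              S.subtype_injective).toEquiv)).symm
          rw [← hcard]
          exact Subgroup.card_le_of_le hmap
        have h4 : Nat.card S ≤ 1512 := by
          have h5 := Nat.le_of_dvd (by have := Nat.card_pos (α := Cfsg.Out T); omega) hSA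
          have h6 : Nat.card (Cfsg.Out T) * 504 ≤ 3 * 504 := Nat.mul_le_mul_right _ ho
          omega
        have h5 : Nat.card S / (7 * 3) ^ 2 ≤ 3 := by
          have : Nat.card S / (7 * 3) ^ 2 ≤ 1512 / (7 * 3) ^ 2 := Nat.div_le_div_right h4
          refine this.trans (by norm_num)
        omega
      · exfalso
        revert hdvd
        decide
    · exact hpr' hC39 (hpow (by omega) h11 (by norm_num))

end AlmostSimple

/-! ### assembly -/

theorem card_pow {G : Type*} [Group G] (N : Subgroup G) {T : Type*} [Group T] {m : ℕ}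
    (e : N ≃* (Fin m → T)) : Nat.card N = Nat.card T ^ m := by
  rw [Nat.card_congr e.toEquiv, Nat.card_fun, Nat.card_eq_fintype_card (α := Fin m), Fintype.card_fin]

theorem not_dvd_T {G : Type*} [Group G] [Finite G] {p : ℕ} (hp : ¬ p ∣ Nat.card G) (N : Subgroup G)
    {T : Type*} [Group T] {m : ℕ} (hm : 0 < m) (e : N ≃* (Fin m → T)) : ¬ p ∣ Nat.card T := by
  intro h
  apply hp
  refine (h.trans (dvd_pow_self _ (by omega : m ≠ 0))).trans ?_
  rw [← card_pow N e]
  exact Subgroup.card_subgroup_dvd_card N

/-- small degrees: the minimal normal subgroups are abelian. -/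
theorem prim_small {p n : ℕ} (ih : ∀ m, m < n → PB p m) (hn : n < 5) : Prim p n := by
  intro S hS hp
  by_cases hbot : (⊤ : Subgroup S) = ⊥
  · have h1 : Nat.card S = 1 := by
      rw [← Subgroup.card_top, hbot, Subgroup.card_bot]
    have h2 := card_conjClasses_le_card (G := S)
    rw [h1] at h2
    have h3 : 1 ≤ pr n := by
      interval_cases n <;> decide
    exact (Nat.pow_le_pow_left h2 2).trans h3
  · obtain ⟨N, -, hNn, hN0, hmin⟩ := Asm.exists_min_normal (⊤ : Subgroup S) hbot
    have hab : IsMulCommutative N := by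
      by_contra hab
      have h60 := H168.NoSolv.sixty_le (Asm.not_solvable N hN0 hmin hab)
      have h1 : Nat.card N ≤ Nat.card S := Subgroup.card_le_card_group N
      have h2 : Nat.card S ≤ n.factorial := by
        have h3 := Subgroup.card_le_card_group S
        rwa [Nat.card_perm, Nat.card_eq_fintype_card (α := Fin n), Fintype.card_fin] at h3
      have h3 : n.factorial ≤ Nat.factorial 4 := Nat.factorial_le (by omega)
      have h4 : Nat.factorial 4 = 24 := rfl
      omega
    exact AffFinal.affine ih (by simp) hp hS N hN0 (fun a ha b hb =>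
      congrArg Subtype.val (hab.is_comm.comm (⟨a, ha⟩ : N) ⟨b, hb⟩))

/-- degrees at least `5`. -/
theorem prim_large {p n : ℕ} (hp3 : p = 3 ∨ p = 5 ∨ p = 7) (tab : Tab p)
    (ih : ∀ m, m < n → PB p m) (hn : 5 ≤ n) : Prim p n := by
  intro S hS hp
  have hc : Nat.card (Fin n) = n := by simp
  have ih' : ∀ m, m < Nat.card (Fin n) → PB p m := by rw [hc]; exact ih
  have hprn : 2 ^ n ≤ pr n := by
    rcases Nat.lt_or_ge n 7 with h7 | h7
    · interval_cases n <;> decide
    · rw [pr_large h7]
  let a : Fin n := ⟨0, by omega⟩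
  have hS0 : (⊤ : Subgroup S) ≠ ⊥ := by
    intro h
    obtain ⟨g, hg⟩ := MulAction.IsPretransitive.exists_smul_eq (M := S) a ⟨1, by omega⟩
    have h1 : g ∈ (⊤ : Subgroup S) := trivial
    rw [h, Subgroup.mem_bot] at h1
    rw [h1, one_smul] at hg
    have := congrArg Fin.val hg
    simp [a] at this
  obtain ⟨N, -, hNn, hN0, hmin⟩ := Asm.exists_min_normal (⊤ : Subgroup S) hS0
  have hNt : IsPretransitive N (Fin n) := Asm.trans_of_normal N hN0
  by_cases hab : IsMulCommutative N
  · exact AffFinal.affine ih (by simp) hp hS N hN0 (fun a ha b hb =>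
      congrArg Subtype.val (hab.is_comm.comm (⟨a, ha⟩ : N) ⟨b, hb⟩))
  · by_cases huniq : ∀ L : Subgroup S, L.Normal → L ≠ ⊥ →
      (∀ M : Subgroup S, M.Normal → M ≤ L → M = ⊥ ∨ M = L) → L = N
    · have hC : Subgroup.centralizer (N : Set S) = ⊥ := by
        by_contra hne
        have hCn : (Subgroup.centralizer (N : Set S)).Normal := inferInstance
        obtain ⟨L, hLC, hLn, hL0, hLmin⟩ := Asm.exists_min_normal _ hne
        have h1 := huniq L hLn hL0 hLmin
        rw [h1] at hLC
        apply hab
        refine ⟨⟨fun x y => Subtype.ext ?_⟩⟩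
        exact (Subgroup.mem_centralizer_iff.1 (hLC y.2)) x.1 x.2
      obtain ⟨T, instT, m, e, hTs, hTna, hm0, hcase⟩ :=
        S0723.result S N hN0 hmin huniq hab a
      have hTf : Finite T := Finite.of_injective _ (SocBound.io_injective N e ⟨0, hm0⟩)
      have hrow : Row T := tab T hTna (not_dvd_T hp N hm0 e)
      have hOK : IdxOK T := hrow.idxOK hTna
      rcases hcase with ⟨K, hK, hstab⟩ | ⟨k, c, hk, hcc, hstab⟩
      · rcases Nat.lt_or_ge m 2 with hm2 | hm2
        · have hm1 : m = 1 := by omega
          subst hm1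
          have h0 := degree_product N e a K hstab
          rw [hc] at h0
          simp only [Finset.univ_unique, Fin.default_eq_zero, Fin.isValue,
            Finset.prod_singleton] at h0
          refine almost S hS hp3 hp N hC hTna e hn ?_ ⟨K 0, hK 0, h0.symm⟩ (ih 1 (by omega)) hrow
          rw [h0]
          exact Subgroup.index_dvd_card (K 0)
        · have h1 := product N hTna hC e a hp ih' hOK hm2 K hK hstab
          rw [hc] at h1
          exact h1.trans hprn
      · have h1 := diagonal N hTna hC e a hp ih' hOK hm0 k c hk hcc hstab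
        rw [hc] at h1
        exact h1.trans hprn
    · push Not at huniq
      obtain ⟨L, hLn, hL0, hLmin, hLN⟩ := huniq
      have hLt : IsPretransitive L (Fin n) := Asm.trans_of_normal L hL0
      obtain ⟨hregL, hreg, -, ⟨ε⟩, -, hcen, -⟩ :=
        S0704.result S L N hL0 hN0 hLmin hmin hLN hLt hNt
      -- the centralizer
      have hCN : Subgroup.centralizer (N : Set S) = L := by
        ext x
        rw [Subgroup.mem_centralizer_iff]
        have h1 : (x : Perm (Fin n)) ∈ Subgroup.centralizer
            ((N.map S.subtype : Subgroup (Perm (Fin n))) : Set (Perm (Fin n))) ↔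
            (x : Perm (Fin n)) ∈ L.map S.subtype := by rw [hcen]
        rw [Subgroup.mem_centralizer_iff] at h1
        constructor
        · intro hx
          have h2 := h1.1 (by
            rintro _ ⟨y, hy, rfl⟩
            exact congrArg Subtype.val (hx y hy))
          obtain ⟨z, hz, hzx⟩ := h2
          have : z = x := Subtype.ext hzx
          rwa [← this]
        · intro hx y hy
          have h2 := h1.2 ⟨x, hx, rfl⟩ y ⟨y, hy, rfl⟩
          exact Subtype.ext h2
      have hLN' : L ⊓ N = ⊥ := by
        rcases hmin (L ⊓ N) inferInstance inf_le_right with h | h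
        · exact h
        · exfalso
          have h1 : N ≤ L := by rw [← h]; exact inf_le_left
          rcases hLmin N hNn h1 with h2 | h2
          · exact hN0 h2
          · exact hLN h2.symm
      obtain ⟨T, instT, m, hTs, hm0, ⟨e⟩⟩ := S0721.result N hN0 hmin
      have hTna : ¬ IsMulCommutative T := by
        intro hcomm
        apply hab
        refine ⟨⟨fun x y => ?_⟩⟩
        apply e.injective
        rw [map_mul, map_mul]
        funext i
        exact hcomm.is_comm.comm _ _
      have hTf : Finite T := Finite.of_injective _ (SocBound.io_injective N e ⟨0, hm0⟩)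
      have hrow : Row T := tab T hTna (not_dvd_T hp N hm0 e)
      have hOK : IdxOK T := hrow.idxOK hTna
      have hcard := CaseA.card_regular N a (hreg a)
      have h1 := two L N hLN' hCN hTna e (ε.trans e) hp (n := n) (by rw [hcard, hc]) hm0 ih hOK
      exact h1.trans hprn

/-- **Primitive groups** -/
theorem prim {p n : ℕ} (hp3 : p = 3 ∨ p = 5 ∨ p = 7) (tab : Tab p)
    (ih : ∀ m, m < n → PB p m) : Prim p n := by
  rcases Nat.lt_or_ge n 5 with h | h
  · exact prim_small ih h
  · exact prim_large hp3 tab ih h

/-- **All permutation groups** -/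
theorem bound {p : ℕ} (hp3 : p = 3 ∨ p = 5 ∨ p = 7) (tab : Tab p) (n : ℕ) : PB p n := by
  induction n using Nat.strong_induction_on with
  | _ n ih =>
    exact PermStep.step ih fun m hm => prim hp3 tab fun k hk => ih k (lt_of_lt_of_le hk hm)

/-- **S4199 from the table** -/
theorem s4199 {p : ℕ} (hp3 : p = 3 ∨ p = 5 ∨ p = 7) (tab : Tab p) {α : Type*} [Fintype α]
    (S : Subgroup (Perm α)) (hprim : IsPreprimitive S α) (hn : 7 ≤ Fintype.card α)
    (hcop : ¬ p ∣ Nat.card S) : Nat.card (ConjClasses S) ^ 2 ≤ 2 ^ Fintype.card α := by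
  have h1 := (prim hp3 tab (n := Fintype.card α) fun m _ => bound hp3 tab m).of_subgroup
    (by rw [Nat.card_eq_fintype_card]) S hprim hcop
  rwa [pr_large hn] at h1

/-- **S4202 from the table** -/
theorem s4202 {p : ℕ} (hp3 : p = 3 ∨ p = 5 ∨ p = 7) (tab : Tab p) {α : Type*} [Fintype α]
    (S : Subgroup (Perm α)) (hn : 3 ≤ Fintype.card α)
    (hcop : ¬ p ∣ Nat.card S) : Nat.card (ConjClasses S) ^ 2 ≤ 3 ^ (Fintype.card α - 1) := by
  have h1 := (bound hp3 tab (Fintype.card α)).of_injective (G := S) (α := α)
    (by rw [Nat.card_eq_fintype_card]) S.subtype S.subtype_injective hcop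
  rwa [sq_three hn] at h1

end Cfsg.Agent.H540.Main
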