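import Cfsg.Agent.H539.Asm
import Cfsg.Agent.H540.AffFinal
import Cfsg.Agent.H540.EngG
import Cfsg.Agent.S0073
import Cfsg.Agent.S0721

/-!
# The O'Nan–Scott part of the class number bound for `p'`-permutation groups

`prim_cases`: a primitive group of degree `n` and order prime to `p` satisfies `k² ≤ pr n` or its socle
is a non-abelian simple group.
-/

set_option autoImplicit false
set_option linter.unusedSectionVars false

open MulAction

namespace Cfsg.Agent.H540.ONan

open Cfsg.Agent.H540.ClassNum Cfsg.Agent.H540.PermRed Cfsg.Agent.H540.PermStep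
  Cfsg.Agent.H539 Cfsg.Agent.H539.SocBound Cfsg.Agent.H539.CaseB

/-! ### arithmetic -/

theorem sq_le_four {m : ℕ} (hm : 1 ≤ m) : PermRed.sq m ≤ 4 ^ (m - 1) := by
  rcases Nat.lt_or_ge m 3 with h | h
  · interval_cases m <;> decide
  · rw [sq_three h]
    exact Nat.pow_le_pow_left (by norm_num) _

theorem two_mul_le {d m : ℕ} (hd : 5 ≤ d) (hm : 2 ≤ m) : 2 * m * d ≤ d ^ m := by
  obtain ⟨k, rfl⟩ : ∃ k, m = k + 2 := ⟨m - 2, by omega⟩
  induction k with
  | zero =>
    rw [zero_add, pow_two]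
    exact Nat.mul_le_mul_right _ (by omega)
  | succ k ih =>
    have e : k + 1 + 2 = (k + 2) + 1 := by ring
    rw [e, pow_succ]
    have h1 := ih (by omega)
    calc 2 * (k + 2 + 1) * d ≤ (2 * (k + 2) * d) * 5 := by nlinarith
      _ ≤ d ^ (k + 2) * d := Nat.mul_le_mul h1 hd

/-- `C ^ (a) * 4 ^ b ≤ 2 ^ n` -/
theorem num {C d a b n : ℕ} (hC : C ≤ 2 ^ (d - 1)) (hd : 1 ≤ d) (hab : 2 * b ≤ a) (hn : a * d ≤ n) :
    C ^ a * 4 ^ b ≤ 2 ^ n := by
  have h4 : (4 : ℕ) ^ b = 2 ^ (2 * b) := by rw [pow_mul]; norm_num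
  rw [h4]
  calc C ^ a * 2 ^ (2 * b) ≤ (2 ^ (d - 1)) ^ a * 2 ^ (2 * b) :=
        Nat.mul_le_mul_right _ (Nat.pow_le_pow_left hC a)
    _ = 2 ^ ((d - 1) * a + 2 * b) := by rw [← pow_mul, ← pow_add]
    _ ≤ 2 ^ n := by
      apply Nat.pow_le_pow_right (by norm_num)
      obtain ⟨k, rfl⟩ : ∃ k, d = k + 1 := ⟨d - 1, by omega⟩
      rw [Nat.add_sub_cancel]
      have : a * (k + 1) = k * a + a := by ring
      omega

/-- a proper subgroup of order at least `4` -/
theorem exists_sub {T : Type*} [Group T] [Finite T] [IsSimpleGroup T] (hT : ¬ IsMulCommutative T) :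
    ∃ K : Subgroup T, K ≠ ⊤ ∧ 4 * K.index ≤ Nat.card T := by
  have hT' : ∃ x y : T, x * y ≠ y * x := by
    by_contra hcon
    push Not at hcon
    exact hT ⟨⟨hcon⟩⟩
  have key : ∃ r : ℕ, r.Prime ∧ r ^ 2 ∣ Nat.card T ∧ r ^ 2 < Nat.card T := by
    have h4 := SmallSimple.Embed.four_lt_card_of_not_comm hT
    rcases S0073.result hT' with h | h
    · have hr : (Nat.card T).minFac.Prime := Nat.minFac_prime (by omega)
      refine ⟨_, hr, (pow_dvd_pow _ (by norm_num)).trans h, ?_⟩
      refine lt_of_lt_of_le (Nat.pow_lt_pow_right hr.one_lt (by norm_num : 2 < 3)) ?_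
      exact Nat.le_of_dvd Nat.card_pos h
    · exact ⟨2, Nat.prime_two, dvd_trans (by norm_num) h, by omega⟩
  obtain ⟨r, hr, h1, h2⟩ := key
  have := Fact.mk hr
  obtain ⟨K, hK⟩ := Sylow.exists_subgroup_card_pow_prime r h1
  refine ⟨K, ?_, ?_⟩
  · rintro rfl
    rw [Subgroup.card_top] at hK
    omega
  · rw [← K.card_mul_index, hK]
    exact Nat.mul_le_mul_right _ (by nlinarith [hr.two_le])

section Core

variable {G : Type*} [Group G] [Finite G] (N : Subgroup G) [N.Normal] {T : Type*} [Group T]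
  [IsSimpleGroup T] (hT : ¬ IsMulCommutative T) (hC : Subgroup.centralizer (N : Set G) = ⊥) {m : ℕ}
  (e : N ≃* (Fin m → T))

include hT hC e

theorem core {p : ℕ} (hp : ¬ p ∣ Nat.card G) (hPB : PB p m) : Nat.card (ConjClasses G) ^ 2 ≤
    (Nat.card (Cfsg.Out T) * Nat.card (ConjClasses T)) ^ (2 * m) * PermRed.sq m := by
  obtain ⟨π, hπ⟩ := card_conjClasses_le N hC hT e
  have h1 := hPB.range (α := Fin m) (by simp) π hp
  calc Nat.card (ConjClasses G) ^ 2 ≤ ((Nat.card (Cfsg.Out T) * Nat.card (ConjClasses T)) ^ m *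
        Nat.card (ConjClasses π.range)) ^ 2 := Nat.pow_le_pow_left hπ 2
    _ = (Nat.card (Cfsg.Out T) * Nat.card (ConjClasses T)) ^ (2 * m) *
        Nat.card (ConjClasses π.range) ^ 2 := by rw [mul_pow, ← pow_mul, mul_comm m 2]
    _ ≤ _ := Nat.mul_le_mul_left _ h1

theorem core' {p : ℕ} (hp : ¬ p ∣ Nat.card G) (hPB : PB p m) (hm : 1 ≤ m) :
    Nat.card (ConjClasses G) ^ 2 ≤
      (Nat.card (Cfsg.Out T) * Nat.card (ConjClasses T)) ^ (2 * m) * 4 ^ (m - 1) :=
  (core N hT hC e hp hPB).trans (Nat.mul_le_mul_left _ (sq_le_four hm))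

end Core

section Act

variable {G α : Type*} [Group G] [Finite G] [MulAction G α] [Finite α]
  (N : Subgroup G) [N.Normal] [IsPretransitive N α] {T : Type*} [Group T] [Finite T] [IsSimpleGroup T]
  (hT : ¬ IsMulCommutative T) (hC : Subgroup.centralizer (N : Set G) = ⊥) {m : ℕ}
  (e : N ≃* (Fin m → T)) (a : α) {p : ℕ} (hp : ¬ p ∣ Nat.card G)
  (ih : ∀ k, k < Nat.card α → PB p k) (hOK : IdxOK T)

include hT hC e hp ih hOK

/-- product action with `m ≥ 2` factors -/
theorem product (hm : 2 ≤ m) (K : Fin m → Subgroup T) (hK : ∀ i, K i ≠ ⊤)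
    (hstab : ∀ n : N, (n : G) ∈ stabilizer G a ↔ ∀ i, e n i ∈ K i) :
    Nat.card (ConjClasses G) ^ 2 ≤ 2 ^ Nat.card α := by
  have h0 := degree_product N e a K hstab
  obtain ⟨i, _, hi⟩ := Finset.exists_min_image Finset.univ (fun i => (K i).index)
    ⟨⟨0, by omega⟩, Finset.mem_univ _⟩
  have h5 : 5 ≤ (K i).index := SmallSimple.Embed.five_le_index hT (K i) (hK i)
  have hn : (K i).index ^ m ≤ Nat.card α := by
    rw [h0]
    have h1 := Finset.pow_card_le_prod (s := (Finset.univ : Finset (Fin m))) (f := fun i => (K i).index)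
      (n := (K i).index) (fun j hj => hi j hj)
    simpa using h1
  have h2 := two_mul_le h5 hm
  have hmn : m < Nat.card α := by nlinarith
  refine (core' N hT hC e hp (ih m hmn) (by omega)).trans ?_
  exact num (hOK (K i) (hK i)) (by omega) (by omega) (h2.trans hn)

/-- diagonal action -/
theorem diagonal (hm0 : 0 < m) (k : ℕ) (c : Fin m → Fin m) (hk : 2 ≤ k)
    (hc : ∀ j : Fin m, Nat.card {i : Fin m // c i = j} = k ∨
      Nat.card {i : Fin m // c i = j} = 0)
    (hstab : ∀ n : N, (n : G) ∈ stabilizer G a ↔ ∀ i j : Fin m, c i = c j → e n i = e n j) :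
    Nat.card (ConjClasses G) ^ 2 ≤ 2 ^ Nat.card α := by
  have h1 := degree_diagonal N e a c hstab
  have h2 := two_mul_card_range_le hk c hc
  obtain ⟨K, hK, hK4⟩ := exists_sub hT
  have h5 : 5 ≤ K.index := SmallSimple.Embed.five_le_index hT K hK
  set r := Nat.card (Set.range c) with hr
  have ht : 0 < Nat.card T := Nat.card_pos
  have h3 : Nat.card α = Nat.card T ^ (m - r) := by
    have h4 : Nat.card T ^ m = Nat.card T ^ (m - r) * Nat.card T ^ r := by
      rw [← pow_add]
      congr 1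
      omega
    rw [h4] at h1
    exact Nat.eq_of_mul_eq_mul_right (pow_pos ht _) h1
  have h6 := mul_le_pow (d := Nat.card T) (m := m - r) (by omega) (by omega)
  rw [← h3] at h6
  have h7 : 2 * m * K.index ≤ Nat.card α := by
    refine le_trans ?_ h6
    calc 2 * m * K.index ≤ 2 * (2 * (m - r)) * K.index :=
          Nat.mul_le_mul_right _ (Nat.mul_le_mul_left _ (by omega))
      _ = (4 * K.index) * (m - r) := by ring
      _ ≤ _ := Nat.mul_le_mul_right _ hK4
  have hmn : m < Nat.card α := by nlinarith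
  refine (core' N hT hC e hp (ih m hmn) (by omega)).trans ?_
  exact num (hOK K hK) (by omega) (by omega) h7

end Act

/-! ### two minimal normal subgroups -/

section Two

variable {G : Type*} [Group G] [Finite G] (M N : Subgroup G) [M.Normal] [N.Normal]
  (hMN : M ⊓ N = ⊥) (hCN : Subgroup.centralizer (N : Set G) = M) {T : Type*} [Group T] [Finite T]
  [IsSimpleGroup T] (hT : ¬ IsMulCommutative T) {m : ℕ} (e : N ≃* (Fin m → T)) (e' : M ≃* (Fin m → T))

include hMN hCN hT e e' in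
theorem two_aux {p : ℕ} (hp : ¬ p ∣ Nat.card G) (hPB : PB p m) (hm : 1 ≤ m) :
    Nat.card (ConjClasses G) ^ 2 ≤
      (Nat.card (Cfsg.Out T) * Nat.card (ConjClasses T)) ^ (4 * m) * 4 ^ (2 * (m - 1)) := by
  -- the subgroup `M`
  have hMp : ¬ p ∣ Nat.card M := not_dvd_sub hp M
  have hZ : Subgroup.center T = ⊥ := center_eq_bot hT
  have hM : Nat.card (ConjClasses M) ^ 2 ≤
      (Nat.card (Cfsg.Out T) * Nat.card (ConjClasses T)) ^ (2 * m) * 4 ^ (m - 1) := by
    let e1 : (⊤ : Subgroup M) ≃* (Fin m → T) := Subgroup.topEquiv.trans e'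
    refine core' (⊤ : Subgroup M) hT ?_ e1 hMp hPB hm
    rw [eq_bot_iff]
    intro x hx
    rw [Subgroup.mem_bot]
    apply e'.injective
    rw [map_one]
    funext i
    have h1 : e' x i ∈ Subgroup.center T := by
      rw [Subgroup.mem_center_iff]
      intro t
      have h2 := (Subgroup.mem_centralizer_iff.1 hx) (e'.symm (Pi.mulSingle i t)) (Subgroup.mem_top _)
      have h3 := congrFun (congrArg e' h2) i
      rw [map_mul, map_mul, e'.apply_symm_apply, Pi.mul_apply, Pi.mul_apply, Pi.mulSingle_eq_same] at h3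
      exact h3
    rw [hZ, Subgroup.mem_bot] at h1
    exact h1
  -- the quotient `G / M`
  have hQp : ¬ p ∣ Nat.card (G ⧸ M) := fun h => hp (h.trans (Subgroup.card_quotient_dvd_card M))
  have hQ : Nat.card (ConjClasses (G ⧸ M)) ^ 2 ≤
      (Nat.card (Cfsg.Out T) * Nat.card (ConjClasses T)) ^ (2 * m) * 4 ^ (m - 1) := by
    have hinj : Function.Injective ((QuotientGroup.mk' M).comp N.subtype) := by
      rw [← MonoidHom.ker_eq_bot_iff, eq_bot_iff]
      intro x hx
      rw [MonoidHom.mem_ker, MonoidHom.comp_apply, QuotientGroup.mk'_apply,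
        QuotientGroup.eq_one_iff] at hx
      have h1 : (x : G) ∈ M ⊓ N := ⟨hx, x.2⟩
      rw [hMN, Subgroup.mem_bot] at h1
      rw [Subgroup.mem_bot]
      exact Subtype.ext h1
    let N' : Subgroup (G ⧸ M) := N.map (QuotientGroup.mk' M)
    have hrange : ((QuotientGroup.mk' M).comp N.subtype).range = N' := by
      rw [MonoidHom.range_comp, Subgroup.range_subtype]
    have : N'.Normal := Subgroup.Normal.map inferInstance _ (QuotientGroup.mk'_surjective M)
    let e2 : N' ≃* (Fin m → T) :=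
      ((MulEquiv.subgroupCongr hrange.symm).trans (MonoidHom.ofInjective hinj).symm).trans e
    refine core' N' hT ?_ e2 hQp hPB hm
    rw [eq_bot_iff]
    intro y hy
    obtain ⟨g, rfl⟩ := QuotientGroup.mk'_surjective M y
    rw [Subgroup.mem_bot, QuotientGroup.mk'_apply, QuotientGroup.eq_one_iff, ← hCN,
      Subgroup.mem_centralizer_iff]
    intro n hn
    have h1 := (Subgroup.mem_centralizer_iff.1 hy) (QuotientGroup.mk' M n) ⟨n, hn, rfl⟩
    rw [← map_mul, ← map_mul] at h1
    have h2 : (n * g)⁻¹ * (g * n) ∈ M := QuotientGroup.eq.1 h1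
    have h3 : (n * g)⁻¹ * (g * n) ∈ N := by
      have h4 : (n * g)⁻¹ * (g * n) = (g⁻¹ * n⁻¹ * g) * n := by group
      rw [h4]
      refine mul_mem ?_ hn
      have h5 := (inferInstance : N.Normal).conj_mem n⁻¹ (inv_mem hn) g⁻¹
      rwa [inv_inv] at h5
    have h4 : (n * g)⁻¹ * (g * n) ∈ M ⊓ N := ⟨h2, h3⟩
    rw [hMN, Subgroup.mem_bot, inv_mul_eq_one] at h4
    exact h4
  have h1 := le_normal_mul_quotient M
  calc Nat.card (ConjClasses G) ^ 2
      ≤ (Nat.card (ConjClasses M) * Nat.card (ConjClasses (G ⧸ M))) ^ 2 := Nat.pow_le_pow_left h1 2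
    _ = Nat.card (ConjClasses M) ^ 2 * Nat.card (ConjClasses (G ⧸ M)) ^ 2 := mul_pow _ _ _
    _ ≤ _ := Nat.mul_le_mul hM hQ
    _ = _ := by
      have e1 : 4 * m = 2 * m + 2 * m := by ring
      have e2 : 2 * (m - 1) = (m - 1) + (m - 1) := by ring
      rw [e1, e2, pow_add, pow_add]
      ring

include hMN hCN hT e e' in
theorem two {p : ℕ} (hp : ¬ p ∣ Nat.card G) {n : ℕ} (hn : n = Nat.card N) (hm : 1 ≤ m)
    (ih : ∀ k, k < n → PB p k) (hOK : IdxOK T) : Nat.card (ConjClasses G) ^ 2 ≤ 2 ^ n := by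
  have hn' : n = Nat.card T ^ m := by
    rw [hn, Nat.card_congr e.toEquiv, Nat.card_fun, Nat.card_eq_fintype_card (α := Fin m),
      Fintype.card_fin]
  obtain ⟨K, hK, hK4⟩ := exists_sub hT
  have h5 : 5 ≤ K.index := SmallSimple.Embed.five_le_index hT K hK
  have h6 := mul_le_pow (d := Nat.card T) (m := m) (by omega) hm
  rw [← hn'] at h6
  have h7 : 4 * m * K.index ≤ n := by
    refine le_trans ?_ h6
    calc 4 * m * K.index = (4 * K.index) * m := by ring
      _ ≤ _ := Nat.mul_le_mul_right _ hK4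
  have hmn : m < n := by nlinarith
  refine (two_aux M N hMN hCN hT e e' hp (ih m hmn) hm).trans ?_
  exact num (hOK K hK) (by omega) (by omega) h7

end Two

end Cfsg.Agent.H540.ONan
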