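import Cfsg.Agent.H540.Main
import Cfsg.Agent.H539.IdxAlt
import Cfsg.Agent.H525.AltK
import Cfsg.Agent.H525.PslK
import Cfsg.Agent.H436.CompOne
import Cfsg.Agent.S0494
import Cfsg.Agent.S0495
import Cfsg.Agent.S0497
import Cfsg.Agent.S1011
import Cfsg.Agent.S0813
import Cfsg.Agent.H934.OutCl

/-!
# `Row T` for the simple groups of order 60, 168, 360, 504
-/

set_option autoImplicit false

namespace Cfsg.Agent.H540.RowSmall

open Cfsg.Agent.H540.ClassNum Cfsg.Agent.H934.OutB Cfsg.Agent.H934.OutCl Matrix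
open Cfsg.Agent.H540.Main (Row)
open Cfsg.Agent.H540.Good (Good)

variable {T : Type} [Group T] [Finite T] [IsSimpleGroup T]

theorem noncomm {X : Type} [Group X] (hT : ¬ IsMulCommutative T) (e : T ≃* X) : ¬ IsMulCommutative X := by
  intro h
  apply hT
  refine ⟨⟨fun a b => e.injective ?_⟩⟩
  rw [map_mul, map_mul]
  exact h.is_comm.comm _ _

/-- order 60 -/
theorem sixty (h : Nat.card T = 60) : Row T := by
  obtain ⟨e⟩ := S0494.result h
  refine Or.inr (Or.inl ⟨h, ?_, ?_⟩)
  · rw [card_out_congr e, H539.IdxAlt.card_out (n := 5) le_rfl (by norm_num)]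
  · rw [← card_conjClasses_congr e.symm]
    exact H525.AltK.alt_five

/-- `PSL_2(q)` -/
theorem out_psl2 {F : Type} [Field F] [Fintype F] (p f : ℕ) (hp : p.Prime) (hf : 1 ≤ f)
    (hF : Fintype.card F = p ^ f) (h4 : 4 ≤ p ^ f)
    (hs : IsSimpleGroup (ProjectiveSpecialLinearGroup (Fin 2) F))
    (hna : ¬ IsMulCommutative (ProjectiveSpecialLinearGroup (Fin 2) F)) :
    Nat.card (Cfsg.Out (ProjectiveSpecialLinearGroup (Fin 2) F)) = f * Nat.gcd 2 (p ^ f - 1) := by
  have := Fact.mk hp
  have := finite_psl (F := F) 2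
  have h1 := Cfsg.Agent.S0813.result (F := F) p f hf hF 2 (by omega) (fun _ => h4)
  rw [if_pos rfl, card_pgl (by omega), ← mul_assoc, one_mul] at h1
  have h2 := card_out_of_aut hna h1
  rw [h2, hF]

/-- order 168 -/
theorem oneSixtyEight (hT : ¬ IsMulCommutative T) (h : Nat.card T = 168) : Row T := by
  have h7 : Fact (Nat.Prime 7) := ⟨by norm_num⟩
  have hF : Fintype.card (ZMod 7) = 7 := ZMod.card 7
  obtain ⟨e⟩ := S0495.result h hF
  have hs : IsSimpleGroup (ProjectiveSpecialLinearGroup (Fin 2) (ZMod 7)) := e.symm.isSimpleGroup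
  refine Or.inr (Or.inr (Or.inr (Or.inl ⟨h, ?_, ?_⟩)))
  · rw [card_out_congr e, out_psl2 7 1 (by norm_num) le_rfl (by rw [hF]; norm_num) (by norm_num) hs
      (noncomm hT e)]
    norm_num
  · rw [← card_conjClasses_congr e.symm]
    have h1 := H525.PslK.psl2_odd (F := ZMod 7) (by rw [hF]; decide)
    rw [hF] at h1
    omega

/-- order 504 -/
theorem fiveOhFour (hT : ¬ IsMulCommutative T) (h : Nat.card T = 504) : Row T := by
  classical
  let F := GaloisField 2 3
  have hF8 : Nat.card F = 8 := by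
    have := GaloisField.card 2 3 (by norm_num)
    rw [this]; norm_num
  have hFf : Finite F := Nat.finite_of_card_ne_zero (by rw [hF8]; norm_num)
  have : Fintype F := Fintype.ofFinite F
  have hF : Fintype.card F = 8 := by rw [← Nat.card_eq_fintype_card, hF8]
  obtain ⟨e⟩ := S1011.result h hF
  have hs : IsSimpleGroup (ProjectiveSpecialLinearGroup (Fin 2) F) := e.symm.isSimpleGroup
  refine Or.inr (Or.inr (Or.inr (Or.inr ⟨h, ?_, ?_, ?_⟩)))
  · rw [card_out_congr e, out_psl2 2 3 (by norm_num) (by norm_num) (by rw [hF]; norm_num)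
      (by norm_num) hs (noncomm hT e)]
    norm_num
  · rw [← card_conjClasses_congr e.symm]
    have h1 := H525.PslK.psl2_even (F := F) (by rw [hF]; decide)
    rw [hF] at h1
    omega
  · obtain ⟨x, hx⟩ := H436.CompOne.exists_add F
    refine ⟨e.symm x, ?_⟩
    rw [MulEquiv.orderOf_eq, hx, hF]
    norm_num

/-- order 360 -/
theorem threeSixty (h : Nat.card T = 360) (hT : ¬ IsMulCommutative T) : Row T := by
  classical
  obtain ⟨e₀⟩ := S0497.result h
  let F := GaloisField 3 2
  have hF9 : Nat.card F = 9 := by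
    have := GaloisField.card 3 2 (by norm_num)
    rw [this]; norm_num
  have hFf : Finite F := Nat.finite_of_card_ne_zero (by rw [hF9]; norm_num)
  have : Fintype F := Fintype.ofFinite F
  have hF : Fintype.card F = 9 := by rw [← Nat.card_eq_fintype_card, hF9]
  obtain ⟨e₁⟩ := S0254.result hF
  have e := e₀.trans e₁.symm
  have hs : IsSimpleGroup (ProjectiveSpecialLinearGroup (Fin 2) F) := e.symm.isSimpleGroup
  refine Or.inr (Or.inr (Or.inl ⟨h, ?_, ?_⟩))
  · rw [card_out_congr e, out_psl2 3 2 (by norm_num) (by norm_num) (by rw [hF]; norm_num)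
      (by norm_num) hs (noncomm hT e)]
    norm_num
  · rw [← card_conjClasses_congr e₀.symm]
    exact H525.AltK.alt_six

/-- **the four small orders** -/
theorem row (hT : ¬ IsMulCommutative T)
    (h : Nat.card T = 60 ∨ Nat.card T = 168 ∨ Nat.card T = 360 ∨ Nat.card T = 504) : Row T := by
  rcases h with h | h | h | h
  · exact sixty h
  · exact oneSixtyEight hT h
  · exact threeSixty h hT
  · exact fiveOhFour hT h

end Cfsg.Agent.H540.RowSmall
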