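import Cfsg.Agent.H540.ClassNum

/-!
# Class numbers: subgroups of index two

* `index_two` : `2 |K| k(G) = |K| k(K) + 3 ∑_{x ∉ K} |C_K(x)|` for `|G : K| = 2`.
* `swap_bound` : if moreover `N₁, N₂ ⊴ K` meet trivially and are swapped by the elements outside `K`
  then `2 k(G) ≤ k(K) + 3 |K : N₁ N₂| k(N₂)`.
-/

set_option autoImplicit false

namespace Cfsg.Agent.H540.Swap

open Cfsg.Agent.H540.ClassNum

variable {G : Type*} [Group G]

theorem cent_top_of_not_mem [Finite G] (K : Subgroup G) (hK : K.index = 2) {x : G} (hx : x ∉ K) :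
    cent x (⊤ : Subgroup G) = 2 * cent x K := by
  rw [cent_top_eq x K, mul_comm]
  congr 1
  have h1 : K.relIndex (Subgroup.centralizer {x}) ∣ 2 := by
    have : K.Normal := Subgroup.normal_of_index_eq_two hK
    rw [← hK]
    exact Subgroup.relIndex_dvd_index_of_normal K _
  rcases (Nat.dvd_prime Nat.prime_two).1 h1 with h | h
  · exfalso
    rw [Subgroup.relIndex_eq_one] at h
    exact hx (h (Subgroup.mem_centralizer_singleton_iff.2 rfl))
  · exact h

theorem index_two [Finite G] (K : Subgroup G) (hK : K.index = 2) [Fintype {x : G // x ∉ K}] :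
    2 * (Nat.card K * Nat.card (ConjClasses G)) =
      Nat.card K * Nat.card (ConjClasses K) + 3 * ∑ x : {x : G // x ∉ K}, cent (x : G) K := by
  classical
  have := Fintype.ofFinite G
  have := Fintype.ofFinite K
  have h1 : Nat.card (ConjClasses G) * Nat.card G =
      ∑ x : K, cent (x : G) (⊤ : Subgroup G) + ∑ x : {x : G // x ∉ K}, cent (x : G) (⊤ : Subgroup G) := by
    rw [card_conjClasses_mul_card]
    have e := Fintype.sum_subtype_add_sum_subtype (fun x : G => x ∈ K) (fun x : G => cent x (⊤ : Subgroup G))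
    rw [← e]
    congr!
  have h2 : ∑ x : {x : G // x ∉ K}, cent (x : G) (⊤ : Subgroup G) =
      2 * ∑ x : {x : G // x ∉ K}, cent (x : G) K := by
    rw [Finset.mul_sum]
    exact Finset.sum_congr rfl fun x _ => cent_top_of_not_mem K hK x.2
  have h3 : ∀ x : G, cent x (⊤ : Subgroup G) = cent x K + Nat.card {y : G // y ∉ K ∧ Commute x y} := by
    intro x
    unfold cent
    rw [← Nat.card_sum]
    apply Nat.card_congr
    exact
      { toFun := fun y => if h : (y : G) ∈ K then Sum.inl ⟨y.1, h, y.2.2⟩ else Sum.inr ⟨y.1, h, y.2.2⟩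
        invFun := fun s => match s with
          | Sum.inl y => ⟨y.1, Subgroup.mem_top _, y.2.2⟩
          | Sum.inr y => ⟨y.1, Subgroup.mem_top _, y.2.2⟩
        left_inv := fun y => by
          by_cases h : (y : G) ∈ K
          · simp [h]
          · simp [h]
        right_inv := fun s => by
          rcases s with y | y
          · simp [y.2.1]
          · simp [y.2.1] }
  have h4 : ∑ x : K, Nat.card {y : G // y ∉ K ∧ Commute (x : G) y} =
      ∑ x : {x : G // x ∉ K}, cent (x : G) K := by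
    have h5 : Nat.card (Σ x : K, {y : G // y ∉ K ∧ Commute (x : G) y}) =
        Nat.card (Σ x : {x : G // x ∉ K}, {y : G // y ∈ K ∧ Commute (x : G) y}) := by
      apply Nat.card_congr
      exact
        { toFun := fun p => ⟨⟨p.2.1, p.2.2.1⟩, ⟨p.1.1, p.1.2, p.2.2.2.symm⟩⟩
          invFun := fun p => ⟨⟨p.2.1, p.2.2.1⟩, ⟨p.1.1, p.1.2, p.2.2.2.symm⟩⟩
          left_inv := fun p => rfl
          right_inv := fun p => rfl }
    rw [Nat.card_sigma, Nat.card_sigma] at h5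
    exact h5
  have h6 : ∑ x : K, cent (x : G) (⊤ : Subgroup G) =
      Nat.card (ConjClasses K) * Nat.card K + ∑ x : {x : G // x ∉ K}, cent (x : G) K := by
    rw [card_conjClasses_subgroup_mul_card, ← h4, ← Finset.sum_add_distrib]
    exact Finset.sum_congr rfl fun x _ => h3 x
  have h7 : Nat.card G = 2 * Nat.card K := by rw [← Subgroup.index_mul_card K, hK]
  rw [h2, h6, h7] at h1
  calc 2 * (Nat.card K * Nat.card (ConjClasses G)) = Nat.card (ConjClasses G) * (2 * Nat.card K) := by ring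
    _ = _ := h1
    _ = _ := by ring

section SwapSec

variable [Finite G] (K N₁ N₂ : Subgroup G)

/-- `|C_L(x)| ≤ |C_{N₂}(x²)|` for `L = N₁ N₂`. -/
theorem cent_sup_le (hcomm : ∀ a ∈ N₁, ∀ b ∈ N₂, a * b = b * a) (hdisj : N₁ ⊓ N₂ = ⊥)
    {x : G} (h12 : ∀ a ∈ N₁, x⁻¹ * a * x ∈ N₂) (h21 : ∀ a ∈ N₂, x⁻¹ * a * x ∈ N₁) :
    cent x (N₁ ⊔ N₂) ≤ cent (x * x) N₂ := by
  classical
  have hdec : ∀ c ∈ N₁ ⊔ N₂, ∃ a ∈ N₁, ∃ b ∈ N₂, c = a * b := by
    intro c hc
    have hmem : c ∈ Subgroup.closure ((N₁ : Set G) ∪ N₂) := by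
      rwa [← Subgroup.sup_eq_closure]
    refine Subgroup.closure_induction (p := fun c _ => ∃ a ∈ N₁, ∃ b ∈ N₂, c = a * b) ?_ ?_ ?_ ?_ hmem
    · rintro y (hy | hy)
      · exact ⟨y, hy, 1, N₂.one_mem, (mul_one y).symm⟩
      · exact ⟨1, N₁.one_mem, y, hy, (one_mul y).symm⟩
    · exact ⟨1, N₁.one_mem, 1, N₂.one_mem, (mul_one _).symm⟩
    · rintro y z _ _ ⟨a, ha, b, hb, rfl⟩ ⟨a', ha', b', hb', rfl⟩
      refine ⟨a * a', N₁.mul_mem ha ha', b * b', N₂.mul_mem hb hb', ?_⟩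
      calc a * b * (a' * b') = a * (b * a') * b' := by group
        _ = a * (a' * b) * b' := by rw [hcomm a' ha' b hb]
        _ = _ := by group
    · rintro y _ ⟨a, ha, b, hb, rfl⟩
      refine ⟨a⁻¹, N₁.inv_mem ha, b⁻¹, N₂.inv_mem hb, ?_⟩
      rw [mul_inv_rev, hcomm _ (N₁.inv_mem ha) _ (N₂.inv_mem hb)]
  have huniq : ∀ a ∈ N₁, ∀ b ∈ N₂, ∀ a' ∈ N₁, ∀ b' ∈ N₂, a * b = a' * b' → a = a' ∧ b = b' := by
    intro a ha b hb a' ha' b' hb' h
    have h1 : a'⁻¹ * a = b' * b⁻¹ := by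
      calc a'⁻¹ * a = a'⁻¹ * (a * b) * b⁻¹ := by group
        _ = a'⁻¹ * (a' * b') * b⁻¹ := by rw [h]
        _ = _ := by group
    have h2 : a'⁻¹ * a ∈ N₁ ⊓ N₂ := ⟨N₁.mul_mem (N₁.inv_mem ha') ha, h1 ▸ N₂.mul_mem hb' (N₂.inv_mem hb)⟩
    rw [hdisj, Subgroup.mem_bot] at h2
    have h3 : a = a' := (inv_mul_eq_one.1 h2).symm
    refine ⟨h3, ?_⟩
    rw [h3] at h
    exact mul_left_cancel h
  -- the key relation
  have key : ∀ a ∈ N₁, ∀ b ∈ N₂, Commute x (a * b) → x⁻¹ * a * x = b ∧ x⁻¹ * b * x = a := by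
    intro a ha b hb hc
    have h1 : x⁻¹ * (a * b) * x = a * b := by
      have := hc.eq
      calc x⁻¹ * (a * b) * x = x⁻¹ * ((a * b) * x) := by group
        _ = x⁻¹ * (x * (a * b)) := by rw [this]
        _ = _ := by group
    have h2 : (x⁻¹ * b * x) * (x⁻¹ * a * x) = a * b := by
      rw [← h1, hcomm a ha b hb]; group
    obtain ⟨e1, e2⟩ := huniq _ (h21 b hb) _ (h12 a ha) a ha b hb h2
    exact ⟨e2, e1⟩
  unfold cent
  choose! f hf g hg hfg using hdec
  refine Nat.card_le_card_of_injective (fun c => ⟨g c.1, hg c.1 c.2.1, ?_⟩) ?_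
  · have h1 := key _ (hf c.1 c.2.1) _ (hg c.1 c.2.1) (by rw [← hfg c.1 c.2.1]; exact c.2.2)
    have h2 : (x * x)⁻¹ * g c.1 * (x * x) = g c.1 := by
      calc (x * x)⁻¹ * g c.1 * (x * x) = x⁻¹ * (x⁻¹ * g c.1 * x) * x := by group
        _ = x⁻¹ * f c.1 * x := by rw [h1.2]
        _ = g c.1 := h1.1
    change x * x * g c.1 = g c.1 * (x * x)
    calc x * x * g c.1 = x * x * ((x * x)⁻¹ * g c.1 * (x * x)) := by rw [h2]
      _ = _ := by group
  · intro c c' h
    have h0 : g c.1 = g c'.1 := congrArg Subtype.val h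
    have h1 := key _ (hf c.1 c.2.1) _ (hg c.1 c.2.1) (by rw [← hfg c.1 c.2.1]; exact c.2.2)
    have h1' := key _ (hf c'.1 c'.2.1) _ (hg c'.1 c'.2.1) (by rw [← hfg c'.1 c'.2.1]; exact c'.2.2)
    apply Subtype.ext
    rw [hfg c.1 c.2.1, hfg c'.1 c'.2.1, ← h1.2, ← h1'.2, h0]

theorem card_compl (hK : K.index = 2) : Nat.card {x : G // x ∉ K} = Nat.card K := by
  have h1 : Nat.card G = Nat.card K + Nat.card {x : G // x ∉ K} := by
    classical
    rw [← Nat.card_congr (Equiv.sumCompl (fun x : G => x ∈ K)), Nat.card_sum]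
  have h2 : Nat.card G = 2 * Nat.card K := by rw [← Subgroup.index_mul_card K, hK]
  omega

/-- for `n₂ ∈ N₂`: `|N₁| #{x ∉ K : x² ∈ C(n₂)} ≤ |K| |C_{N₂}(n₂)|`. -/
theorem card_sq_le (hK : K.index = 2) (h1K : N₁ ≤ K)
    (hcomm : ∀ a ∈ N₁, ∀ b ∈ N₂, a * b = b * a)
    (h12 : ∀ x ∉ K, ∀ a ∈ N₁, x⁻¹ * a * x ∈ N₂) {n : G} (hn : n ∈ N₂) :
    Nat.card N₁ * Nat.card {x : G // x ∉ K ∧ Commute (x * x) n} ≤ Nat.card K * cent n N₂ := by
  classical
  have := Fintype.ofFinite {x : G // x ∉ K}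
  have h1 : Nat.card N₁ * Nat.card {x : G // x ∉ K ∧ Commute (x * x) n} ≤
      Nat.card (Σ x : {x : G // x ∉ K}, {m : N₁ // Commute ((x.1 * m) * (x.1 * m)) n}) := by
    rw [← Nat.card_prod]
    refine Nat.card_le_card_of_injective (fun p => ⟨⟨p.2.1 * (p.1 : G)⁻¹, fun h => p.2.2.1 (by
            have := K.mul_mem h (h1K p.1.2)
            rwa [inv_mul_cancel_right] at this)⟩, ⟨p.1, by
            have := p.2.2.2
            rwa [inv_mul_cancel_right]⟩⟩) ?_
    intro p p' h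
    have e1 : p.2.1 * (p.1 : G)⁻¹ = p'.2.1 * (p'.1 : G)⁻¹ := congrArg (fun s : (Σ x : {x : G // x ∉ K}, {m : N₁ // Commute ((x.1 * m) * (x.1 * m)) n}) => s.1.1) h
    have e2 : p.1 = p'.1 := congrArg (fun s : (Σ x : {x : G // x ∉ K}, {m : N₁ // Commute ((x.1 * m) * (x.1 * m)) n}) => s.2.1) h
    rw [e2] at e1
    exact Prod.ext e2 (Subtype.ext (mul_right_cancel e1))
  refine h1.trans ?_
  rw [Nat.card_sigma]
  have h2 : ∀ x : {x : G // x ∉ K}, Nat.card {m : N₁ // Commute ((x.1 * m) * (x.1 * m)) n} ≤ cent n N₂ := by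
    intro x
    rcases isEmpty_or_nonempty {m : N₁ // Commute ((x.1 * m) * (x.1 * m)) n} with he | ⟨⟨m₀, hm₀⟩⟩
    · rw [Nat.card_of_isEmpty]; exact Nat.zero_le _
    · -- `(x m)² = x² m^x m`
      have e : ∀ m : N₁, (x.1 * m) * (x.1 * m) = (x.1 * x.1) * (x.1⁻¹ * m * x.1) * m := fun m => by group
      have hc : ∀ m : N₁, Commute ((x.1 * m) * (x.1 * m)) n → Commute ((x.1 * x.1) * (x.1⁻¹ * m * x.1)) n := by
        intro m hm
        rw [e] at hm
        have h3 : Commute (m : G) n := hcomm m m.2 n hn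
        have h4 := hm.mul_left h3.inv_left
        rwa [mul_inv_cancel_right] at h4
      unfold cent
      refine Nat.card_le_card_of_injective
        (fun m => ⟨(x.1⁻¹ * (m₀ : G) * x.1)⁻¹ * (x.1⁻¹ * (m.1 : G) * x.1), ?_, ?_⟩) ?_
      · exact N₂.mul_mem (N₂.inv_mem (h12 x.1 x.2 m₀ m₀.2)) (h12 x.1 x.2 m.1 m.1.2)
      · have h5 := ((hc m₀ hm₀).inv_left.mul_left (hc m.1 m.2)).symm
        have h6 : ((x.1 * x.1) * (x.1⁻¹ * (m₀ : G) * x.1))⁻¹ * ((x.1 * x.1) * (x.1⁻¹ * (m.1 : G) * x.1)) =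
          (x.1⁻¹ * (m₀ : G) * x.1)⁻¹ * (x.1⁻¹ * (m.1 : G) * x.1) := by group
        rwa [h6] at h5
      · intro m m' h
        have h7 := congrArg Subtype.val h
        have h8 := mul_left_cancel h7
        have h9 := mul_left_cancel (mul_right_cancel h8)
        exact Subtype.ext (Subtype.ext h9)
  calc ∑ x : {x : G // x ∉ K}, Nat.card {m : N₁ // Commute ((x.1 * m) * (x.1 * m)) n}
      ≤ ∑ _x : {x : G // x ∉ K}, cent n N₂ := Finset.sum_le_sum fun x _ => h2 x
    _ = Nat.card K * cent n N₂ := by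
      rw [Finset.sum_const, Finset.card_univ, ← Nat.card_eq_fintype_card, card_compl K hK, smul_eq_mul]

/-- **The swap bound**: `2 k(G) ≤ k(K) + 3 |K : N₁ N₂| k(N₂)`. -/
theorem swap_bound (hK : K.index = 2) (h1K : N₁ ≤ K) (h2K : N₂ ≤ K)
    (hn1 : ∀ x ∈ K, ∀ a ∈ N₁, x * a * x⁻¹ ∈ N₁) (hn2 : ∀ x ∈ K, ∀ a ∈ N₂, x * a * x⁻¹ ∈ N₂)
    (hdisj : N₁ ⊓ N₂ = ⊥) (h12 : ∀ x ∉ K, ∀ a ∈ N₁, x⁻¹ * a * x ∈ N₂)
    (h21 : ∀ x ∉ K, ∀ a ∈ N₂, x⁻¹ * a * x ∈ N₁) :
    2 * Nat.card (ConjClasses G) ≤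
      Nat.card (ConjClasses K) + 3 * ((N₁ ⊔ N₂).relIndex K * Nat.card (ConjClasses N₂)) := by
  classical
  have := Fintype.ofFinite G
  have := Fintype.ofFinite N₂
  have := Fintype.ofFinite {x : G // x ∉ K}
  have hcomm : ∀ a ∈ N₁, ∀ b ∈ N₂, a * b = b * a := by
    intro a ha b hb
    have h1 : a * b * a⁻¹ * b⁻¹ ∈ N₁ ⊓ N₂ := by
      refine ⟨?_, ?_⟩
      · have h2 := hn1 b (h2K hb) a⁻¹ (N₁.inv_mem ha)
        have : a * b * a⁻¹ * b⁻¹ = a * (b * a⁻¹ * b⁻¹) := by group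
        rw [this]
        exact N₁.mul_mem ha h2
      · exact N₂.mul_mem (hn2 a (h1K ha) b hb) (N₂.inv_mem hb)
    rw [hdisj, Subgroup.mem_bot] at h1
    calc a * b = (a * b * a⁻¹ * b⁻¹) * (b * a) := by group
      _ = b * a := by rw [h1, one_mul]
  set L := N₁ ⊔ N₂ with hL
  have hLK : L ≤ K := sup_le h1K h2K
  set r := L.relIndex K with hr
  have hr0 : r ≠ 0 := Subgroup.index_ne_zero_of_finite
  -- `|C_K(x)| ≤ r |C_L(x)|`
  have hCK : ∀ x : G, cent x K ≤ r * cent x L := by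
    intro x
    rw [cent_eq_card, cent_eq_card]
    have h1 : Nat.card (K ⊓ Subgroup.centralizer {x} : Subgroup G) =
        Nat.card (L ⊓ Subgroup.centralizer {x} : Subgroup G) *
          L.relIndex (K ⊓ Subgroup.centralizer {x}) := by
      have h2 : L ⊓ (K ⊓ Subgroup.centralizer {x}) = L ⊓ Subgroup.centralizer {x} := by
        rw [← inf_assoc, inf_eq_left.2 hLK]
      rw [← Subgroup.inf_relIndex_right L (K ⊓ Subgroup.centralizer {x}), h2,
        ← Subgroup.relIndex_bot_left, ← Subgroup.relIndex_bot_left,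
        Subgroup.relIndex_mul_relIndex _ _ _ bot_le]
      rw [← h2]; exact inf_le_right
    rw [h1, mul_comm]
    refine Nat.mul_le_mul_right _ ?_
    exact Subgroup.relIndex_le_of_le_right inf_le_left hr0
  -- the sum over the complement
  have hS : Nat.card N₁ * ∑ x : {x : G // x ∉ K}, cent (x : G) K ≤
      Nat.card N₁ * (Nat.card K * (r * Nat.card (ConjClasses N₂))) := by
    have hcardN : Nat.card N₁ = Nat.card N₂ := by
      obtain ⟨x, hx⟩ : ∃ x, x ∉ K := by
        by_contra hcon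
        push Not at hcon
        have : K = ⊤ := (Subgroup.eq_top_iff' K).2 hcon
        rw [this, Subgroup.index_top] at hK
        omega
      refine le_antisymm ?_ ?_
      · refine Nat.card_le_card_of_injective (fun a => ⟨x⁻¹ * a * x, h12 x hx a a.2⟩) ?_
        intro a b h
        exact Subtype.ext (mul_left_cancel (mul_right_cancel (congrArg Subtype.val h)))
      · refine Nat.card_le_card_of_injective (fun a => ⟨x⁻¹ * a * x, h21 x hx a a.2⟩) ?_
        intro a b h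
        exact Subtype.ext (mul_left_cancel (mul_right_cancel (congrArg Subtype.val h)))
    calc Nat.card N₁ * ∑ x : {x : G // x ∉ K}, cent (x : G) K
        ≤ Nat.card N₁ * ∑ x : {x : G // x ∉ K}, r * cent (x.1 * x.1) N₂ := by
          refine Nat.mul_le_mul_left _ (Finset.sum_le_sum fun x _ => (hCK x.1).trans ?_)
          exact Nat.mul_le_mul_left _ (cent_sup_le N₁ N₂ hcomm hdisj (h12 x.1 x.2) (h21 x.1 x.2))
      _ = r * ∑ n : N₂, Nat.card N₁ * Nat.card {x : G // x ∉ K ∧ Commute (x * x) (n : G)} := by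
          rw [← Finset.mul_sum, ← Finset.mul_sum, ← mul_assoc, mul_comm (Nat.card N₁) r, mul_assoc]
          congr 2
          have h5 : Nat.card (Σ x : {x : G // x ∉ K}, {y : G // y ∈ N₂ ∧ Commute (x.1 * x.1) y}) =
              Nat.card (Σ n : N₂, {x : G // x ∉ K ∧ Commute (x * x) (n : G)}) := by
            apply Nat.card_congr
            exact
              { toFun := fun p => ⟨⟨p.2.1, p.2.2.1⟩, ⟨p.1.1, p.1.2, p.2.2.2⟩⟩
                invFun := fun p => ⟨⟨p.2.1, p.2.2.1⟩, ⟨p.1.1, p.1.2, p.2.2.2⟩⟩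
                left_inv := fun p => rfl
                right_inv := fun p => rfl }
          rw [Nat.card_sigma, Nat.card_sigma] at h5
          exact h5
      _ ≤ r * ∑ n : N₂, Nat.card K * cent (n : G) N₂ := by
          refine Nat.mul_le_mul_left _ (Finset.sum_le_sum fun n _ => ?_)
          exact card_sq_le K N₁ N₂ hK h1K hcomm h12 n.2
      _ = Nat.card N₁ * (Nat.card K * (r * Nat.card (ConjClasses N₂))) := by
          rw [← Finset.mul_sum, ← card_conjClasses_subgroup_mul_card, hcardN]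
          ring
  have hS' := Nat.le_of_mul_le_mul_left hS Nat.card_pos
  have hpos : 0 < Nat.card K := Nat.card_pos
  refine Nat.le_of_mul_le_mul_left ?_ hpos
  have h0 := index_two K hK
  calc Nat.card K * (2 * Nat.card (ConjClasses G)) = 2 * (Nat.card K * Nat.card (ConjClasses G)) := by ring
    _ = _ := h0
    _ ≤ Nat.card K * Nat.card (ConjClasses K) + 3 * (Nat.card K * (r * Nat.card (ConjClasses N₂))) := by
        refine Nat.add_le_add_left (Nat.mul_le_mul_left _ hS') _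
    _ = _ := by ring

end SwapSec

end Cfsg.Agent.H540.Swap
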