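import Cfsg.Agent.H540.RowSmall
import Cfsg.Agent.H540.Filter
import Cfsg.Agent.H539.GoodPSL
import Cfsg.Agent.H539.GoodCl

/-!
# The table `Tab p` from the rows
-/

set_option autoImplicit false

namespace Cfsg.Agent.H540.TabFin

open Cfsg
open Cfsg.Agent.H540.Main (Row Tab)
open Cfsg.Agent.H540.Good (Good)

/-- a row of the table -/
def GoodRow (P : ∀ (T : Type) [Group T], Prop) : Prop :=
  ∀ (T : Type) [Group T] [Finite T] [IsSimpleGroup T], ¬ IsMulCommutative T → P T → Good T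

theorem card_alt {n : ℕ} (hn : 5 ≤ n) {G : Type} [Group G] (h : Nonempty (G ≃* alternatingGroup (Fin n))) :
    2 * Nat.card G = n.factorial := by
  obtain ⟨e⟩ := h
  rw [Nat.card_congr e.toEquiv, H539.IdxAlt.two_mul_card hn]

theorem key6 {q r : ℕ} (hr : r = 3 ∨ r = 7) : r ∣ q ∨ r ∣ q ^ 6 - 1 := by
  by_cases h : r ∣ q
  · exact Or.inl h
  right
  have h1 : 1 ≤ q := by
    rcases Nat.eq_zero_or_pos q with h0 | h0
    · rw [h0] at h; simp at h
    · exact h0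
  refine (Nat.modEq_iff_dvd' (Nat.one_le_pow _ _ h1)).1 ?_
  rcases hr with rfl | rfl
  · have : q % 3 = 1 ∨ q % 3 = 2 := by omega
    rcases this with h | h <;> simp [Nat.ModEq, Nat.pow_mod, h]
  · have : q % 7 = 1 ∨ q % 7 = 2 ∨ q % 7 = 3 ∨ q % 7 = 4 ∨ q % 7 = 5 ∨ q % 7 = 6 := by omega
    rcases this with h | h | h | h | h | h <;> simp [Nat.ModEq, Nat.pow_mod, h]

theorem g2_dvd (Tb : OrdDiv.OrderTable.{0}) {G : Type} [Group G] (h : Lie.IsoChevG2 G) {r : ℕ}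
    (hr : r = 3 ∨ r = 7) : r ∣ Nat.card G := by
  obtain ⟨F, _, _, -, ⟨e⟩⟩ := h
  rw [Nat.card_congr e.toEquiv, Tb.g2 F]
  rcases key6 (q := Fintype.card F) hr with h | h
  · exact ((h.trans (dvd_pow_self _ (by norm_num))).mul_right _).mul_right _
  · exact h.mul_left _

theorem d4_dvd (Tb : OrdDiv.OrderTable.{0}) {G : Type} [Group G] (h : Lie.Iso3D4 G) {r : ℕ}
    (hr : r = 3 ∨ r = 7) : r ∣ Nat.card G := by
  obtain ⟨F, _, _, q, hq, hF, ⟨e⟩⟩ := h
  rw [Nat.card_congr e.toEquiv, Tb.td4 F q hq hF]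
  rcases key6 (q := q) hr with h | h
  · exact (((h.trans (dvd_pow_self _ (by norm_num))).mul_right _).mul_right _).mul_right _
  · exact (h.mul_left _).mul_right _

theorem f4_dvd (Tb : OrdDiv.OrderTable.{0}) {G : Type} [Group G] (h : Lie.Iso2F4 G) {r : ℕ}
    (hr : r = 3 ∨ r = 5) : r ∣ Nat.card G := by
  obtain ⟨F, _, _, m, hm, hF, ⟨e⟩⟩ := h
  rw [Nat.card_congr e.toEquiv, Tb.tf4 F m hm hF]
  have h2 : (2 : ℕ) ^ (2 * m + 1) % 3 = 2 ∧ (2 : ℕ) ^ (2 * m + 1) % 5 ≠ 0 := by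
    refine ⟨?_, ?_⟩
    · rw [pow_succ, pow_mul, Nat.mul_mod, Nat.pow_mod]
      norm_num
    · intro h0
      have h5 := (by norm_num : Nat.Prime 5).dvd_of_dvd_pow (Nat.dvd_of_mod_eq_zero h0)
      norm_num at h5
  set q := (2 : ℕ) ^ (2 * m + 1) with hq
  rcases hr with rfl | rfl
  · refine Dvd.dvd.mul_right (Dvd.dvd.mul_right (Dvd.dvd.mul_left ?_ _) _) _
    have h3 : (q ^ 3 + 1) % 3 = 0 := by
      rw [Nat.add_mod, Nat.pow_mod, h2.1]
    exact Nat.dvd_of_mod_eq_zero h3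
  · refine Dvd.dvd.mul_right (Dvd.dvd.mul_left ?_ _) _
    have h1 : 1 ≤ q := Nat.one_le_two_pow
    refine (Nat.modEq_iff_dvd' (Nat.one_le_pow _ _ h1)).1 ?_
    have : q % 5 = 1 ∨ q % 5 = 2 ∨ q % 5 = 3 ∨ q % 5 = 4 := by omega
    rcases this with h | h | h | h <;> simp [Nat.ModEq, Nat.pow_mod, h]

theorem tab (hg2 : GoodRow (fun T _ => Lie.IsoChevG2 T ∧ ¬ 5 ∣ Nat.card T))
    (h3d4 : GoodRow (fun T _ => Lie.Iso3D4 T ∧ ¬ 5 ∣ Nat.card T))
    (hsz : GoodRow (fun T _ => Lie.IsoSuzuki T)) (hree : GoodRow (fun T _ => Lie.IsoRee T))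
    (h2f4 : GoodRow (fun T _ => Lie.Iso2F4 T ∧ ¬ 7 ∣ Nat.card T)) (htits : GoodRow (fun T _ => Lie.IsoTits T))
    (hm11 : GoodRow (fun T _ => Spor.IsoM11 T)) (hm12 : GoodRow (fun T _ => Spor.IsoM12 T))
    (hj3 : GoodRow (fun T _ => Spor.IsoJ3 T))
    (Tb : OrdDiv.OrderTable.{0})
    (cls : ∀ (T : Type) [Group T] [Finite T] [IsSimpleGroup T], IsKnownSimple' T)
    {p : ℕ} (hp : p = 3 ∨ p = 5 ∨ p = 7) : Tab p := by
  intro T _ _ _ hT hd
  have hr : ∃ r ∈ ({3, 5, 7} : Set ℕ), ¬ r ∣ Nat.card T := ⟨p, by simpa using hp, hd⟩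
  rcases Filter.filter Tb hT (cls T) hp hd with h | h | h | h | h | h | h | h | h | h | h | h | h | h
  · exact RowSmall.row hT (Or.inl (by
      have h1 := card_alt (n := 5) le_rfl h
      have h2 : Nat.factorial 5 = 120 := rfl
      omega))
  · exact RowSmall.row hT (Or.inr (Or.inr (Or.inl (by
      have h1 := card_alt (n := 6) (by norm_num) h
      have h2 : Nat.factorial 6 = 720 := rfl
      omega))))
  · by_cases h0 : Nat.card T = 60 ∨ Nat.card T = 168 ∨ Nat.card T = 360 ∨ Nat.card T = 504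
    · exact RowSmall.row hT h0
    · push Not at h0
      exact Or.inl (H539.GoodPSL.row T hT h hr h0.1 h0.2.1 h0.2.2.1 h0.2.2.2)
  · exact Or.inl (H539.GoodCl.psp T hT h hr)
  · exact Or.inl (H539.GoodCl.psu T hT h)
  · refine Or.inl (hg2 T hT ⟨h, ?_⟩)
    rcases hp with rfl | rfl | rfl
    · exact absurd (g2_dvd Tb h (Or.inl rfl)) hd
    · exact hd
    · exact absurd (g2_dvd Tb h (Or.inr rfl)) hd
  · refine Or.inl (h3d4 T hT ⟨h, ?_⟩)
    rcases hp with rfl | rfl | rfl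
    · exact absurd (d4_dvd Tb h (Or.inl rfl)) hd
    · exact hd
    · exact absurd (d4_dvd Tb h (Or.inr rfl)) hd
  · exact Or.inl (hsz T hT h)
  · exact Or.inl (hree T hT h)
  · refine Or.inl (h2f4 T hT ⟨h, ?_⟩)
    rcases hp with rfl | rfl | rfl
    · exact absurd (f4_dvd Tb h (Or.inl rfl)) hd
    · exact absurd (f4_dvd Tb h (Or.inr rfl)) hd
    · exact hd
  · exact Or.inl (htits T hT h)
  · exact Or.inl (hm11 T hT h)
  · exact Or.inl (hm12 T hT h)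
  · exact Or.inl (hj3 T hT h)

end Cfsg.Agent.H540.TabFin
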